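import Cfsg.Agent.H90.R3.EvenFree2

/-!
# Rank three groups with a Frobenius suborbit: even complement, kernel semiregular off its fixed point, `d` even.
-/

set_option autoImplicit false

namespace Cfsg.Agent.H90.R3

open Subgroup

variable {G X : Type*} [Group G] [MulAction G X] {D : Dat G X} {n k l f d : ℕ}

theorem no_square {g d' S : ℤ} (hg : 2 ≤ g) (hd : 1 ≤ d') (hS : 0 < S)
    (h : S * S = d' * d' * ((g - 1) * (g - 1)) + 1 + 2 * d' * (2 * g - 1)) : False := by
  have h1 : S < d' * (g - 1) + 3 := by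
    by_contra hlt
    push Not at hlt
    have h0 : 0 ≤ d' * (g - 1) := mul_nonneg (by omega) (by omega)
    have h2 : (d' * (g - 1) + 3) * (d' * (g - 1) + 3) ≤ S * S := mul_le_mul hlt hlt (by omega) (by omega)
    nlinarith [mul_nonneg (by omega : (0 : ℤ) ≤ d') (by omega : (0 : ℤ) ≤ g - 2)]
  rcases eq_or_lt_of_le hd with h2 | h2
  · subst h2
    have h3 : g < S := by
      by_contra hlt
      push Not at hlt
      nlinarith
    have h4 : S < g + 1 := by
      by_contra hlt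
      push Not at hlt
      nlinarith
    omega
  · have h3 : d' * (g - 1) + 2 < S := by
      by_contra hlt
      push Not at hlt
      have h4 : S * S ≤ (d' * (g - 1) + 2) * (d' * (g - 1) + 2) := mul_le_mul hlt hlt (by omega) (by nlinarith)
      nlinarith
    omega

/-- an element of order three has no edges in a triangle free graph -/
theorem no_edge_three [Finite X] (hlam : ∀ {P Q R : X}, D.Adj P Q → D.Adj Q R → D.Adj R P → False) {x : G}
    (hx : x ^ 3 = 1) : Nat.card {Q : X // D.Adj Q (x • Q)} = 0 := by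
  rw [Nat.card_eq_zero]
  left
  refine ⟨?_⟩
  rintro ⟨Q, hQ⟩
  refine hlam hQ (D.smul x hQ) ?_
  have h1 := D.smul (x * x) hQ
  have h2 : (x * x) • x • Q = Q := by
    rw [← mul_smul, ← pow_two, ← pow_succ, hx, one_smul]
  rw [h2, mul_smul] at h1
  exact h1

section

variable [Finite G] [Fintype X] [DecidableEq X] (N : Num D n k l f d) (hf : Even f)
  (hD : ∀ {P Q : X} {x : G}, x ∈ D.K P → x • Q = Q → P ≠ Q → x = 1)
include N hD

omit [DecidableEq X] in
theorem fix_one {P : X} {x : G} (hx : x ∈ D.K P) (hx1 : x ≠ 1) : Nat.card {Q : X // x • Q = Q} = 1 := by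
  rw [Nat.card_eq_one_iff_unique]
  refine ⟨⟨?_⟩, ⟨⟨P, D.K_le hx⟩⟩⟩
  rintro ⟨Q, hQ⟩ ⟨R, hR⟩
  have h1 : ∀ S, x • S = S → S = P := by
    intro S hS
    by_contra hne
    exact hx1 (hD hx hS (Ne.symm hne))
  exact Subtype.ext ((h1 Q hQ).trans (h1 R hR).symm)

include hf

/-- the case `lam = 0` -/
theorem free_even_core {g u : ℕ} (hd : Even d) (hg : l = k * g) (hfg : f = g * d) (hg2 : 2 ≤ g) (hu : k = 1 + u * f)
    (hu12 : u = 1 ∨ u = 2) (hdvd : ((g : ℤ) + 2) ∣ 2 * ((d * u : ℕ) : ℤ)) {mu : ℕ} (hmu : mu = d * u)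
    (hsrg : Graph.Srg G X D.Adj n k 0 mu) : n = 16 ∧ k = 5 ∧ f = 4 := by
  classical
  have hne := N.nonempty
  have hsum := N.sum
  have hf2 := N.f2
  have hk2 := N.k2
  have hd2 : 2 ≤ d := by
    obtain ⟨c, hc⟩ := hd
    have : d ≠ 0 := by
      rintro rfl
      rw [mul_zero] at hfg
      omega
    omega
  have hmu2 : 2 ≤ mu := by
    rw [hmu]
    rcases hu12 with h | h <;> rw [h] <;> omega
  have hkmu : k = 1 + mu * g := by
    rw [hu, hfg, hmu]
    ring
  have hn : n = 1 + k * (1 + g) := by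
    rw [hsum, hg]
    ring
  have hlam : ∀ {P Q R : X}, D.Adj P Q → D.Adj Q R → D.Adj R P → False := by
    intro P Q R h1 h2 h3
    have h4 := hsrg.cL h1
    rw [Nat.card_eq_zero] at h4
    rcases h4 with h4 | h4
    · exact h4.elim ⟨R, D.symm h3, h2⟩
    · exact not_finite {R // D.Adj P R ∧ D.Adj Q R}
  have hkZ : (k : ℤ) = 1 + mu * g := by exact_mod_cast hkmu
  have hgZ : (2 : ℤ) ≤ g := by exact_mod_cast hg2
  have hmuZ : (2 : ℤ) ≤ mu := by exact_mod_cast hmu2
  obtain ⟨S, hS0, hSS⟩ : ∃ S : ℤ, 0 < S ∧ S * S = (mu : ℤ) * mu + 4 * (k - mu) := by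
    rcases Graph.square_or hsrg (by push_cast; nlinarith) with h | ⟨S, hS, hSS, -⟩
    · exfalso
      have hnZ : (n : ℤ) = 1 + k * (1 + g) := by exact_mod_cast hn
      rw [hnZ] at h
      have h1 : (k : ℤ) * ((1 + g) * mu - 2) = 0 := by push_cast at h; linear_combination -h
      rcases mul_eq_zero.1 h1 with h2 | h2
      · omega
      · nlinarith
    · refine ⟨S, hS, ?_⟩
      rw [hSS]
      push_cast
      ring
  obtain ⟨m1, hm1⟩ : ∃ m1 : ℤ, (mu : ℤ) = 2 * m1 := by
    obtain ⟨c, hc⟩ := hd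
    refine ⟨c * u, ?_⟩
    rw [hmu, hc]
    push_cast
    ring
  obtain ⟨S1, hS1⟩ : ∃ S1 : ℤ, S = 2 * S1 := by
    have h1 : Even (S * S) := by
      rw [hSS, hm1]
      exact ⟨2 * (m1 * m1) + 2 * (k - 2 * m1), by ring⟩
    rcases Int.even_mul.1 h1 with ⟨c, hc⟩ | ⟨c, hc⟩ <;> exact ⟨c, by rw [hc]; ring⟩
  obtain ⟨v, hv⟩ : ∃ v : ℤ, S = mu + 2 * v := ⟨S1 - m1, by rw [hS1, hm1]; ring⟩
  have hv1 : 1 ≤ v := by
    by_contra hlt
    push Not at hlt
    nlinarith
  have hvv : v * v - 1 = (mu : ℤ) * (g - 1 - v) := by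
    rw [hv, hkZ] at hSS
    nlinarith
  have hSne : S ≠ 0 := hS0.ne'
  -- the values on elements
  have helem : ∀ x : G, S ∣ (Nat.card {P : X // D.Adj P (x • P)} : ℤ) + (mu + v) * (Nat.card {P : X // x • P = P}) -
      (k + (mu + v)) := by
    intro x
    have h1 := Graph.elem hsrg (s := S) (τ := -(mu + v)) hSne (by rw [hSS]; push_cast; ring)
      (by rw [hv]; push_cast; ring) x
    have e : (Nat.card {P : X // D.Adj P (x • P)} : ℤ) + (mu + v) * (Nat.card {P : X // x • P = P}) -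
      (k + (mu + v)) = (Nat.card {P : X // D.Adj P (x • P)} : ℤ) - (-(mu + v)) * (Nat.card {P : X // x • P = P}) -
      (k - (-(mu + v))) := by ring
    rw [e]
    exact h1
  obtain ⟨P⟩ := N.nonempty
  have hK : ∀ {x : G}, x ∈ D.K P → x ≠ 1 → S ∣ (Nat.card {P : X // D.Adj P (x • P)} : ℤ) - k := by
    intro x hx hx1
    have h1 := helem x
    rw [fix_one N hD hx hx1] at h1
    have e : (Nat.card {P : X // D.Adj P (x • P)} : ℤ) + (mu + v) * ((1 : ℕ) : ℤ) - (k + (mu + v)) =
      (Nat.card {P : X // D.Adj P (x • P)} : ℤ) - k := by push_cast; ring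
    rwa [e] at h1
  -- the sum over the kernel
  have iK : Fintype (D.K P) := Fintype.ofFinite _
  have iK' : Fintype {x : G // x ∈ D.K P ∧ x ≠ 1} := Fintype.ofFinite _
  have hcK : Fintype.card (D.K P) = k := by rw [← Nat.card_eq_fintype_card, N.cK]
  obtain ⟨w, hw⟩ := exists_a N hf hD hlam P
  have hsumγ : ∑ x : D.K P, (Nat.card {Q : X // D.Adj Q (x.1 • Q)} : ℤ) = l * (d * w) := by
    have e : Nat.card {p : D.K P × X // D.Adj p.2 (p.1.1 • p.2)} = ∑ x : D.K P, Nat.card {Q : X // D.Adj Q (x.1 • Q)} := by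
      rw [← Nat.card_sigma]
      exact Nat.card_congr ⟨fun p => ⟨p.1.1, p.1.2, p.2⟩, fun p => ⟨⟨p.1, p.2.1⟩, p.2.2⟩, fun _ => rfl, fun _ => rfl⟩
    rw [e] at hw
    exact_mod_cast hw
  have hγ1 : (Nat.card {Q : X // D.Adj Q ((1 : G) • Q)} : ℤ) = 0 := by
    have : IsEmpty {Q : X // D.Adj Q ((1 : G) • Q)} := ⟨fun Q => D.irr Q.1 (by have := Q.2; rwa [one_smul] at this)⟩
    rw [Nat.card_of_isEmpty]
    rfl
  have hπ1 : (Nat.card {Q : X // (1 : G) • Q = Q} : ℤ) = n := by
    rw [← N.cX]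
    norm_cast
    exact Nat.card_congr ⟨fun Q => Q.1, fun Q => ⟨Q, one_smul _ _⟩, fun _ => rfl, fun _ => rfl⟩
  -- split off the identity
  have hsplit : ∀ φ : G → ℤ, ∑ x : D.K P, φ x.1 = φ 1 + ∑ x : {x : G // x ∈ D.K P ∧ x ≠ 1}, φ x.1 := by
    intro φ
    rw [← Finset.add_sum_erase Finset.univ (fun x : D.K P => φ x.1) (Finset.mem_univ 1)]
    congr 1
    refine Finset.sum_bij' (fun x hx => ⟨x.1, x.2, fun h => (Finset.mem_erase.1 hx).1 (Subtype.ext h)⟩)
      (fun x _ => ⟨x.1, x.2.1⟩) ?_ ?_ ?_ ?_ ?_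
    · intro x _; exact Finset.mem_univ _
    · intro x _
      exact Finset.mem_erase.2 ⟨fun h => x.2.2 (congrArg Subtype.val h), Finset.mem_univ _⟩
    · intro x _; rfl
    · intro x _; rfl
    · intro x _; rfl
  have hcK' : (Fintype.card {x : G // x ∈ D.K P ∧ x ≠ 1} : ℤ) = k - 1 := by
    have h1 := hsplit (fun _ => 1)
    simp only [Finset.sum_const, Finset.card_univ, nsmul_eq_mul, mul_one] at h1
    rw [hcK] at h1
    linarith
  have hd1 : S * f ∣ ∑ x : {x : G // x ∈ D.K P ∧ x ≠ 1}, ((Nat.card {Q : X // D.Adj Q (x.1 • Q)} : ℤ) - k) := by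
    apply sum_dvd
    · rintro ⟨x, hx, hx1⟩
      exact hK hx hx1
    · intro c
      refine dvd_value N hD P (fun x => (Nat.card {Q : X // D.Adj Q (x • Q)} : ℤ) - k) ?_ c
      intro g x _
      show (Nat.card {Q : X // D.Adj Q ((g * x * g⁻¹) • Q)} : ℤ) - k = (Nat.card {Q : X // D.Adj Q (x • Q)} : ℤ) - k
      congr 2
      refine (Nat.card_congr ((MulAction.toPerm g).subtypeEquiv ?_)).symm
      intro Q
      rw [MulAction.toPerm_apply, mul_smul, mul_smul, inv_smul_smul, D.adj_smul_iff]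
  have hsum2 : ∑ x : {x : G // x ∈ D.K P ∧ x ≠ 1}, ((Nat.card {Q : X // D.Adj Q (x.1 • Q)} : ℤ) - k) =
      f * (k * (w - u)) := by
    rw [Finset.sum_sub_distrib, Finset.sum_const, Finset.card_univ, nsmul_eq_mul, hcK']
    have h1 := hsplit (fun x => (Nat.card {Q : X // D.Adj Q (x • Q)} : ℤ))
    rw [hsumγ, hγ1] at h1
    have h2 : (l : ℤ) * (d * w) = f * k * w := by rw [hg, hfg]; push_cast; ring
    have h3 : (k : ℤ) - 1 = u * f := by rw [hu]; push_cast; ring
    rw [h3]
    linear_combination -h1 + h2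
  have hC1 : S ∣ (k : ℤ) * (w - u) := by
    rw [hsum2] at hd1
    obtain ⟨c, hc⟩ := hd1
    refine ⟨c, ?_⟩
    have hf0 : (f : ℤ) ≠ 0 := by omega
    apply mul_left_cancel₀ hf0
    rw [hc]
    ring
  obtain ⟨b, hb⟩ := Graph.group hsrg (s := -S) (τ := v) (by omega) (by rw [neg_mul_neg, hSS]; push_cast; ring)
    (by rw [hv]; push_cast; ring) (D.K P)
  have hC2 : S * b = v * (1 + g) + 1 - f * (w - u) := by
    have e1 : ∑ x : D.K P, ((Nat.card {Q : X // D.Adj Q (x • Q)} : ℤ) - v * (Nat.card {Q : X // x • Q = Q}) - (k - v)) =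
        l * (d * w) - v * (n + (k - 1)) - k * (k - v) := by
      rw [Finset.sum_sub_distrib, Finset.sum_sub_distrib, ← Finset.mul_sum, Finset.sum_const, Finset.card_univ, hcK,
        nsmul_eq_mul]
      have h1 : ∑ x : D.K P, (Nat.card {Q : X // x • Q = Q} : ℤ) = n + (k - 1) := by
        have h2 := hsplit (fun x => (Nat.card {Q : X // x • Q = Q} : ℤ))
        have h3 : ∑ x : {x : G // x ∈ D.K P ∧ x ≠ 1}, (Nat.card {Q : X // x.1 • Q = Q} : ℤ) = k - 1 := by
          rw [← hcK', Finset.sum_congr rfl (fun x _ => by rw [fix_one N hD x.2.1 x.2.2]), Finset.sum_const,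
            Finset.card_univ]
          simp
        rw [h3, hπ1] at h2
        exact h2
      rw [h1]
      have h4 : ∑ x : D.K P, (Nat.card {Q : X // D.Adj Q (x • Q)} : ℤ) = l * (d * w) := hsumγ
      rw [h4]
    rw [e1, hcK] at hb
    have hk0 : (k : ℤ) ≠ 0 := by omega
    apply mul_left_cancel₀ hk0
    have h2 : (l : ℤ) * (d * w) = f * k * w := by rw [hg, hfg]; push_cast; ring
    have h3 : (k : ℤ) = 1 + u * f := by rw [hu]; push_cast; ring
    have h4 : (n : ℤ) = 1 + k * (1 + g) := by rw [hn]; push_cast; ring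
    rw [h2, h4] at hb
    linear_combination (1 : ℤ) * hb + ((k : ℤ)) * h3
  -- the arithmetic
  obtain ⟨z, hz1, hz2, hz3⟩ : ∃ z : ℤ, -2 ≤ z ∧ S ∣ (1 + mu * g) * z ∧ (mu : ℤ) * g * z = 2 * (f * (w - u)) := by
    rcases hu12 with h | h
    · subst h
      refine ⟨2 * (w - 1), by omega, ?_, ?_⟩
      · rw [← hkZ]
        obtain ⟨c, hc⟩ := hC1
        exact ⟨2 * c, by push_cast at hc; linear_combination 2 * hc⟩
      · rw [hmu, hfg]
        push_cast
        ring
    · subst h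
      refine ⟨w - 2, by omega, ?_, ?_⟩
      · rw [← hkZ]
        obtain ⟨c, hc⟩ := hC1
        exact ⟨c, by push_cast at hc; linear_combination hc⟩
      · rw [hmu, hfg]
        push_cast
        ring
  rw [hv] at hz2
  rcases NT.core hmuZ ⟨m1, by rw [hm1]; ring⟩ hgZ hv1 (by rw [hmu]; exact hdvd) hvv (Int.natCast_nonneg b) hz1 hz2
    (by rw [hz3, ← hv]; linear_combination 2 * hC2) with h | h | h
  · obtain ⟨h1, h2, -⟩ := h
    have h1 : g = 2 := by exact_mod_cast h1
    have h2 : mu = 2 := by exact_mod_cast h2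
    have hk5 : k = 5 := by rw [hkmu, h1, h2]
    have hn16 : n = 16 := by rw [hn, hk5, h1]
    refine ⟨hn16, hk5, ?_⟩
    have hd2' : d = 2 := by
      have : d * u = 2 := by rw [← hmu, h2]
      rcases hu12 with h | h
      · rw [h] at this; omega
      · rw [h] at this; omega
    rw [hfg, h1, hd2']
  · -- `k = 9`
    exfalso
    obtain ⟨h1, h2, h3⟩ := h
    have hk9 : k = 9 := by
      have : (k : ℤ) = 9 := by rw [hkZ, h1, h2]; norm_num
      exact_mod_cast this
    obtain ⟨⟨x, hx⟩, ho⟩ := exists_prime_orderOf_dvd_card' (G := D.K P) 3 (by rw [N.cK, hk9]; norm_num)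
    have hx3 : x ^ 3 = 1 := by
      have : (⟨x, hx⟩ : D.K P) ^ 3 = 1 := by rw [← ho, pow_orderOf_eq_one]
      exact congrArg Subtype.val this
    have hx1 : x ≠ 1 := by
      rintro rfl
      have : (⟨1, hx⟩ : D.K P) = 1 := rfl
      rw [this, orderOf_one] at ho
      omega
    have h4 := hK hx hx1
    rw [no_edge_three hlam hx3, hk9, hv, h2, h3] at h4
    norm_num at h4
  · -- `k = 361`
    exfalso
    obtain ⟨h1, h2, h3⟩ := h
    have hg18 : g = 18 := by exact_mod_cast h1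
    have hmu20 : mu = 20 := by exact_mod_cast h2
    have hk361 : k = 361 := by
      have : (k : ℤ) = 361 := by rw [hkZ, h1, h2]; norm_num
      exact_mod_cast this
    obtain ⟨B, hB⟩ := D.exA P
    have hcF : Nat.card ↥(MulAction.stabilizer G P ⊓ MulAction.stabilizer G B) = f := by rw [← N.sA hB]; rfl
    obtain ⟨⟨x, hxP, hxB⟩, ho⟩ := exists_prime_orderOf_dvd_card'
      (G := ↥(MulAction.stabilizer G P ⊓ MulAction.stabilizer G B)) 3 (by rw [hcF, hfg, hg18]; exact ⟨6 * d, by ring⟩)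
    have hxP : x • P = P := hxP
    have hxB : x • B = B := hxB
    have hx3 : x ^ 3 = 1 := by
      have : (⟨x, hxP, hxB⟩ : ↥(MulAction.stabilizer G P ⊓ MulAction.stabilizer G B)) ^ 3 = 1 := by
        rw [← ho, pow_orderOf_eq_one]
      exact congrArg Subtype.val this
    have hx1 : x ≠ 1 := by
      rintro rfl
      have : (⟨1, hxP, hxB⟩ : ↥(MulAction.stabilizer G P ⊓ MulAction.stabilizer G B)) = 1 := rfl
      rw [this, orderOf_one] at ho
      omega
    have hd3 : ¬ 3 ∣ d := by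
      have h4 : d * u = 20 := by rw [← hmu, hmu20]
      rcases hu12 with h | h
      · rw [h] at h4; omega
      · rw [h] at h4; omega
    have hfix : Nat.card {Q : X // x • Q = Q} = 2 := by
      rw [card_erase (fun Q => x • Q = Q) (a := P) hxP, card_erase (fun Q => x • Q = Q ∧ P ≠ Q) (a := B)
        ⟨hxB, Dat.ne_of_adj hB⟩]
      have : IsEmpty {Q : X // (x • Q = Q ∧ P ≠ Q) ∧ B ≠ Q} := by
        refine ⟨?_⟩
        rintro ⟨Q, ⟨hQ1, hQ2⟩, hQ3⟩
        by_cases hPQ : D.Adj P Q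
        · exact hx1 (D.free hxP hB hxB hPQ hQ1 hQ3)
        · apply hd3
          have hcE : Nat.card ↥(MulAction.stabilizer G P ⊓ MulAction.stabilizer G Q) = d := by
            rw [← N.sN hQ2 hPQ]; rfl
          have : Fact (Nat.Prime 3) := ⟨Nat.prime_three⟩
          have h4 : orderOf x ∣ d := by
            rw [← hcE]
            exact Subgroup.orderOf_dvd_natCard _ (Subgroup.mem_inf.2 ⟨hxP, hQ1⟩)
          have h5 : orderOf x = 3 := orderOf_eq_prime hx3 hx1
          rwa [h5] at h4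
      rw [Nat.card_of_isEmpty]
    have h4 := helem x
    rw [no_edge_three hlam hx3, hk361, hfix, hv, h2, h3] at h4
    norm_num at h4

/-- **the case `d` even** -/
theorem free_even (hd : Even d) : n = 16 ∧ k = 5 ∧ f = 4 := by
  obtain ⟨g, hg, hfg, hg1⟩ := exists_g N hD
  have hg2 := g_ge N hf hD hg hfg
  obtain ⟨m, ι, ι', hm, hι, hι', hn, -, hme⟩ := basic_eq N hf hD hg
  obtain ⟨u, hu, hu1⟩ := N.exists_u
  have hsum := N.sum
  have hf2 := N.f2
  rw [hme hd] at hn
  have hE : (g + 2) * (ι + g * ι') = u * f * (1 + g) := by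
    have h1 : (g + 2) * (1 + ι + g * ι') = (g + 2) + u * f * (1 + g) := by
      rw [← hn, hsum, hg, hu]
      ring
    have h2 : (g + 2) * (1 + ι + g * ι') = (g + 2) + (g + 2) * (ι + g * ι') := by ring
    omega
  have hu2 : u ≤ 2 := by
    by_contra hlt
    have h3 : 3 ≤ u := by omega
    have h4 : ι + g * ι' ≤ 2 * f := by
      have : g * ι' ≤ f := by rw [hfg]; exact Nat.mul_le_mul_left _ hι'
      omega
    have h5 : (g + 2) * (ι + g * ι') ≤ (g + 2) * (2 * f) := Nat.mul_le_mul_left _ h4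
    have h6 : 3 * f * (1 + g) ≤ u * f * (1 + g) := by
      apply Nat.mul_le_mul_right
      exact Nat.mul_le_mul_right _ h3
    nlinarith
  obtain ⟨lam, mu, s, hsrg, hk, hmu, hs, -⟩ := N.exists_srg
  have hsu : s ≤ u := by
    by_contra hlt
    have h3 : f * (u + 1) ≤ f * s := Nat.mul_le_mul_left _ (by omega)
    nlinarith
  have hd2 : 2 ≤ d := by
    obtain ⟨c, hc⟩ := hd
    have : d ≠ 0 := by
      rintro rfl
      rw [mul_zero] at hfg
      omega
    omega
  by_cases hcase : u = 2 ∧ s = 1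
  · exfalso
    obtain ⟨rfl, rfl⟩ := hcase
    rw [mul_one] at hmu hk
    subst hmu
    have hlam : lam = f := by omega
    subst hlam
    have := N.nonempty
    have hfZ : (lam : ℤ) = g * mu := by exact_mod_cast hfg
    have hkZ : (k : ℤ) = 1 + 2 * lam := by rw [hu]; push_cast; ring
    have hgZ : (2 : ℤ) ≤ g := by exact_mod_cast hg2
    have hdZ : (2 : ℤ) ≤ mu := by exact_mod_cast hd2
    rcases Graph.square_or hsrg (by rw [hkZ, hfZ]; nlinarith) with h | ⟨S, hS, hSS, -⟩
    · rw [hkZ, hfZ] at h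
      have hn1 : (1 : ℤ) ≤ n := by
        have : 1 ≤ n := by omega
        exact_mod_cast this
      have h1 : 0 ≤ ((n : ℤ) - 1) * (g * mu - mu) := mul_nonneg (by omega) (by nlinarith)
      nlinarith
    · obtain ⟨c, hc⟩ := hd
      have hcZ : (mu : ℤ) = 2 * c := by rw [hc]; push_cast; ring
      obtain ⟨S1, hS1⟩ : ∃ S1 : ℤ, S = 2 * S1 := by
        have h1 : Even (S * S) := by
          rw [hSS, hkZ, hfZ, hcZ]
          exact ⟨2 * (g * c - c) * (g * c - c) + 2 * (1 + 2 * (g * (2 * c)) - 2 * c), by ring⟩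
        rcases Int.even_mul.1 h1 with ⟨c', hc'⟩ | ⟨c', hc'⟩ <;> exact ⟨c', by rw [hc']; ring⟩
      refine no_square (g := g) (d' := c) (S := S1) hgZ (by omega) (by omega) ?_
      rw [hkZ, hfZ, hcZ, hS1] at hSS
      linarith
  · have hsu' : s = u := by omega
    subst hsu'
    have hlam : lam = 0 := by
      have : s * f = f * s := mul_comm _ _
      omega
    subst hlam
    refine free_even_core N hf hD hd hg hfg hg2 hu (by omega) ?_ hmu hsrg
    have hEZ : ((g : ℤ) + 2) * (ι + g * ι') = s * f * (1 + g) := by exact_mod_cast hE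
    have hfZ : (f : ℤ) = g * d := by exact_mod_cast hfg
    refine ⟨(ι + g * ι') - s * d * (g - 1), ?_⟩
    push_cast
    rw [hfZ] at hEZ
    linear_combination (-1 : ℤ) * hEZ

end

end Cfsg.Agent.H90.R3
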