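import Cfsg.Agent.H90.R3.EvenLine
import Cfsg.Agent.H90.R3.EvenFree3

/-!
# Rank three groups with a Frobenius suborbit: lines when the complement has even order, conclusion
-/

set_option autoImplicit false

namespace Cfsg.Agent.H90.R3

open Subgroup

variable {G X : Type*} [Group G] [MulAction G X] {D : Dat G X} {n k l f d : ℕ}

theorem nsq {S : ℤ} {a b : ℤ} (hS : 0 < S) (hb : 0 ≤ b) (h1 : b * b < a) (h2 : a < (b + 1) * (b + 1)) : S * S ≠ a := by
  rintro rfl
  have h3 : b < S := by nlinarith
  have h4 : S < b + 1 := by nlinarith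
  omega

section

variable [Finite G] [Fintype X] [DecidableEq X] (N : Num D n k l f d) (hf : Even f)
include N hf

theorem line_even {P Q : X} {x : G} (hx : x ∈ D.K P) (hxQ : x • Q = Q) (hPQ : P ≠ Q) (hx1 : x ≠ 1) :
    n = 16 ∧ k = 9 ∧ f = 4 := by
  have hadj := N.clique hx hx1 (D.K_le hx) hxQ
  obtain ⟨j, hj⟩ := N.exists_j
  have hj2 : 2 ≤ j := by
    rw [← hj hPQ hadj]
    have : Nontrivial (D.L P Q) := ⟨⟨⟨x, hx, N.fix_mem hx hxQ⟩, 1, fun h => hx1 (congrArg Subtype.val h)⟩⟩
    exact Finite.one_lt_card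
  have hne : ∀ {P Q : X}, P ≠ Q → ¬ D.Adj P Q → D.L P Q ≠ ⊥ := by
    intro P Q h1 h2 h3
    have h4 := hj h1 h2
    rw [h3, Subgroup.card_bot] at h4
    omega
  have hL : ∀ {P Q : X}, P ≠ Q → ¬ D.Adj P Q → IsLine D (D.L P Q) := fun h1 h2 => ⟨hne h1 h2, _, _, h1, h2, rfl⟩
  obtain ⟨c, hc1, hc2, hc3, hd⟩ := line_count N hf (hL hPQ hadj)
  rw [hj hPQ hadj] at hc2
  have hcc : ∀ Q : X, P ≠ Q → ¬ D.Adj P Q → Nat.card {R : X // Fx (D.L P Q) R} = (c * c - 1) + 1 := by
    intro Q h1 h2
    obtain ⟨c', h3, h4, h5, -⟩ := line_count N hf (hL h1 h2)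
    rw [hj h1 h2] at h4
    have h6 : c' + 1 = c + 1 := by
      apply Nat.eq_of_mul_eq_mul_right (m := j) (by omega)
      rw [← h4, ← hc2]
    have h7 : c' = c := by omega
    rw [h3, h7]
    have : 1 ≤ c * c := Nat.mul_pos (by omega) (by omega)
    omega
  obtain ⟨ν, hν, hν2⟩ := lines_count N (P := P) (fun Q h1 h2 => hne h1 h2) hcc
  -- `j` divides `c + 1`
  have hjc : j ∣ c + 1 := by
    obtain ⟨Q, R, hQ1, hQ2, hR1, hR2, hQR⟩ := D.blN P
    have h1 : D.L P Q ≠ D.L P R := by
      intro h1
      refine (hL hQ1 hQ2).nadj N (R := Q) (R' := R) (fun x hx => D.K_le hx.2) ?_ hQR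
      intro x hx
      rw [h1] at hx
      exact D.K_le hx.2
    have h2 := sq_dvd N hf hQ1 hQ2 hR1 hR2 h1
    rw [hj hQ1 hQ2, hj hR1 hR2, hc2] at h2
    exact Nat.dvd_of_mul_dvd_mul_right (by omega) h2
  have hk := odd_k N hf
  have hjo : Odd j := by
    rw [hc2] at hk
    exact (Nat.odd_mul.1 hk).2
  have hce : Even c := by
    rw [hc2] at hk
    have := (Nat.odd_mul.1 hk).1
    rw [Nat.odd_add_one, Nat.not_odd_iff_even] at this
    exact this
  -- `j` divides `d`
  have hjd : j ∣ d := by
    have h1 : Nat.card ↥(MulAction.stabilizer G P ⊓ MulAction.stabilizer G Q) = d := by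
      rw [← N.sN hPQ hadj]
      rfl
    rw [← h1, ← hj hPQ hadj]
    apply Subgroup.card_dvd_of_le
    exact fun x hx => ⟨D.K_le hx.1, D.K_le hx.2⟩
  obtain ⟨e, he⟩ := hjd
  have hee : Even e := by
    rw [he, Nat.even_mul] at hd
    rcases hd with h | h
    · exact absurd hjo (Nat.not_odd_iff_even.2 h)
    · exact h
  have hf2 := N.f2
  have hsum := N.sum
  -- `f = ν (c - 1) e`
  obtain ⟨b, hb⟩ : ∃ b, c = b + 1 := ⟨c - 1, by omega⟩
  have hb1 : 1 ≤ b := by omega
  have hl : l = ν * ((c + 1) * b) := by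
    rw [hν]
    congr 1
    have : c * c = (c + 1) * b + 1 := by rw [hb]; ring
    omega
  have hfe : f = ν * b * e := by
    have h1 := N.cS'
    rw [hc2, hl, he] at h1
    have h2 : (c + 1) * j * f = (c + 1) * j * (ν * b * e) := by
      rw [h1]
      ring
    exact Nat.eq_of_mul_eq_mul_left (Nat.mul_pos (by omega) (by omega)) h2
  -- arithmetic
  have hdvd : f ∣ k - 1 := N.dvd
  have hcj : (c = 2 ∧ j = 3) ∨ (c = 4 ∧ j = 5) := by
    obtain ⟨a, ha⟩ := hjc
    have hao : Odd a := by
      have : Odd (c + 1) := hce.add_one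
      rw [ha] at this
      exact (Nat.odd_mul.1 this).2
    have h1 : b ∣ k - 1 := (Dvd.intro_left ν rfl |>.trans (by rw [hfe]; exact dvd_mul_right _ _)).trans hdvd
    have h2 : k - 1 = b * j + (2 * j - 1) := by
      rw [hc2, hb]
      have : (b + 1 + 1) * j = b * j + 2 * j := by ring
      omega
    have h3 : b ∣ 2 * j - 1 := by
      rw [h2] at h1
      exact (Nat.dvd_add_right (Dvd.intro _ rfl)).1 h1
    have h4 : b + 2 = j * a := by omega
    have ha1 : a = 1 := by
      obtain ⟨r, hr⟩ := hao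
      by_contra hne
      have h5 : 3 ≤ a := by omega
      have h6 : j * 3 ≤ j * a := Nat.mul_le_mul_left _ h5
      have h7 := Nat.le_of_dvd (by omega) h3
      omega
    rw [ha1, mul_one] at h4
    have h5 : b ∣ 3 := by
      have : 2 * j - 1 = b * 2 + 3 := by omega
      rw [this] at h3
      exact (Nat.dvd_add_right (Dvd.intro _ rfl)).1 h3
    have h6 := (Nat.dvd_prime Nat.prime_three).1 h5
    omega
  have hνe : ν * e ∣ 8 := by
    rcases hcj with ⟨rfl, rfl⟩ | ⟨rfl, rfl⟩
    · have hb' : b = 1 := by omega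
      rw [hb', mul_one] at hfe
      rw [← hfe]
      have : k - 1 = 8 := by omega
      rwa [this] at hdvd
    · have hb' : b = 3 := by omega
      rw [hb'] at hfe
      have : k - 1 = 3 * 8 := by omega
      rw [this, hfe, mul_right_comm, mul_comm _ 3] at hdvd
      exact Nat.dvd_of_mul_dvd_mul_left (by norm_num) hdvd
  obtain ⟨e', he'⟩ := hee
  obtain ⟨lam, mu, s, hsrg, hklam, hmu, hs, -⟩ := N.exists_srg
  have : Nonempty X := ⟨P⟩
  have hmuk : mu ≤ k := by
    have h1 := hsrg.cM hPQ hadj
    have h2 := hsrg.cA P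
    rw [← h1, ← h2]
    exact Nat.card_le_card_of_injective (fun R : {R // D.Adj P R ∧ D.Adj Q R} => (⟨R.1, R.2.1⟩ : {R // D.Adj P R}))
      (fun a b hab => Subtype.ext (by have h := congrArg Subtype.val hab; exact h))
  have he2 : 1 ≤ e' := by
    by_contra hlt
    have : e' = 0 := by omega
    rw [this] at he'
    rw [he'] at hfe
    omega
  have hcases : (ν = 2 ∧ e = 2) ∨ (ν = 2 ∧ e = 4) ∨ (ν = 4 ∧ e = 2) := by
    have h1 := Nat.le_of_dvd (by norm_num) hνe
    have h2 : ν ≤ 4 := by nlinarith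
    have h3 : e ≤ 4 := by nlinarith
    have h4 : e' ≤ 2 := by omega
    interval_cases ν <;> interval_cases e' <;> simp_all
  have hsq := Graph.square_or hsrg
  have kill : ∀ {n' k' lam' mu' : ℕ} (r : ℤ), n = n' → k = k' → lam = lam' → mu = mu' → 0 ≤ r → 
      ((n' : ℤ) - 1) * (lam' - mu') + 2 * k' ≠ 0 → r * r < ((lam' : ℤ) - mu') * (lam' - mu') + 4 * (k' - mu') →
      ((lam' : ℤ) - mu') * (lam' - mu') + 4 * (k' - mu') < (r + 1) * (r + 1) → False := by
    rintro n' k' lam' mu' r rfl rfl rfl rfl hr h1 h2 h3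
    rcases hsq (lt_of_le_of_lt (mul_nonneg hr hr) h2) with h | ⟨S, hS, hSS, -⟩
    · exact h1 h
    · exact nsq hS hr h2 h3 hSS
  rcases hcj with ⟨rfl, rfl⟩ | ⟨rfl, rfl⟩
  · have hb' : b = 1 := by omega
    subst hb'
    rcases hcases with ⟨rfl, rfl⟩ | ⟨rfl, rfl⟩ | ⟨rfl, rfl⟩
    · refine ⟨by omega, by omega, by omega⟩
    · exfalso
      have : d * 1 ≤ d * s := Nat.mul_le_mul_left _ hs
      omega
    · exfalso
      have hs1 : s = 1 := by
        have : f * s ≤ 8 := by omega
        rw [hfe] at this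
        omega
      subst hs1
      exact kill (n' := 22) (k' := 9) (lam' := 0) (mu' := 6) 6 (by omega) (by omega) (by omega) (by omega) (by norm_num)
        (by norm_num) (by norm_num) (by norm_num)
  · have hb' : b = 3 := by omega
    subst hb'
    rcases hcases with ⟨rfl, rfl⟩ | ⟨rfl, rfl⟩ | ⟨rfl, rfl⟩
    · exfalso
      have hs1 : s = 1 ∨ s = 2 := by
        have : f * s ≤ 24 := by omega
        rw [hfe] at this
        omega
      rcases hs1 with rfl | rfl
      · have hn : n = 56 := by omega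
        have hk' : k = 25 := by omega
        have hl' : lam = 12 := by omega
        have hm' : mu = 10 := by omega
        rw [hn, hk', hl', hm'] at hsq
        rcases hsq (by norm_num) with h | ⟨S, hS, hSS, a, ha⟩
        · norm_num at h
        · norm_num at hSS ha
          have hS8 : S = 8 := by
            have : (S - 8) * (S + 8) = 0 := by linear_combination hSS
            rcases mul_eq_zero.1 this with h | h <;> omega
          rw [hS8] at ha
          omega
      · exact kill (n' := 56) (k' := 25) (lam' := 0) (mu' := 20) 20 (by omega) (by omega) (by omega) (by omega)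
          (by norm_num) (by norm_num) (by norm_num) (by norm_num)
    · exfalso
      have hs1 : s = 1 := by
        have : f * s ≤ 24 := by omega
        rw [hfe] at this
        omega
      subst hs1
      exact kill (n' := 56) (k' := 25) (lam' := 0) (mu' := 20) 20 (by omega) (by omega) (by omega) (by omega)
          (by norm_num) (by norm_num) (by norm_num) (by norm_num)
    · exfalso
      have hs1 : s = 1 := by
        have : f * s ≤ 24 := by omega
        rw [hfe] at this
        omega
      subst hs1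
      exact kill (n' := 86) (k' := 25) (lam' := 0) (mu' := 10) 12 (by omega) (by omega) (by omega) (by omega)
          (by norm_num) (by norm_num) (by norm_num) (by norm_num)

end

end Cfsg.Agent.H90.R3
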