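import Cfsg.Agent.H90.R3.Basic

/-!
# Rank three groups with a Frobenius suborbit: the data exist
-/

set_option autoImplicit false

namespace Cfsg.Agent.H90.R3

open Subgroup
open scoped Pointwise

/-- an invariant equivalence relation of a primitive group is trivial -/
theorem no_equiv {G X : Type*} [Group G] [MulAction G X] (hprim : MulAction.IsPreprimitive G X) (E : X → X → Prop)
    (hr : ∀ P, E P P) (hs : ∀ {P Q}, E P Q → E Q P) (ht : ∀ {P Q R}, E P Q → E Q R → E P R)
    (hi : ∀ (g : G) {P Q}, E P Q → E (g • P) (g • Q)) {P Q R : X} (hPQ : E P Q) (hne : P ≠ Q) (hPR : ¬ E P R) : False := by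
  have hB : MulAction.IsBlock G {S | E P S} := by
    rw [MulAction.isBlock_iff_smul_eq_or_disjoint]
    intro g
    have hmem : ∀ S, S ∈ g • {S | E P S} ↔ E (g • P) S := by
      intro S
      rw [Set.mem_smul_set_iff_inv_smul_mem, Set.mem_setOf_eq]
      constructor
      · intro h
        have := hi g h
        rwa [smul_inv_smul] at this
      · intro h
        have := hi g⁻¹ h
        rwa [inv_smul_smul] at this
    by_cases h : E P (g • P)
    · left
      ext S
      rw [hmem, Set.mem_setOf_eq]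
      exact ⟨fun h' => ht h h', fun h' => ht (hs h) h'⟩
    · right
      rw [Set.disjoint_left]
      intro S hS hS'
      rw [hmem] at hS
      exact h (ht hS' (hs hS))
  rcases hprim.isTrivialBlock_of_isBlock hB with h | h
  · exact hne (h (hr P) hPQ)
  · have : R ∈ ({S | E P S} : Set X) := by rw [h]; exact Set.mem_univ R
    exact hPR this

theorem card_pairs {G X : Type*} [Group G] [MulAction G X] [Finite G] [Finite X] (P : X) (p : X → Prop) {m c : ℕ}
    (hm : Nat.card {Q // p Q} = m)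
    (hc : ∀ Q, p Q → Nat.card {g : G // g • P = P ∧ g • Q = Q} = c)
    (hp : ∀ (g : G) Q, g • P = P → p Q → p (g • Q))
    (ht : ∀ Q Q', p Q → p Q' → ∃ g : G, g • P = P ∧ g • Q = Q') (hne : ∃ Q, p Q) :
    Nat.card {g : G // g • P = P} = m * c := by
  obtain ⟨Q₀, hQ₀⟩ := hne
  have h := dc (α := {g : G // g • P = P}) (β := {Q // p Q}) (fun g Q => g.1 • Q₀ = Q.1) (x := 1) (y := c) ?_ ?_
  · rw [mul_one] at h
    rw [h, hm]
  · rintro ⟨g, hg⟩
    rw [Nat.card_eq_one_iff_unique]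
    refine ⟨⟨?_⟩, ⟨⟨⟨g • Q₀, hp g Q₀ hg hQ₀⟩, rfl⟩⟩⟩
    rintro ⟨⟨a, ha⟩, ha'⟩ ⟨⟨b, hb⟩, hb'⟩
    exact Subtype.ext (Subtype.ext (ha'.symm.trans hb'))
  · rintro ⟨Q, hQ⟩
    obtain ⟨g₀, h1, h2⟩ := ht Q₀ Q hQ₀ hQ
    rw [← hc Q₀ hQ₀, ← coset2 h1 h2]
    exact Nat.card_congr ⟨fun g => ⟨g.1.1, g.1.2, g.2⟩, fun g => ⟨⟨g.1, g.2.1⟩, g.2.2⟩, fun g => rfl, fun g => rfl⟩

theorem card_group {G X : Type*} [Group G] [MulAction G X] [Finite G] [Finite X] (P : X)
    (ht : ∀ Q : X, ∃ g : G, g • P = Q) :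
    Nat.card G = Nat.card X * Nat.card {g : G // g • P = P} := by
  have h := dc (α := G) (β := X) (fun g Q => g • P = Q) (x := 1) (y := Nat.card {g : G // g • P = P}) ?_ ?_
  · rw [mul_one] at h
    exact h
  · intro g
    rw [Nat.card_eq_one_iff_unique]
    exact ⟨⟨fun a b => Subtype.ext (a.2.symm.trans b.2)⟩, ⟨⟨g • P, rfl⟩⟩⟩
  · intro Q
    obtain ⟨g₀, h1⟩ := ht Q
    exact coset1 h1

theorem exists_dat {G X : Type*} [Group G] [Finite G] [Fintype X] [MulAction G X] [FaithfulSMul G X]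
    (heven : Even (Nat.card G)) (hprim : MulAction.IsPreprimitive G X) (A : X)
    (h3 : Nat.card (MulAction.orbitRel.Quotient ↥(MulAction.stabilizer G A) X) = 3) (B : X) (hBA : B ≠ A)
    (hfix : ∃ g ∈ MulAction.stabilizer G A, g ≠ 1 ∧ g • B = B)
    (hfrob : ∀ g ∈ MulAction.stabilizer G A, ∀ h ∈ MulAction.stabilizer G A, g • B = B → g • (h • B) = h • B →
      h • B ≠ B → g = 1) :
    ∃ (D : Dat G X) (n k l f d : ℕ), Num D n k l f d := by
  classical
  have tr : ∀ P Q : X, ∃ g : G, g • P = Q := fun P Q => MulAction.exists_smul_eq G P Q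
  set Adj : X → X → Prop := fun P Q => ∃ g : G, g • A = P ∧ g • B = Q with hAdj
  -- the orbits of the stabilizer
  let q : X → MulAction.orbitRel.Quotient ↥(MulAction.stabilizer G A) X := fun P => Quotient.mk'' P
  have hq : ∀ P P', q P = q P' ↔ ∃ h : G, h • A = A ∧ h • P' = P := by
    intro P P'
    rw [Quotient.eq'', MulAction.orbitRel_apply]
    constructor
    · rintro ⟨⟨h, hh⟩, h1⟩
      exact ⟨h, hh, h1⟩
    · rintro ⟨h, hh, h1⟩
      exact ⟨⟨h, hh⟩, h1⟩
  have hfin : Finite (MulAction.orbitRel.Quotient ↥(MulAction.stabilizer G A) X) := Quotient.finite _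
  have hAB : q A ≠ q B := by
    rw [Ne, hq]
    rintro ⟨h, h1, h2⟩
    apply hBA
    have : h • B = h • A := by rw [h2, h1]
    exact smul_left_cancel h this
  obtain ⟨C, hCA, hCB⟩ : ∃ C, q C ≠ q A ∧ q C ≠ q B := by
    by_contra hcon
    push Not at hcon
    have h4 : (Set.univ : Set (MulAction.orbitRel.Quotient ↥(MulAction.stabilizer G A) X)) ⊆ {q A, q B} := by
      intro c _
      obtain ⟨P, rfl⟩ := Quotient.exists_rep c
      by_cases h5 : q P = q A
      · exact Or.inl h5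
      · exact Or.inr (hcon P h5)
    have h5 := Set.ncard_le_ncard h4 (Set.toFinite _)
    rw [Set.ncard_univ, h3] at h5
    have h6 := Set.ncard_insert_le (q A) {q B}
    rw [Set.ncard_singleton] at h6
    omega
  have hcov : ∀ P, q P = q A ∨ q P = q B ∨ q P = q C := by
    intro P
    have h4 : ({q A, q B, q C} : Set (MulAction.orbitRel.Quotient ↥(MulAction.stabilizer G A) X)) = Set.univ := by
      apply Set.eq_of_subset_of_ncard_le (Set.subset_univ _)
      · rw [Set.ncard_univ, h3, Set.ncard_eq_three.2 ⟨q A, q B, q C, hAB, hCA.symm, hCB.symm, rfl⟩]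
    have h5 : q P ∈ ({q A, q B, q C} : Set (MulAction.orbitRel.Quotient ↥(MulAction.stabilizer G A) X)) := by
      rw [h4]; exact Set.mem_univ _
    exact h5
  have hqA : ∀ P, q P = q A → P = A := by
    intro P h
    obtain ⟨h, h1, h2⟩ := (hq _ _).1 h
    rw [← h2, h1]
  have hAdjA : ∀ P, Adj A P ↔ q P = q B := by
    intro P
    rw [hq]
  have hneA : ∀ P, P ≠ A → ¬ Adj A P → q P = q C := by
    intro P h1 h2
    rcases hcov P with h | h | h
    · exact absurd (hqA P h) h1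
    · exact absurd ((hAdjA P).2 h) h2
    · exact h
  have smul : ∀ (g : G) {P Q}, Adj P Q → Adj (g • P) (g • Q) := by
    rintro g P Q ⟨u, h1, h2⟩
    exact ⟨g * u, by rw [mul_smul, h1], by rw [mul_smul, h2]⟩
  have smul' : ∀ (g : G) {P Q}, Adj (g • P) (g • Q) ↔ Adj P Q := by
    intro g P Q
    refine ⟨fun h => ?_, smul g⟩
    have := smul g⁻¹ h
    rwa [inv_smul_smul, inv_smul_smul] at this
  have irr : ∀ P, ¬ Adj P P := by
    rintro P ⟨u, h1, h2⟩
    exact hBA (smul_left_cancel u (h2.trans h1.symm))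
  have hnon : ∀ {P Q}, P ≠ Q → ¬ Adj P Q → ∃ g : G, g • A = P ∧ g • C = Q := by
    intro P Q h1 h2
    obtain ⟨g, hg⟩ := tr A P
    have h4 : q (g⁻¹ • Q) = q C := by
      apply hneA
      · intro h5
        apply h1
        rw [← hg, ← h5, smul_inv_smul]
      · intro h5
        apply h2
        have := smul g h5
        rwa [smul_inv_smul, hg] at this
    obtain ⟨h, h5, h6⟩ := (hq _ _).1 h4
    exact ⟨g * h, by rw [mul_smul, h5, hg], by rw [mul_smul, h6, smul_inv_smul]⟩
  have trA : ∀ {P Q P' Q'}, Adj P Q → Adj P' Q' → ∃ g : G, g • P = P' ∧ g • Q = Q' := by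
    rintro P Q P' Q' ⟨u, rfl, rfl⟩ ⟨v, rfl, rfl⟩
    exact ⟨v * u⁻¹, by rw [mul_smul, inv_smul_smul], by rw [mul_smul, inv_smul_smul]⟩
  have trN : ∀ {P Q P' Q'}, P ≠ Q → ¬ Adj P Q → P' ≠ Q' → ¬ Adj P' Q' → ∃ g : G, g • P = P' ∧ g • Q = Q' := by
    intro P Q P' Q' h1 h2 h1' h2'
    obtain ⟨u, rfl, rfl⟩ := hnon h1 h2
    obtain ⟨v, rfl, rfl⟩ := hnon h1' h2'
    exact ⟨v * u⁻¹, by rw [mul_smul, inv_smul_smul], by rw [mul_smul, inv_smul_smul]⟩
  -- symmetry
  have symm : ∀ {P Q}, Adj P Q → Adj Q P := by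
    intro P Q hPQ
    obtain ⟨t, ht⟩ := exists_prime_orderOf_dvd_card' 2 heven.two_dvd
    have ht1 : t ≠ 1 := by
      rintro rfl
      simp at ht
    have ht2 : ∀ x : X, t • t • x = x := by
      intro x
      rw [← mul_smul, ← pow_two, ← ht, pow_orderOf_eq_one, one_smul]
    obtain ⟨x, hx⟩ : ∃ x : X, t • x ≠ x := by
      by_contra hcon
      push Not at hcon
      exact ht1 (FaithfulSMul.eq_of_smul_eq_smul (α := X) (fun x => by rw [hcon x, one_smul]))
    by_cases hxy : Adj x (t • x)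
    · have hyx : Adj (t • x) x := by
        have := smul t hxy
        rwa [ht2] at this
      obtain ⟨u, h1, h2⟩ := trA hxy hPQ
      have := smul u hyx
      rwa [h1, h2] at this
    · have hyx : ¬ Adj (t • x) x := by
        intro h
        apply hxy
        have := smul t h
        rwa [ht2] at this
      by_contra hQP
      have hne : Q ≠ P := by
        rintro rfl
        exact irr _ hPQ
      obtain ⟨u, h1, h2⟩ := trN (Ne.symm hx) hxy hne hQP
      apply hyx
      rw [← smul' u, h1, h2]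
      exact hPQ
  have free : ∀ {g : G} {P Q Q'}, g • P = P → Adj P Q → g • Q = Q → Adj P Q' → g • Q' = Q' → Q ≠ Q' → g = 1 := by
    rintro g P Q Q' hg ⟨u, rfl, rfl⟩ hgQ ⟨v, hv1, rfl⟩ hgQ' hne
    have h1 := hfrob (u⁻¹ * g * u) (by rw [MulAction.mem_stabilizer_iff, mul_smul, mul_smul, hg, inv_smul_smul])
      (u⁻¹ * v) (by rw [MulAction.mem_stabilizer_iff, mul_smul, hv1, inv_smul_smul])
      (by rw [mul_smul, mul_smul, hgQ, inv_smul_smul])
      (by rw [mul_smul, mul_smul, mul_smul, smul_inv_smul, hgQ'])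
      (by
        intro h
        apply hne
        rw [mul_smul, inv_smul_eq_iff] at h
        exact h.symm)
    have : g = u * (u⁻¹ * g * u) * u⁻¹ := by group
    rw [this, h1]
    group
  have nfree : ∀ {P Q}, Adj P Q → ∃ g : G, g ≠ 1 ∧ g • P = P ∧ g • Q = Q := by
    rintro P Q ⟨u, rfl, rfl⟩
    obtain ⟨g, hg, hg1, hgB⟩ := hfix
    rw [MulAction.mem_stabilizer_iff] at hg
    refine ⟨u * g * u⁻¹, ?_, ?_, ?_⟩
    · intro h
      apply hg1
      have : g = u⁻¹ * (u * g * u⁻¹) * u := by group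
      rw [this, h]
      group
    · rw [mul_smul, mul_smul, inv_smul_smul, hg]
    · rw [mul_smul, mul_smul, inv_smul_smul, hgB]
  have exA : ∀ P, ∃ Q, Adj P Q := by
    intro P
    obtain ⟨g, hg⟩ := tr A P
    exact ⟨g • B, g, hg, rfl⟩
  have hACn : ¬ Adj A C := fun h => hCB ((hAdjA C).1 h)
  have hCne : C ≠ A := fun h => hCA (by rw [h])
  have exN : ∀ P, ∃ Q, P ≠ Q ∧ ¬ Adj P Q := by
    intro P
    obtain ⟨g, hg⟩ := tr A P
    refine ⟨g • C, ?_, ?_⟩
    · intro h
      rw [← hg] at h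
      exact hCne (smul_left_cancel g h).symm
    · rw [← hg, smul']
      exact hACn
  have hAB' : Adj A B := (hAdjA B).2 rfl
  have blA : ∀ P, ∃ Q R, Adj P Q ∧ Adj P R ∧ Q ≠ R ∧ ¬ Adj Q R := by
    intro P
    by_contra hcon
    push Not at hcon
    have hall : ∀ S Q R, Adj S Q → Adj S R → Q ≠ R → Adj Q R := by
      intro S Q R h1 h2 h3
      obtain ⟨g, hg⟩ := tr S P
      have h4 := hcon (g • Q) (g • R) (by rw [← hg]; exact smul g h1) (by rw [← hg]; exact smul g h2)
        (fun h => h3 (smul_left_cancel g h))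
      exact (smul' g).1 h4
    refine no_equiv hprim (fun P Q => P = Q ∨ Adj P Q) (fun P => Or.inl rfl) ?_ ?_ ?_ (P := A) (Q := B) (R := C)
      (Or.inr hAB') hBA.symm ?_
    · rintro P Q (h | h)
      · exact Or.inl h.symm
      · exact Or.inr (symm h)
    · rintro P Q R (rfl | h) (rfl | h')
      · exact Or.inl rfl
      · exact Or.inr h'
      · exact Or.inr h
      · by_cases h4 : P = R
        · exact Or.inl h4
        · exact Or.inr (hall Q P R (symm h) h' h4)
    · rintro g P Q (rfl | h)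
      · exact Or.inl rfl
      · exact Or.inr (smul g h)
    · rintro (h | h)
      · exact hCne h.symm
      · exact hACn h
  have blN : ∀ P, ∃ Q R, P ≠ Q ∧ ¬ Adj P Q ∧ P ≠ R ∧ ¬ Adj P R ∧ Adj Q R := by
    intro P
    by_contra hcon
    push Not at hcon
    have hall : ∀ S Q R, S ≠ Q → ¬ Adj S Q → S ≠ R → ¬ Adj S R → ¬ Adj Q R := by
      intro S Q R h1 h2 h3 h4 h5
      obtain ⟨g, hg⟩ := tr S P
      have h6 := hcon (g • Q) (g • R) (by rw [← hg]; exact fun h => h1 (smul_left_cancel g h))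
        (by rw [← hg, smul']; exact h2) (by rw [← hg]; exact fun h => h3 (smul_left_cancel g h))
        (by rw [← hg, smul']; exact h4)
      exact h6 ((smul' g).2 h5)
    refine no_equiv hprim (fun P Q => ¬ Adj P Q) irr ?_ ?_ ?_ (P := A) (Q := C) (R := B)
      hACn hCne.symm (not_not.2 hAB')
    · intro P Q h h'
      exact h (symm h')
    · intro P Q R h h' h4
      by_cases h5 : Q = P
      · subst h5
        exact h' h4
      · by_cases h6 : Q = R
        · subst h6
          exact h h4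
        · exact hall Q P R h5 (fun h' => h (symm h')) h6 h' h4
    · intro g P Q h h'
      exact h ((smul' g).1 h')
  -- the kernels
  have hK := fun P => exists_kernel Adj smul trA free nfree blA P
  choose K hK1 hK2 hK3 hK4 using hK
  let D : Dat G X := ⟨Adj, K, symm, irr, smul, tr, trA, trN, free, nfree, exA, exN, blA, blN, fun {P g} => hK1 P g, hK2⟩
  have cA : ∀ P, Nat.card {Q // Adj P Q} = Nat.card {Q // Adj A Q} := by
    intro P
    obtain ⟨g, hg⟩ := tr A P
    refine (Nat.card_congr ((MulAction.toPerm g).subtypeEquiv ?_)).symm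
    intro Q
    rw [MulAction.toPerm_apply, ← hg, smul']
  have cN : ∀ P, Nat.card {Q // P ≠ Q ∧ ¬ Adj P Q} = Nat.card {Q // A ≠ Q ∧ ¬ Adj A Q} := by
    intro P
    obtain ⟨g, hg⟩ := tr A P
    refine (Nat.card_congr ((MulAction.toPerm g).subtypeEquiv ?_)).symm
    intro Q
    rw [MulAction.toPerm_apply, ← hg, smul', Ne, Ne, (MulAction.injective g).eq_iff]
  have sA : ∀ {P Q}, Adj P Q → Nat.card {g : G // g • P = P ∧ g • Q = Q} = Nat.card {g : G // g • A = A ∧ g • B = B} := by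
    rintro P Q ⟨u, h1, h2⟩
    exact conj2 h1 h2
  have sN : ∀ {P Q}, P ≠ Q → ¬ Adj P Q → Nat.card {g : G // g • P = P ∧ g • Q = Q} =
      Nat.card {g : G // g • A = A ∧ g • C = C} := by
    intro P Q hne hna
    obtain ⟨u, h1, h2⟩ := hnon hne hna
    exact conj2 h1 h2
  have cS : ∀ P : X, Nat.card {g : G // g • P = P} = Nat.card {Q // Adj A Q} * Nat.card {g : G // g • A = A ∧ g • B = B} := by
    intro P
    exact card_pairs P (fun Q => Adj P Q) (cA P) (fun Q hQ => sA hQ)
      (fun g Q hg hQ => by have := smul g hQ; rwa [hg] at this) (fun Q Q' hQ hQ' => trA hQ hQ') (exA P)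
  have cS' : ∀ P : X, Nat.card {g : G // g • P = P} =
      Nat.card {Q // A ≠ Q ∧ ¬ Adj A Q} * Nat.card {g : G // g • A = A ∧ g • C = C} := by
    intro P
    exact card_pairs P (fun Q => P ≠ Q ∧ ¬ Adj P Q) (cN P) (fun Q hQ => sN hQ.1 hQ.2)
      (fun g Q hg hQ => ⟨fun h => hQ.1 (smul_left_cancel g (hg.trans h)), fun h => hQ.2 ((smul' g).1 (by rw [hg]; exact h))⟩)
      (fun Q Q' hQ hQ' => trN hQ.1 hQ.2 hQ'.1 hQ'.2) (exN P)
  refine ⟨D, Nat.card X, Nat.card {Q // Adj A Q}, Nat.card {Q // A ≠ Q ∧ ¬ Adj A Q},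
    Nat.card {g : G // g • A = A ∧ g • B = B}, Nat.card {g : G // g • A = A ∧ g • C = C}, ?_⟩
  refine ⟨rfl, cA, cN, sA, sN, cS, ?_, ?_, ?_, ?_, ?_, ?_, ?_, ?_, ?_⟩
  · rw [← cS A, ← cS' A]
  · intro P
    rw [← cA P]
    exact hK3 P
  · rw [← hK3 A]
    exact (hK4 A B hAB').1
  · rw [← hK3 A]
    exact (hK4 A B hAB').2
  · rw [card_group A (tr A), cS A]
  · have h4 : Nat.card {Q // ¬ Adj A Q} = Nat.card {Q // A ≠ Q ∧ ¬ Adj A Q} + 1 := by
      rw [← Finite.card_option]
      refine (Nat.card_congr ⟨fun o => o.elim ⟨A, irr A⟩ (fun Q => ⟨Q.1, Q.2.2⟩),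
        fun Q => if h : A = Q.1 then none else some ⟨Q.1, h, Q.2⟩, ?_, ?_⟩).symm
      · rintro (_ | ⟨Q, hQ1, hQ2⟩)
        · simp
        · simp [hQ1]
      · rintro ⟨Q, hQ⟩
        by_cases h : A = Q
        · subst h
          simp
        · simp [h]
    have h5 : Nat.card X = Nat.card {Q // Adj A Q} + Nat.card {Q // ¬ Adj A Q} := by
      rw [← Nat.card_sum]
      exact Nat.card_congr (Equiv.sumCompl _).symm
    rw [h5, h4]
    ring
  · obtain ⟨g, hg, hg1, hgB⟩ := hfix
    have : Nontrivial {g : G // g • A = A ∧ g • B = B} :=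
      ⟨⟨1, one_smul _ _, one_smul _ _⟩, ⟨g, hg, hgB⟩, fun h => hg1 (congrArg Subtype.val h).symm⟩
    exact Finite.one_lt_card
  · obtain ⟨Q, R, hQ, hR, hne, -⟩ := blA A
    have : Nontrivial {Q // Adj A Q} := ⟨⟨Q, hQ⟩, ⟨R, hR⟩, fun h => hne (congrArg Subtype.val h)⟩
    exact Finite.one_lt_card
  · have : Nonempty {Q // A ≠ Q ∧ ¬ Adj A Q} := ⟨⟨C, hCne.symm, hACn⟩⟩
    exact Finite.card_pos

end Cfsg.Agent.H90.R3
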