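import Cfsg.Agent.H90.R3.OddLine

/-!
# Rank three groups with a Frobenius suborbit: odd complement, lines, conclusion
-/

set_option autoImplicit false

namespace Cfsg.Agent.H90.R3

open Subgroup

variable {G X : Type*} [Group G] [MulAction G X] {D : Dat G X} {n k l f d : ℕ}

/-- in a group of order two -/
theorem two_unique {H : Subgroup G} (h : Nat.card H = 2) {a b : G} (ha : a ∈ H) (hb : b ∈ H) (ha1 : a ≠ 1) (hb1 : b ≠ 1) :
    a = b := by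
  have : Finite H := Nat.finite_of_card_ne_zero (by omega)
  have := Fintype.ofFinite H
  by_contra hab
  have h1 : 2 < Fintype.card H := by
    rw [Fintype.two_lt_card_iff]
    exact ⟨1, ⟨a, ha⟩, ⟨b, hb⟩, fun h => ha1 (congrArg Subtype.val h).symm, fun h => hb1 (congrArg Subtype.val h).symm,
      fun h => hab (congrArg Subtype.val h)⟩
  rw [Nat.card_eq_fintype_card] at h
  omega

section

variable [Finite G] [Finite X] (N : Num D n k l f d) (hf : ¬ Even f)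
  (hne : ∀ {P Q : X}, P ≠ Q → ¬ D.Adj P Q → D.L P Q ≠ ⊥)
include N hf hne

theorem claimB {P Q : X} (hPQ : P ≠ Q) (hadj : ¬ D.Adj P Q) : Nat.card (D.Z P) = 2 * Nat.card (D.W P Q) := by
  apply le_antisymm (claimB_le N hf hPQ hadj (hne hPQ hadj))
  have h1 : Nat.card (D.W P Q) ∣ Nat.card (D.Z P) := Subgroup.card_dvd_of_le inf_le_left
  obtain ⟨c, hc⟩ := h1
  have h2 : 0 < Nat.card (D.Z P) := Nat.card_pos
  by_contra hlt
  have hc1 : c = 1 := by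
    have h3 : c ≠ 0 := by
      rintro rfl
      omega
    have h4 : c < 2 := by
      by_contra h5
      have : Nat.card (D.W P Q) * 2 ≤ Nat.card (D.W P Q) * c := Nat.mul_le_mul_left _ (by omega)
      omega
    omega
  rw [hc1, mul_one] at hc
  have h3 : D.W P Q = D.Z P := Subgroup.eq_of_le_of_card_ge inf_le_left (by rw [hc])
  apply hPQ
  symm
  apply Z_fix N hf
  intro z hz
  rw [← h3] at hz
  exact D.K_le hz.2.1

theorem W_card_eq {P Q P' Q' : X} (hPQ : P ≠ Q) (hadj : ¬ D.Adj P Q) (hPQ' : P' ≠ Q') (hadj' : ¬ D.Adj P' Q') :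
    Nat.card (D.W P Q) = Nat.card (D.W P' Q') := by
  have h1 := claimB N hf hne hPQ hadj
  have h2 := claimB N hf hne hPQ' hadj'
  have h3 := card_Z_eq N P P'
  omega

/-- **Claim C** -/
theorem claimC {P Q R : X} (hQ1 : P ≠ Q) (hQ2 : ¬ D.Adj P Q) (hR1 : P ≠ R) (hR2 : ¬ D.Adj P R)
    (hW : D.W P Q ≠ D.W P R) : D.W P Q ⊓ D.W P R = ⊥ := by
  by_contra hcon
  obtain ⟨⟨z, hzQ, hzR⟩, hz1⟩ := Subgroup.ne_bot_iff_exists_ne_one.1 hcon
  have hz1 : z ≠ 1 := fun h => hz1 (Subtype.ext h)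
  have hQR : ¬ D.Adj Q R := N.clique hzQ.1.1 hz1 (D.K_le hzQ.2.1) (D.K_le hzR.2.1)
  have hneQR : Q ≠ R := by
    rintro rfl
    exact hW rfl
  obtain ⟨y, hy, hyP⟩ : ∃ y ∈ D.W Q R, y • P ≠ P := by
    by_contra hcon'
    push Not at hcon'
    have h1 : D.W Q R ≤ D.W P Q := fun y hy => ⟨claimA N hf hy.1 (hcon' y hy), hy.1⟩
    have h2 : D.W Q R ≤ D.W P R := fun y hy => ⟨claimA N hf hy.1 (hcon' y hy), hy.2⟩
    have h3 := Subgroup.eq_of_le_of_card_ge h1 (by rw [W_card_eq N hf hne hQ1 hQ2 hneQR hQR])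
    have h4 := Subgroup.eq_of_le_of_card_ge h2 (by rw [W_card_eq N hf hne hR1 hR2 hneQR hQR])
    exact hW (h3.symm.trans h4)
  -- the centralizer of `y` in `Z P`
  have h1 : D.W P Q ≤ D.Z P ⊓ centralizer {y} := by
    intro x hx
    exact Subgroup.mem_inf.2 ⟨hx.1, mem_centralizer_singleton_iff.2 (hx.2.2.2 y hy.1.1)⟩
  have h2 : D.W P R ≤ D.Z P ⊓ centralizer {y} := by
    intro x hx
    exact Subgroup.mem_inf.2 ⟨hx.1, mem_centralizer_singleton_iff.2 (hx.2.2.2 y hy.2.1)⟩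
  have h3 : D.Z P ⊓ centralizer {y} = D.Z P := by
    apply Subgroup.eq_of_le_of_card_ge inf_le_left
    obtain ⟨c, hc⟩ : Nat.card (D.W P Q) ∣ Nat.card ↥(D.Z P ⊓ centralizer {y}) := Subgroup.card_dvd_of_le h1
    have h4 := claimB N hf hne hQ1 hQ2
    have h5 : c ≠ 1 := by
      rintro rfl
      rw [mul_one] at hc
      apply hW
      have h6 := Subgroup.eq_of_le_of_card_ge h1 (by rw [hc])
      have h7 := Subgroup.eq_of_le_of_card_ge h2 (by rw [hc, W_card_eq N hf hne hQ1 hQ2 hR1 hR2])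
      exact h6.trans h7.symm
    have h6 : c ≠ 0 := by
      rintro rfl
      have : 0 < Nat.card ↥(D.Z P ⊓ centralizer {y}) := Nat.card_pos
      omega
    have h7 : Nat.card (D.W P Q) * 2 ≤ Nat.card (D.W P Q) * c := Nat.mul_le_mul_left _ (by omega)
    rw [h4, hc]
    omega
  apply hyP
  apply Z_fix N hf
  intro z hz
  rw [← h3] at hz
  have h8 := mem_centralizer_singleton_iff.1 hz.2
  rw [← mul_smul, h8, mul_smul, D.K_le hz.1.1]

/-- the structure of the groups `Z P` -/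
theorem Z_card : (∀ P, Nat.card (D.Z P) = 4) ∧ (∀ {P Q : X}, P ≠ Q → ¬ D.Adj P Q → Nat.card (D.W P Q) = 2) ∧ f = 3 := by
  have hne' : Nonempty X := by
    have h1 := N.cX
    have h2 := N.sum
    exact (Nat.card_pos_iff.1 (by omega)).1
  obtain ⟨P⟩ := hne'
  obtain ⟨Q, R, hQ1, hQ2, hR1, hR2, hQR⟩ := D.blN P
  have hZf : f ∣ Nat.card (D.Z P) - 1 := by
    have h1 := dvd_pred N P (fun x => x ∈ D.Z P) (fun g x hg hx => Dat.conj_Z' hg hx)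
    have h2 := card_erase (fun x : G => x ∈ D.Z P) (a := 1) (one_mem _)
    have h3 : Nat.card {x : G // x ∈ D.Z P ∧ 1 ≠ x} = Nat.card {x : G // x ∈ D.K P ∧ x ≠ 1 ∧ x ∈ D.Z P} := by
      refine Nat.card_congr (Equiv.subtypeEquivRight fun x => ?_)
      constructor
      · rintro ⟨h4, h5⟩
        exact ⟨h4.1, h5.symm, h4⟩
      · rintro ⟨h4, h5, h6⟩
        exact ⟨h6, h5.symm⟩
    have h4 : Nat.card {x : G // x ∈ D.Z P} = Nat.card (D.Z P) := rfl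
    rw [h4, h3] at h2
    rw [h2, Nat.add_sub_cancel]
    exact h1
  have hf2 := N.f2
  have hB := claimB N hf hne hQ1 hQ2
  have hw0 : 0 < Nat.card (D.W P Q) := Nat.card_pos
  have hw1 : Nat.card (D.W P Q) ≠ 1 := by
    intro h
    rw [hB, h] at hZf
    have := Nat.le_of_dvd (by norm_num) hZf
    omega
  have hWne : D.W P Q ≠ D.W P R := by
    intro h
    obtain ⟨z, hz, hz1⟩ : ∃ z ∈ D.W P Q, z ≠ 1 := by
      have h1 : D.W P Q ≠ ⊥ := by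
        intro h1
        rw [h1, Subgroup.card_bot] at hw1
        exact hw1 rfl
      obtain ⟨y, hy⟩ := (D.W P Q).ne_bot_iff_exists_ne_one.1 h1
      exact ⟨y.1, y.2, fun h => hy (Subtype.ext h)⟩
    have hz' := hz
    rw [h] at hz'
    exact N.clique hz.1.1 hz1 (D.K_le hz.2.1) (D.K_le hz'.2.1) hQR
  have hC := claimC N hf hne hQ1 hQ2 hR1 hR2 hWne
  have hw2 : Nat.card (D.W P Q) = 2 := by
    have h1 : Nat.card (D.W P Q) * Nat.card (D.W P R) ≤ Nat.card (D.Z P) := by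
      rw [← Nat.card_prod]
      refine Nat.card_le_card_of_injective (fun a : D.W P Q × D.W P R => (⟨a.1.1 * a.2.1, mul_mem a.1.2.1 a.2.2.1⟩ : D.Z P)) ?_
      rintro ⟨⟨a, ha⟩, ⟨b, hb⟩⟩ ⟨⟨a', ha'⟩, ⟨b', hb'⟩⟩ h
      have h : a * b = a' * b' := congrArg Subtype.val h
      have h2 : a'⁻¹ * a = b' * b⁻¹ := by
        rw [inv_mul_eq_iff_eq_mul, ← mul_assoc, ← h, mul_inv_cancel_right]
      have h3 : a'⁻¹ * a ∈ D.W P Q ⊓ D.W P R := by
        refine Subgroup.mem_inf.2 ⟨(D.W P Q).mul_mem ((D.W P Q).inv_mem ha') ha, ?_⟩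
        rw [h2]
        exact (D.W P R).mul_mem hb' ((D.W P R).inv_mem hb)
      rw [hC, mem_bot] at h3
      have h4 : a = a' := (inv_mul_eq_one.1 h3).symm
      subst h4
      have h5 : b = b' := mul_left_cancel h
      subst h5
      rfl
    rw [hB, W_card_eq N hf hne hR1 hR2 hQ1 hQ2] at h1
    have h2 := Nat.le_of_mul_le_mul_right h1 hw0
    omega
  have hZ4 : Nat.card (D.Z P) = 4 := by rw [hB, hw2]
  refine ⟨fun R => by rw [← hZ4, card_Z_eq N R P], fun h1 h2 => by rw [← hw2, W_card_eq N hf hne h1 h2 hQ1 hQ2], ?_⟩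
  rw [hZ4] at hZf
  rcases (Nat.dvd_prime Nat.prime_three).1 hZf with h | h <;> omega

theorem odd_line : False := by
  obtain ⟨hZ4, hW2, hf3⟩ := Z_card N hf hne
  have hne' : Nonempty X := by
    have h1 := N.cX
    have h2 := N.sum
    exact (Nat.card_pos_iff.1 (by omega)).1
  obtain ⟨P⟩ := hne'
  obtain ⟨C, hC1, hC2⟩ := D.exN P
  obtain ⟨j, hj⟩ := N.exists_j
  have hl1 := N.l1
  -- `d = j`
  have hdj : d = j := by
    rw [← N.sN hC1 hC2, ← hj hC1 hC2]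
    refine Nat.card_congr (Equiv.subtypeEquivRight fun e => ?_)
    constructor
    · rintro ⟨h1, h2⟩
      rw [N.mem_L]
      refine ⟨?_, h2⟩
      obtain ⟨z, hz, hz1⟩ : ∃ z ∈ D.W P C, z ≠ 1 := by
        have h3 : D.W P C ≠ ⊥ := by
          intro h3
          have := hW2 hC1 hC2
          rw [h3, Subgroup.card_bot] at this
          omega
        obtain ⟨y, hy⟩ := (D.W P C).ne_bot_iff_exists_ne_one.1 h3
        exact ⟨y.1, y.2, fun h => hy (Subtype.ext h)⟩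
      refine D.comm_mem hz.1.1 hz1 h1 ?_
      have h3 : e * z * e⁻¹ ∈ D.W P C := ⟨Dat.conj_Z' h1 hz.1, Dat.conj_Z' h2 hz.2⟩
      have h4 : e * z * e⁻¹ ≠ 1 := by
        intro h4
        apply hz1
        have : z = e⁻¹ * (e * z * e⁻¹) * e := by group
        rw [this, h4]
        group
      have h5 := two_unique (hW2 hC1 hC2) h3 hz h4 hz1
      rwa [mul_inv_eq_iff_eq_mul] at h5
    · intro h
      exact ⟨D.K_le h.1, D.K_le h.2⟩
  have hexz : ∀ {P Q : X}, P ≠ Q → ¬ D.Adj P Q → ∃ z ∈ D.W P Q, z ≠ 1 := by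
    intro P Q h1 h2
    have h3 : D.W P Q ≠ ⊥ := by
      intro h3
      have := hW2 h1 h2
      rw [h3, Subgroup.card_bot] at this
      omega
    obtain ⟨y, hy⟩ := (D.W P Q).ne_bot_iff_exists_ne_one.1 h3
    exact ⟨y.1, y.2, fun h => hy (Subtype.ext h)⟩
  have hZ3 : ∀ R : X, Nat.card {x : G // x ∈ D.Z R ∧ x ≠ 1} = 3 := by
    intro R
    have h2 := card_erase (fun x : G => x ∈ D.Z R) (a := 1) (one_mem _)
    have h3 : Nat.card {x : G // x ∈ D.Z R ∧ 1 ≠ x} = Nat.card {x : G // x ∈ D.Z R ∧ x ≠ 1} :=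
      Nat.card_congr (Equiv.subtypeEquivRight fun x => by rw [ne_comm])
    have h4 : Nat.card {x : G // x ∈ D.Z R} = Nat.card (D.Z R) := rfl
    rw [h4, h3, hZ4] at h2
    omega
  -- `ω`
  obtain ⟨z₀, hz₀, hz₀1⟩ := exists_Z N hf P
  obtain ⟨ω, hω⟩ : ∃ ω, Nat.card {Q : X // z₀ • Q = Q} = ω := ⟨_, rfl⟩
  have hfixconj : ∀ g x : G, Nat.card {Q : X // (g * x * g⁻¹) • Q = Q} = Nat.card {Q : X // x • Q = Q} := by
    intro g x
    refine (Nat.card_congr ((MulAction.toPerm g).subtypeEquiv ?_)).symm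
    intro Q
    rw [MulAction.toPerm_apply, mul_smul, mul_smul, inv_smul_smul, (MulAction.injective g).eq_iff]
  have hωP : ∀ z ∈ D.Z P, z ≠ 1 → Nat.card {Q : X // z • Q = Q} = ω := by
    intro z hz hz1
    have h1 := dvd_pred N P (fun x => x ∈ D.Z P ∧ Nat.card {Q : X // x • Q = Q} = ω) (by
      rintro g x hg ⟨h1, h2⟩
      exact ⟨Dat.conj_Z' hg h1, by rw [hfixconj, h2]⟩)
    have h2 : Nat.card {x : G // x ∈ D.K P ∧ x ≠ 1 ∧ x ∈ D.Z P ∧ Nat.card {Q : X // x • Q = Q} = ω} =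
        Nat.card {x : G // (x ∈ D.Z P ∧ x ≠ 1) ∧ Nat.card {Q : X // x • Q = Q} = ω} := by
      refine Nat.card_congr (Equiv.subtypeEquivRight fun x => ?_)
      constructor
      · rintro ⟨-, h3, h4, h5⟩
        exact ⟨⟨h4, h3⟩, h5⟩
      · rintro ⟨⟨h3, h4⟩, h5⟩
        exact ⟨h3.1, h4, h3, h5⟩
    rw [h2, hf3] at h1
    have h3 := card_split (fun x : G => x ∈ D.Z P ∧ x ≠ 1) (fun x => Nat.card {Q : X // x • Q = Q} = ω)
    rw [hZ3] at h3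
    have h4 : 0 < Nat.card {x : G // (x ∈ D.Z P ∧ x ≠ 1) ∧ Nat.card {Q : X // x • Q = Q} = ω} := by
      have : Nonempty {x : G // (x ∈ D.Z P ∧ x ≠ 1) ∧ Nat.card {Q : X // x • Q = Q} = ω} := ⟨⟨z₀, ⟨hz₀, hz₀1⟩, hω⟩⟩
      exact Nat.card_pos
    have h5 := Nat.le_of_dvd h4 h1
    have h6 : Nat.card {x : G // (x ∈ D.Z P ∧ x ≠ 1) ∧ ¬ Nat.card {Q : X // x • Q = Q} = ω} = 0 := by omega
    by_contra hcon
    rw [Nat.card_eq_zero] at h6
    rcases h6 with h6 | h6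
    · exact h6.elim ⟨z, ⟨hz, hz1⟩, hcon⟩
    · exact not_finite {x : G // (x ∈ D.Z P ∧ x ≠ 1) ∧ ¬ Nat.card {Q : X // x • Q = Q} = ω}
  have hωR : ∀ (R : X) (z : G), z ∈ D.Z R → z ≠ 1 → Nat.card {Q : X // z • Q = Q} = ω := by
    intro R z hz hz1
    obtain ⟨g, hg⟩ := D.tr R P
    have h1 := Dat.conj_mem_Z hz g
    rw [hg] at h1
    rw [← hfixconj g z]
    apply hωP _ h1
    intro h4
    apply hz1
    have : z = g⁻¹ * (g * z * g⁻¹) * g := by group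
    rw [this, h4]
    group
  -- `3 (ω - 1) = l`
  have hfixP : ∀ z ∈ D.Z P, z ≠ 1 → Nat.card {Q : X // (P ≠ Q ∧ ¬ D.Adj P Q) ∧ z • Q = Q} = ω - 1 := by
    intro z hz hz1
    have h1 := card_erase (fun Q : X => z • Q = Q) (a := P) (D.K_le hz.1)
    rw [hωP z hz hz1] at h1
    have h2 : Nat.card {Q : X // z • Q = Q ∧ P ≠ Q} = Nat.card {Q : X // (P ≠ Q ∧ ¬ D.Adj P Q) ∧ z • Q = Q} := by
      refine Nat.card_congr (Equiv.subtypeEquivRight fun Q => ?_)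
      constructor
      · rintro ⟨h3, h4⟩
        exact ⟨⟨h4, N.clique hz.1 hz1 (D.K_le hz.1) h3⟩, h3⟩
      · rintro ⟨⟨h3, -⟩, h4⟩
        exact ⟨h4, h3⟩
    omega
  have hl : 3 * (ω - 1) = l := by
    have h := dc (α := {z : G // z ∈ D.Z P ∧ z ≠ 1}) (β := {Q // P ≠ Q ∧ ¬ D.Adj P Q}) (fun z Q => z.1 • Q.1 = Q.1)
      (x := ω - 1) (y := 1) ?_ ?_
    · rw [hZ3, N.cN, mul_one] at h
      exact h
    · rintro ⟨z, hz, hz1⟩
      rw [← hfixP z hz hz1]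
      exact Nat.card_congr ⟨fun Q => ⟨Q.1.1, Q.1.2, Q.2⟩, fun Q => ⟨⟨Q.1, Q.2.1⟩, Q.2.2⟩, fun _ => rfl, fun _ => rfl⟩
    · rintro ⟨Q, hQ1, hQ2⟩
      rw [Nat.card_eq_one_iff_unique]
      obtain ⟨z, hz, hz1⟩ := hexz hQ1 hQ2
      refine ⟨⟨?_⟩, ⟨⟨⟨z, hz.1, hz1⟩, D.K_le hz.2.1⟩⟩⟩
      rintro ⟨⟨a, ha, ha1⟩, haQ⟩ ⟨⟨b, hb, hb1⟩, hbQ⟩
      apply Subtype.ext
      apply Subtype.ext
      exact two_unique (hW2 hQ1 hQ2) ((mem_W N hf).2 ⟨ha, haQ⟩) ((mem_W N hf).2 ⟨hb, hbQ⟩) ha1 hb1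
  have hω2 : 2 ≤ ω := by omega
  -- elements with fixed points in the class of `z₀`
  have hTfix : ∀ {R S : X} {t : G}, t ∈ D.Z R → t • S = S → t ∈ D.Z S := fun h1 h2 => claimA N hf h1 h2
  -- parity
  have hpar : ∀ (t : G) (p : X → Prop), t * t = 1 → (∀ Q, p Q → p (t • Q)) → (∀ Q, p Q → t • Q ≠ Q) → t ≠ 1 →
      2 ∣ Nat.card {Q // p Q} := by
    intro t p ht hp hnf ht1
    have h1 : Nat.card (Subgroup.zpowers t) = 2 := by
      rw [Nat.card_zpowers]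
      exact orderOf_eq_prime (by rw [pow_two, ht]) ht1
    have hcases : ∀ g ∈ Subgroup.zpowers t, g = 1 ∨ g = t := by
      intro g hg
      by_cases hg1 : g = 1
      · exact Or.inl hg1
      · exact Or.inr (two_unique h1 hg (Subgroup.mem_zpowers t) hg1 ht1)
    rw [← h1]
    apply free_dvd
    · intro g hg Q hQ
      rcases hcases g hg with rfl | rfl
      · rwa [one_smul]
      · exact hp Q hQ
    · intro g hg Q hQ h
      rcases hcases g hg with rfl | rfl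
      · rfl
      · exact absurd h (hnf Q hQ)
  have hodd : 2 ∣ ω - 1 := by
    obtain ⟨z₁, hz₁, hz₁1, hz₁z₀⟩ : ∃ z₁ ∈ D.Z P, z₁ ≠ 1 ∧ z₁ ≠ z₀ := by
      by_contra hcon
      push Not at hcon
      have h1 : Nat.card {x : G // x ∈ D.Z P ∧ x ≠ 1} ≤ 1 := by
        rw [Finite.card_le_one_iff_subsingleton]
        refine ⟨?_⟩
        rintro ⟨a, ha, ha1⟩ ⟨b, hb, hb1⟩
        exact Subtype.ext ((hcon a ha ha1).trans (hcon b hb hb1).symm)
      rw [hZ3] at h1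
      omega
    rw [← hfixP z₀ hz₀ hz₀1]
    refine hpar z₁ _ hz₁.2.1 ?_ ?_ hz₁1
    · rintro Q ⟨⟨h1, h2⟩, h3⟩
      have h4 : z₁ • P = P := D.K_le hz₁.1
      have h5 : z₀ • z₁ • Q = z₁ • Q := by
        rw [← mul_smul, hz₀.2.2 z₁ hz₁.1, mul_smul, h3]
      refine ⟨⟨fun h => h1 (smul_left_cancel z₁ (h4.trans h)), fun h => h2 ?_⟩, h5⟩
      rw [← D.adj_smul_iff z₁, h4]
      exact h
    · rintro Q ⟨⟨h1, h2⟩, h3⟩ h4
      exact hz₁z₀ (two_unique (hW2 h1 h2) ((mem_W N hf).2 ⟨hz₁, h4⟩) ((mem_W N hf).2 ⟨hz₀, h3⟩) hz₁1 hz₀1)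
  obtain ⟨v, hv⟩ : ∃ v, ω = 2 * v + 1 := by
    obtain ⟨v, hv⟩ := hodd
    exact ⟨v, by omega⟩
  have hv1 : 1 ≤ v := by omega
  -- count 2
  have hTP : ∀ R : X, Nat.card {t : G // (∃ S : X, t ∈ D.Z S ∧ t ≠ 1) ∧ t • R = R} = 3 := by
    intro R
    rw [← hZ3 R]
    refine Nat.card_congr (Equiv.subtypeEquivRight fun t => ?_)
    constructor
    · rintro ⟨⟨S, h1, h2⟩, h3⟩
      exact ⟨hTfix h1 h3, h2⟩
    · rintro ⟨h1, h2⟩
      exact ⟨⟨R, h1, h2⟩, D.K_le h1.1⟩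
  have c2 : Nat.card {t : G // ∃ S : X, t ∈ D.Z S ∧ t ≠ 1} * ω = n * 3 := by
    rw [← N.cX]
    refine dc (α := {t : G // ∃ S : X, t ∈ D.Z S ∧ t ≠ 1}) (β := X) (fun t Q => t.1 • Q = Q) ?_ ?_
    · rintro ⟨t, S, ht, ht1⟩
      exact hωR S t ht ht1
    · intro Q
      rw [← hTP Q]
      exact Nat.card_congr ⟨fun t => ⟨t.1.1, t.1.2, t.2⟩, fun t => ⟨⟨t.1, t.2.1⟩, t.2.2⟩, fun t => rfl, fun t => rfl⟩
  -- count 3
  obtain ⟨ι, ι', hι1, hι2, hι3⟩ := card_move2 N P (fun t => ∃ S : X, t ∈ D.Z S ∧ t ≠ 1) (by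
    rintro g t ⟨S, hS, ht1⟩
    refine ⟨_, Dat.conj_mem_Z hS g, ?_⟩
    intro h4
    apply ht1
    have : t = g⁻¹ * (g * t * g⁻¹) * g := by group
    rw [this, h4]
    group)
  rw [hTP P] at hι3
  -- the elements commuting with `z₀`
  have hswap : ∀ {Q : X} {t : G}, z₀ • Q = Q → P ≠ Q → (∃ S : X, t ∈ D.Z S ∧ t ≠ 1) → t • P = Q →
      t * z₀ = z₀ * t ∧ t ≠ z₀ := by
    rintro Q t hzQ hPQ ⟨S, hS, ht1⟩ htP
    have htQ : t • Q = P := by rw [← htP, ← mul_smul, hS.2.1, one_smul]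
    have hadj := N.clique hz₀.1 hz₀1 (D.K_le hz₀.1) hzQ
    have hzW : z₀ ∈ D.W P Q := (mem_W N hf).2 ⟨hz₀, hzQ⟩
    have h1 := Dat.conj_mem_Z hzW.1 t
    have h2 := Dat.conj_mem_Z hzW.2 t
    rw [htP] at h1
    rw [htQ] at h2
    have h3 : t * z₀ * t⁻¹ ≠ 1 := by
      intro h4
      apply hz₀1
      have : z₀ = t⁻¹ * (t * z₀ * t⁻¹) * t := by group
      rw [this, h4]
      group
    refine ⟨?_, ?_⟩
    · have h5 := two_unique (hW2 hPQ hadj) (Subgroup.mem_inf.2 ⟨h2, h1⟩) hzW h3 hz₀1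
      rwa [mul_inv_eq_iff_eq_mul] at h5
    · rintro rfl
      apply hPQ
      rw [← htP, D.K_le hz₀.1]
  have hZtwo : ∀ R : X, z₀ ∈ D.Z R → Nat.card {t : G // (t ∈ D.Z R ∧ t ≠ 1) ∧ z₀ ≠ t} = 2 := by
    intro R hR
    have h1 := card_erase (fun t : G => t ∈ D.Z R ∧ t ≠ 1) (a := z₀) ⟨hR, hz₀1⟩
    rw [hZ3] at h1
    omega
  have hdiff : ∀ {R S : X} {t : G}, R ≠ S → z₀ • R = R → z₀ • S = S → (∃ S : X, t ∈ D.Z S ∧ t ≠ 1) → t • R = R →
      t • S = S → t = z₀ := by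
    rintro R S t hRS hzR hzS ⟨T, hT, ht1⟩ htR htS
    have h1 : z₀ ∈ D.Z R := claimA N hf hz₀ hzR
    have hadj := N.clique h1.1 hz₀1 hzR hzS
    exact two_unique (hW2 hRS hadj) ((mem_W N hf).2 ⟨hTfix hT htR, htS⟩) ((mem_W N hf).2 ⟨h1, hzS⟩) ht1 hz₀1
  have hA1 : Nat.card {t : G // (∃ S : X, t ∈ D.Z S ∧ t ≠ 1) ∧ t * z₀ = z₀ * t ∧ t ≠ z₀} * 1 = ω * 2 := by
    rw [← hω]
    refine dc (α := {t : G // (∃ S : X, t ∈ D.Z S ∧ t ≠ 1) ∧ t * z₀ = z₀ * t ∧ t ≠ z₀}) (β := {Q : X // z₀ • Q = Q})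
      (fun t Q => t.1 • Q.1 = Q.1) ?_ ?_
    · rintro ⟨t, ⟨S, hS, ht1⟩, htz, htz'⟩
      rw [Nat.card_eq_one_iff_unique]
      refine ⟨⟨?_⟩, ?_⟩
      · rintro ⟨⟨a, ha⟩, ha'⟩ ⟨⟨b, hb⟩, hb'⟩
        apply Subtype.ext
        apply Subtype.ext
        show a = b
        by_contra hab
        exact htz' (hdiff hab ha hb ⟨S, hS, ht1⟩ ha' hb')
      · by_contra hcon
        rw [not_nonempty_iff] at hcon
        have h1 := hpar t (fun Q => z₀ • Q = Q) hS.2.1 (by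
          intro Q hQ
          rw [← mul_smul, ← htz, mul_smul, hQ]) (by
          intro Q hQ hQ'
          exact hcon.elim ⟨⟨Q, hQ⟩, hQ'⟩) ht1
        rw [hω, hv] at h1
        omega
    · rintro ⟨R, hR⟩
      have hzR := claimA N hf hz₀ hR
      rw [← hZtwo R hzR]
      refine Nat.card_congr ⟨fun t => ⟨t.1.1, ?_⟩, fun t => ⟨⟨t.1, ?_⟩, D.K_le t.2.1.1.1⟩, fun t => rfl, fun t => rfl⟩
      · obtain ⟨⟨t, ⟨S, hS, ht1⟩, htz, htz'⟩, htR⟩ := t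
        exact ⟨⟨hTfix hS htR, ht1⟩, fun h => htz' h.symm⟩
      · obtain ⟨t, ⟨h1, h2⟩, h3⟩ := t
        exact ⟨⟨R, h1, h2⟩, h1.2.2 z₀ hzR.1, fun h => h3 h.symm⟩
  have hA2 := card_split (fun t : G => (∃ S : X, t ∈ D.Z S ∧ t ≠ 1) ∧ t * z₀ = z₀ * t ∧ t ≠ z₀) (fun t => t • P = P)
  have hA3 : Nat.card {t : G // ((∃ S : X, t ∈ D.Z S ∧ t ≠ 1) ∧ t * z₀ = z₀ * t ∧ t ≠ z₀) ∧ t • P = P} = 2 := by
    rw [← hZtwo P hz₀]
    refine Nat.card_congr (Equiv.subtypeEquivRight fun t => ?_)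
    constructor
    · rintro ⟨⟨⟨S, hS, ht1⟩, htz, htz'⟩, htP⟩
      exact ⟨⟨hTfix hS htP, ht1⟩, fun h => htz' h.symm⟩
    · rintro ⟨⟨h1, h2⟩, h3⟩
      exact ⟨⟨⟨P, h1, h2⟩, h1.2.2 z₀ hz₀.1, fun h => h3 h.symm⟩, D.K_le h1.1⟩
  have hA4 : Nat.card {t : G // ((∃ S : X, t ∈ D.Z S ∧ t ≠ 1) ∧ t * z₀ = z₀ * t ∧ t ≠ z₀) ∧ ¬ t • P = P} * 1 =
      (ω - 1) * ι' := by
    rw [← hfixP z₀ hz₀ hz₀1]
    refine dc (α := {t : G // ((∃ S : X, t ∈ D.Z S ∧ t ≠ 1) ∧ t * z₀ = z₀ * t ∧ t ≠ z₀) ∧ ¬ t • P = P})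
      (β := {Q : X // (P ≠ Q ∧ ¬ D.Adj P Q) ∧ z₀ • Q = Q}) (fun t Q => t.1 • P = Q.1) ?_ ?_
    · rintro ⟨t, ⟨⟨S, hS, ht1⟩, htz, htz'⟩, htP⟩
      rw [Nat.card_eq_one_iff_unique]
      have h1 : z₀ • (t • P) = t • P := by
        rw [← mul_smul, ← htz, mul_smul, D.K_le hz₀.1]
      exact ⟨⟨fun a b => Subtype.ext (Subtype.ext (a.2.symm.trans b.2))⟩,
        ⟨⟨⟨t • P, ⟨fun h => htP h.symm, N.clique hz₀.1 hz₀1 (D.K_le hz₀.1) h1⟩, h1⟩, rfl⟩⟩⟩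
    · rintro ⟨Q, ⟨hQ1, hQ2⟩, hQ3⟩
      rw [← hι2 Q hQ1 hQ2]
      refine Nat.card_congr ⟨fun t => ⟨t.1.1, t.1.2.1.1, t.2⟩, fun t => ⟨⟨t.1, ⟨t.2.1, hswap hQ3 hQ1 t.2.1 t.2.2⟩, ?_⟩,
        t.2.2⟩, fun t => rfl, fun t => rfl⟩
      intro h
      exact hQ1 (h.symm.trans t.2.2)
  -- arithmetic
  have hω1 : ω - 1 = 2 * v := by omega
  rw [hω1] at hA4 hl
  have hι'2 : ι' = 2 := by
    have h1 : 2 * v * ι' = 2 * v * 2 := by omega
    exact Nat.eq_of_mul_eq_mul_left (by omega) h1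
  have hk : k = j * (2 * v) := by
    have h1 := N.cS'
    rw [hf3, hdj, ← hl] at h1
    have h2 : 3 * k = 3 * (j * (2 * v)) := by
      calc 3 * k = k * 3 := by ring
        _ = _ := by rw [h1]; ring
    omega
  have hsum := N.sum
  have hkey : (2 * v + 1) * (j * ι + 6) = 3 * j + 6 := by
    have h1 : (2 * v) * ((2 * v + 1) * (j * ι + 6)) = (2 * v) * (3 * j + 6) := by
      rw [hι3, hv, hι'2, hsum, ← hl, hk] at c2
      have e1 : (3 + j * (2 * v) * ι + 3 * (2 * v) * 2) * (2 * v + 1) = 3 + 6 * v + (2 * v) * ((2 * v + 1) * (j * ι + 6)) := by ring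
      have e2 : (1 + j * (2 * v) + 3 * (2 * v)) * 3 = 3 + 6 * v + (2 * v) * (3 * j + 6) := by ring
      omega
    exact Nat.eq_of_mul_eq_mul_left (by omega) h1
  rcases Nat.eq_zero_or_pos ι with hι0 | hι0
  · rw [hι0, mul_zero, zero_add] at hkey
    have hj4 : j = 4 * v := by omega
    have hk1 := N.dvd
    have hk2 := N.k2
    rw [hf3] at hk1
    have h1 : k = 8 * (v * v) := by rw [hk, hj4]; ring
    have h2 : v % 3 = 0 ∨ v % 3 = 1 ∨ v % 3 = 2 := by omega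
    have h3 : (v * v) % 3 = 0 ∨ (v * v) % 3 = 1 := by
      rw [Nat.mul_mod]
      rcases h2 with h | h | h <;> rw [h] <;> norm_num
    omega
  · have h1 : j * 1 ≤ j * ι := Nat.mul_le_mul_left _ hι0
    have h2 : 3 * (j * ι + 6) ≤ (2 * v + 1) * (j * ι + 6) := Nat.mul_le_mul_right _ (by omega)
    omega

end

end Cfsg.Agent.H90.R3
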