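import Cfsg.Agent.H496.TwoFrob
import Cfsg.Agent.S4252
import Cfsg.Agent.Solvable.FrobeniusKernel

/-!
# Rank three groups with a Frobenius suborbit: basic structure
-/

set_option autoImplicit false

namespace Cfsg.Agent.H90.R3

open Subgroup

/-- double counting -/
theorem dc {α β : Type*} [Finite α] [Finite β] (r : α → β → Prop) {x y : ℕ}
    (h1 : ∀ a, Nat.card {b // r a b} = x) (h2 : ∀ b, Nat.card {a // r a b} = y) :
    Nat.card α * x = Nat.card β * y := by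
  have e1 : Nat.card (Σ a : α, {b // r a b}) = Nat.card α * x := by
    have := Fintype.ofFinite α
    rw [Nat.card_sigma, Finset.sum_congr rfl (fun a _ => h1 a), Finset.sum_const, Finset.card_univ,
      smul_eq_mul, Nat.card_eq_fintype_card]
  have e2 : Nat.card (Σ b : β, {a // r a b}) = Nat.card β * y := by
    have := Fintype.ofFinite β
    rw [Nat.card_sigma, Finset.sum_congr rfl (fun a _ => h2 a), Finset.sum_const, Finset.card_univ,
      smul_eq_mul, Nat.card_eq_fintype_card]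
  rw [← e1, ← e2]
  refine Nat.card_congr ⟨fun p => ⟨p.2.1, p.1, p.2.2⟩, fun p => ⟨p.2.1, p.1, p.2.2⟩, ?_, ?_⟩
  · rintro ⟨a, b, h⟩; rfl
  · rintro ⟨a, b, h⟩; rfl

variable {G X : Type*} [Group G] [MulAction G X]

/-- a group element `g₀` moving `(P, Q)` to `(P', Q')` -/
theorem coset2 {P Q P' Q' : X} {g₀ : G} (h1 : g₀ • P = P') (h2 : g₀ • Q = Q') :
    Nat.card {g : G // g • P = P' ∧ g • Q = Q'} = Nat.card {g : G // g • P = P ∧ g • Q = Q} := by
  refine Nat.card_congr ⟨fun g => ⟨g₀⁻¹ * g.1, ?_, ?_⟩, fun g => ⟨g₀ * g.1, ?_, ?_⟩, ?_, ?_⟩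
  · rw [mul_smul, g.2.1, ← h1, inv_smul_smul]
  · rw [mul_smul, g.2.2, ← h2, inv_smul_smul]
  · rw [mul_smul, g.2.1, h1]
  · rw [mul_smul, g.2.2, h2]
  · intro g; simp
  · intro g; simp

theorem coset1 {P P' : X} {g₀ : G} (h1 : g₀ • P = P') :
    Nat.card {g : G // g • P = P'} = Nat.card {g : G // g • P = P} := by
  refine Nat.card_congr ⟨fun g => ⟨g₀⁻¹ * g.1, ?_⟩, fun g => ⟨g₀ * g.1, ?_⟩, ?_, ?_⟩
  · rw [mul_smul, g.2, ← h1, inv_smul_smul]
  · rw [mul_smul, g.2, h1]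
  · intro g; simp
  · intro g; simp

theorem conj2 {P Q P' Q' : X} {g₀ : G} (h1 : g₀ • P = P') (h2 : g₀ • Q = Q') :
    Nat.card {g : G // g • P' = P' ∧ g • Q' = Q'} = Nat.card {g : G // g • P = P ∧ g • Q = Q} := by
  have h1' : g₀⁻¹ • P' = P := by rw [← h1, inv_smul_smul]
  have h2' : g₀⁻¹ • Q' = Q := by rw [← h2, inv_smul_smul]
  refine Nat.card_congr ⟨fun g => ⟨g₀⁻¹ * g.1 * g₀, ?_, ?_⟩, fun g => ⟨g₀ * g.1 * g₀⁻¹, ?_, ?_⟩, ?_, ?_⟩
  · rw [mul_smul, mul_smul, h1, g.2.1, h1']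
  · rw [mul_smul, mul_smul, h2, g.2.2, h2']
  · rw [mul_smul, mul_smul, h1', g.2.1, h1]
  · rw [mul_smul, mul_smul, h2', g.2.2, h2]
  · intro g; apply Subtype.ext; simp [mul_assoc]
  · intro g; apply Subtype.ext; simp [mul_assoc]

theorem conj1 {P P' : X} {g₀ : G} (h1 : g₀ • P = P') :
    Nat.card {g : G // g • P' = P'} = Nat.card {g : G // g • P = P} := by
  have := conj2 (Q := P) (Q' := P') h1 h1
  simpa only [and_self_iff] using this

variable (G X)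

/-- Rank three data with a Frobenius suborbit. -/
structure Dat where
  Adj : X → X → Prop
  K : X → Subgroup G
  symm : ∀ {P Q}, Adj P Q → Adj Q P
  irr : ∀ P, ¬ Adj P P
  smul : ∀ (g : G) {P Q}, Adj P Q → Adj (g • P) (g • Q)
  tr : ∀ P Q : X, ∃ g : G, g • P = Q
  trA : ∀ {P Q P' Q'}, Adj P Q → Adj P' Q' → ∃ g : G, g • P = P' ∧ g • Q = Q'
  trN : ∀ {P Q P' Q'}, P ≠ Q → ¬ Adj P Q → P' ≠ Q' → ¬ Adj P' Q' → ∃ g : G, g • P = P' ∧ g • Q = Q'
  free : ∀ {g : G} {P Q Q'}, g • P = P → Adj P Q → g • Q = Q → Adj P Q' → g • Q' = Q' → Q ≠ Q' → g = 1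
  nfree : ∀ {P Q}, Adj P Q → ∃ g : G, g ≠ 1 ∧ g • P = P ∧ g • Q = Q
  exA : ∀ P, ∃ Q, Adj P Q
  exN : ∀ P, ∃ Q, P ≠ Q ∧ ¬ Adj P Q
  blA : ∀ P, ∃ Q R, Adj P Q ∧ Adj P R ∧ Q ≠ R ∧ ¬ Adj Q R
  blN : ∀ P, ∃ Q R, P ≠ Q ∧ ¬ Adj P Q ∧ P ≠ R ∧ ¬ Adj P R ∧ Adj Q R
  mem_K : ∀ {P} {g : G}, g ∈ K P ↔ g • P = P ∧ (g = 1 ∨ ∀ Q, Adj P Q → g • Q ≠ Q)
  nilp : ∀ P, Group.IsNilpotent (K P)

variable {G X}

/-- The numerical data. -/
structure Num (D : Dat G X) (n k l f d : ℕ) : Prop where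
  cX : Nat.card X = n
  cA : ∀ P, Nat.card {Q // D.Adj P Q} = k
  cN : ∀ P, Nat.card {Q // P ≠ Q ∧ ¬ D.Adj P Q} = l
  sA : ∀ {P Q}, D.Adj P Q → Nat.card {g : G // g • P = P ∧ g • Q = Q} = f
  sN : ∀ {P Q}, P ≠ Q → ¬ D.Adj P Q → Nat.card {g : G // g • P = P ∧ g • Q = Q} = d
  cS : ∀ P : X, Nat.card {g : G // g • P = P} = k * f
  cS' : k * f = l * d
  cK : ∀ P, Nat.card (D.K P) = k
  cop : k.Coprime f
  dvd : f ∣ k - 1
  cG : Nat.card G = n * (k * f)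
  sum : n = 1 + k + l
  f2 : 2 ≤ f
  k2 : 2 ≤ k
  l1 : 1 ≤ l

/-- neighbours as a set with an action of the stabilizer -/
def nbr (Adj : X → X → Prop) (hs : ∀ (g : G) {P Q}, Adj P Q → Adj (g • P) (g • Q)) (P : X) :
    SubMulAction (MulAction.stabilizer G P) X where
  carrier := {Q | Adj P Q}
  smul_mem' := by
    rintro ⟨g, hg⟩ Q hQ
    have h1 := hs g hQ
    rw [MulAction.mem_stabilizer_iff.1 hg] at h1
    exact h1

section

variable [Finite G]

/-- existence of the Frobenius kernel -/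
theorem exists_kernel [Finite X] (Adj : X → X → Prop) (hs : ∀ (g : G) {P Q}, Adj P Q → Adj (g • P) (g • Q))
    (trA : ∀ {P Q P' Q'}, Adj P Q → Adj P' Q' → ∃ g : G, g • P = P' ∧ g • Q = Q')
    (free : ∀ {g : G} {P Q Q'}, g • P = P → Adj P Q → g • Q = Q → Adj P Q' → g • Q' = Q' → Q ≠ Q' → g = 1)
    (nfree : ∀ {P Q}, Adj P Q → ∃ g : G, g ≠ 1 ∧ g • P = P ∧ g • Q = Q)
    (blA : ∀ P, ∃ Q R, Adj P Q ∧ Adj P R ∧ Q ≠ R ∧ ¬ Adj Q R) (P : X) :
    ∃ K : Subgroup G, (∀ g : G, g ∈ K ↔ g • P = P ∧ (g = 1 ∨ ∀ Q, Adj P Q → g • Q ≠ Q)) ∧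
      Group.IsNilpotent K ∧ (Nat.card K = Nat.card {Q // Adj P Q}) ∧
      (∀ Q, Adj P Q → (Nat.card K).Coprime (Nat.card {g : G // g • P = P ∧ g • Q = Q}) ∧
        Nat.card {g : G // g • P = P ∧ g • Q = Q} ∣ Nat.card K - 1) := by
  classical
  have := Fintype.ofFinite X
  set Ω := nbr Adj hs P with hΩ
  have hmem : ∀ Q : X, Q ∈ Ω ↔ Adj P Q := fun Q => Iff.rfl
  obtain ⟨Q₀, R₀, hQ₀, hR₀, hne, -⟩ := blA P
  have := Fintype.ofFinite Ω
  have h1 : 1 < Fintype.card Ω :=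
    Fintype.one_lt_card_iff.2 ⟨⟨Q₀, hQ₀⟩, ⟨R₀, hR₀⟩, fun h => hne (congrArg Subtype.val h)⟩
  have htr : ∀ a b : Ω, ∃ g : MulAction.stabilizer G P, g • a = b := by
    rintro ⟨a, ha⟩ ⟨b, hb⟩
    obtain ⟨g, hg1, hg2⟩ := trA ((hmem a).1 ha) ((hmem b).1 hb)
    exact ⟨⟨g, hg1⟩, Subtype.ext hg2⟩
  have hnr : ∃ g : MulAction.stabilizer G P, g ≠ 1 ∧ ∃ a : Ω, g • a = a := by
    obtain ⟨g, hg1, hg2, hg3⟩ := nfree hQ₀
    exact ⟨⟨g, hg2⟩, fun h => hg1 (congrArg Subtype.val h), ⟨Q₀, hQ₀⟩, Subtype.ext hg3⟩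
  have hfx : ∀ g : MulAction.stabilizer G P, g ≠ 1 → ∀ a b : Ω, g • a = a → g • b = b → a = b := by
    rintro ⟨g, hg⟩ hg1 ⟨a, ha⟩ ⟨b, hb⟩ h2 h3
    by_contra hab
    exact hg1 (Subtype.ext (free hg ((hmem a).1 ha) (congrArg Subtype.val h2) ((hmem b).1 hb) (congrArg Subtype.val h3)
      (fun h => hab (Subtype.ext h))))
  have key := fun a : Ω => S4252.result h1 htr hnr hfx a
  obtain ⟨hC, hker⟩ := key ⟨Q₀, hQ₀⟩
  obtain ⟨N, hN, -⟩ := Cfsg.Agent.S0035.result _ hC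
  obtain ⟨hNn, hnil, hcomp, -, -, hcop⟩ := H496.TwoFrob.basic hC hN.symm
  have hNm : ∀ g : MulAction.stabilizer G P, g ∈ N ↔ g = 1 ∨ ∀ a : Ω, g • a ≠ a := by
    intro g
    rw [← SetLike.mem_coe, hN, hker]
    rfl
  have hcN : Nat.card (N.map (MulAction.stabilizer G P).subtype) = Nat.card N :=
    Subgroup.card_map_of_injective (subtype_injective _)
  have hidx : Nat.card N = Nat.card {Q // Adj P Q} := by
    rw [← hcomp.index_eq_card, MulAction.index_stabilizer]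
    have : MulAction.orbit (MulAction.stabilizer G P) (⟨Q₀, hQ₀⟩ : Ω) = Set.univ := by
      rw [Set.eq_univ_iff_forall]
      exact fun b => htr _ b
    rw [this, Set.ncard_univ]
    rfl
  have hst : ∀ Q (hQ : Adj P Q), Nat.card (MulAction.stabilizer (MulAction.stabilizer G P) (⟨Q, hQ⟩ : Ω)) =
      Nat.card {g : G // g • P = P ∧ g • Q = Q} := by
    intro Q hQ
    refine Nat.card_congr ⟨fun g => ⟨g.1.1, g.1.2, congrArg Subtype.val g.2⟩,
      fun g => ⟨⟨g.1, g.2.1⟩, Subtype.ext g.2.2⟩, fun g => rfl, fun g => rfl⟩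
  refine ⟨N.map (MulAction.stabilizer G P).subtype, ?_, ?_, ?_, ?_⟩
  · intro g
    constructor
    · rintro ⟨⟨g, hg⟩, hgN, rfl⟩
      refine ⟨hg, ?_⟩
      rcases (hNm _).1 hgN with h | h
      · left
        exact congrArg Subtype.val h
      · right
        intro Q hQ hgQ
        exact h ⟨Q, hQ⟩ (Subtype.ext hgQ)
    · rintro ⟨hg, h⟩
      refine ⟨⟨g, hg⟩, (hNm _).2 ?_, rfl⟩
      rcases h with h | h
      · left
        exact Subtype.ext h
      · right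
        rintro ⟨Q, hQ⟩ hgQ
        exact h Q hQ (congrArg Subtype.val hgQ)
  · have := hnil
    exact Group.nilpotent_of_surjective ((MulAction.stabilizer G P).subtype.subgroupMap N)
      (MonoidHom.subgroupMap_surjective _ N)
  · rw [hcN, hidx]
  · intro Q hQ
    obtain ⟨hC', -⟩ := key ⟨Q, hQ⟩
    have h3 := Cfsg.Agent.Solvable.FrobeniusKernel.coprime_index_card hC'
    have h4 := Cfsg.Agent.Solvable.FrobeniusKernel.card_dvd_index_sub_one hC'
    rw [hst Q hQ] at h3 h4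
    have h5 : (MulAction.stabilizer (MulAction.stabilizer G P) (⟨Q, hQ⟩ : Ω)).index = Nat.card {Q // Adj P Q} := by
      rw [MulAction.index_stabilizer]
      have : MulAction.orbit (MulAction.stabilizer G P) (⟨Q, hQ⟩ : Ω) = Set.univ := by
        rw [Set.eq_univ_iff_forall]
        exact fun b => htr _ b
      rw [this, Set.ncard_univ]
      rfl
    rw [hcN, hidx, ← h5]
    exact ⟨h3, h4⟩

end

namespace Dat

variable (D : Dat G X)

theorem adj_comm {P Q : X} : D.Adj P Q ↔ D.Adj Q P := ⟨D.symm, D.symm⟩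

theorem adj_smul_iff (g : G) {P Q : X} : D.Adj (g • P) (g • Q) ↔ D.Adj P Q := by
  constructor
  · intro h
    have := D.smul g⁻¹ h
    rwa [inv_smul_smul, inv_smul_smul] at this
  · exact D.smul g

variable {D} in
theorem ne_of_adj {P Q : X} (h : D.Adj P Q) : P ≠ Q := fun h' => D.irr P (by rw [← h'] at h; exact h)

theorem K_le {P : X} {g : G} (h : g ∈ D.K P) : g • P = P := (D.mem_K.1 h).1

theorem K_free {P Q : X} {g : G} (h : g ∈ D.K P) (hQ : D.Adj P Q) (hg : g • Q = Q) : g = 1 := by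
  rcases (D.mem_K.1 h).2 with h1 | h1
  · exact h1
  · exact absurd hg (h1 Q hQ)

theorem conj_mem {P : X} {x : G} (hx : x ∈ D.K P) (g : G) : g * x * g⁻¹ ∈ D.K (g • P) := by
  rw [D.mem_K]
  refine ⟨?_, ?_⟩
  · rw [mul_smul, mul_smul, inv_smul_smul, D.K_le hx]
  · by_cases h1 : x = 1
    · left
      rw [h1, mul_one, mul_inv_cancel]
    · right
      intro Q hQ h2
      apply h1
      have h3 : D.Adj P (g⁻¹ • Q) := by
        rw [← D.adj_smul_iff g, smul_inv_smul]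
        exact hQ
      apply D.K_free hx h3
      rw [eq_inv_smul_iff, ← mul_smul, ← mul_smul]
      exact h2

theorem conj_mem' {P : X} {x g : G} (hx : x ∈ D.K P) (hg : g • P = P) : g * x * g⁻¹ ∈ D.K P := by
  have := D.conj_mem hx g
  rwa [hg] at this

theorem conj_mem_iff {P : X} {x g : G} : g * x * g⁻¹ ∈ D.K (g • P) ↔ x ∈ D.K P := by
  constructor
  · intro h
    have := D.conj_mem h g⁻¹
    rw [inv_smul_smul] at this
    have e : g⁻¹ * (g * x * g⁻¹) * g⁻¹⁻¹ = x := by group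
    rwa [e] at this
  · exact fun h => D.conj_mem h g

/-- centralizers of nonidentity elements of the kernel -/
theorem comm_mem {P : X} {x y : G} (hx : x ∈ D.K P) (hx1 : x ≠ 1) (hy : y • P = P) (h : y * x = x * y) :
    y ∈ D.K P := by
  rw [D.mem_K]
  refine ⟨hy, ?_⟩
  by_contra hcon
  push Not at hcon
  obtain ⟨hy1, Q, hQ, hyQ⟩ := hcon
  apply hy1
  refine D.free hy hQ hyQ (Q' := x • Q) ?_ ?_ ?_
  · have := D.smul x hQ
    rwa [D.K_le hx] at this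
  · rw [← mul_smul, h, mul_smul, hyQ]
  · intro h1
    exact hx1 (D.K_free hx hQ h1.symm)

end Dat

variable {D : Dat G X} {n k l f d : ℕ}

theorem Num.mem_K_of_pow [Finite G] (N : Num D n k l f d) {P : X} {y : G} (hy : y • P = P) {a : ℕ} (ha : a.Coprime f)
    (hya : y ^ a = 1) : y ∈ D.K P := by
  rw [D.mem_K]
  refine ⟨hy, ?_⟩
  by_contra hcon
  push Not at hcon
  obtain ⟨hy1, Q, hQ, hyQ⟩ := hcon
  apply hy1
  have h1 : Nat.card ↥(MulAction.stabilizer G P ⊓ MulAction.stabilizer G Q) = f := by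
    rw [← N.sA hQ]
    rfl
  have h2 : y ^ f = 1 := by
    have h3 : (⟨y, hy, hyQ⟩ : ↥(MulAction.stabilizer G P ⊓ MulAction.stabilizer G Q)) ^
        Nat.card ↥(MulAction.stabilizer G P ⊓ MulAction.stabilizer G Q) = 1 := pow_card_eq_one'
    rw [h1] at h3
    exact congrArg Subtype.val h3
  have h4 : orderOf y ∣ Nat.gcd a f := Nat.dvd_gcd (orderOf_dvd_of_pow_eq_one hya) (orderOf_dvd_of_pow_eq_one h2)
  rw [ha.gcd_eq_one, Nat.dvd_one, orderOf_eq_one_iff] at h4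
  exact h4

theorem Num.pow_k (N : Num D n k l f d) {P : X} {x : G} (hx : x ∈ D.K P) : x ^ k = 1 := by
  have h3 : (⟨x, hx⟩ : D.K P) ^ Nat.card (D.K P) = 1 := pow_card_eq_one'
  rw [N.cK P] at h3
  exact congrArg Subtype.val h3

/-- an element of a kernel lies in the kernel of each of its fixed points -/
theorem Num.fix_mem [Finite G] (N : Num D n k l f d) {P R : X} {x : G} (hx : x ∈ D.K P) (hR : x • R = R) : x ∈ D.K R :=
  N.mem_K_of_pow hR N.cop (N.pow_k hx)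

/-- the fixed points of a nonidentity element of a kernel are pairwise not adjacent -/
theorem Num.clique [Finite G] (N : Num D n k l f d) {P R R' : X} {x : G} (hx : x ∈ D.K P) (hx1 : x ≠ 1) (hR : x • R = R)
    (hR' : x • R' = R') : ¬ D.Adj R R' := fun h => hx1 (D.K_free (N.fix_mem hx hR) h hR')

/-- **Lemma N**: a nontrivial subgroup of the kernel which is normal in the point stabilizer fixes only one point. -/
theorem Num.lemN [Finite G] (N : Num D n k l f d) {P : X} {Y : Subgroup G} (hY : Y ≤ D.K P) (hY1 : Y ≠ ⊥)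
    (hn : ∀ g : G, g • P = P → ∀ y ∈ Y, g * y * g⁻¹ ∈ Y) {R : X} (hR : ∀ y ∈ Y, y • R = R) : R = P := by
  by_contra hne
  obtain ⟨y, hyY, hy1⟩ : ∃ y ∈ Y, y ≠ 1 := by
    obtain ⟨y, hy⟩ := Y.ne_bot_iff_exists_ne_one.1 hY1
    exact ⟨y.1, y.2, fun h => hy (Subtype.ext h)⟩
  have hPR : ¬ D.Adj P R := N.clique (hY hyY) hy1 (D.K_le (hY hyY)) (hR y hyY)
  -- `Y` fixes all points not adjacent to `P`
  have hall : ∀ S, P ≠ S → ¬ D.Adj P S → ∀ y ∈ Y, y • S = S := by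
    intro S hS1 hS2 z hz
    obtain ⟨g, hg1, hg2⟩ := D.trN (Ne.symm hne) hPR hS1 hS2
    have h3 := hR (g⁻¹ * z * g) (by
      have := hn g⁻¹ (by rw [inv_smul_eq_iff, hg1]) z hz
      rwa [inv_inv] at this)
    rw [mul_smul, mul_smul, hg2, inv_smul_eq_iff, hg2] at h3
    exact h3
  obtain ⟨Q, S, hQ1, hQ2, hS1, hS2, hQS⟩ := D.blN P
  exact N.clique (hY hyY) hy1 (hall Q hQ1 hQ2 y hyY) (hall S hS1 hS2 y hyY) hQS

end Cfsg.Agent.H90.R3
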