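import Cfsg.Agent.H90.R3.Lam

/-!
# Rank three groups with a Frobenius suborbit: involutions when the complement has even order
-/

set_option autoImplicit false

namespace Cfsg.Agent.H90.R3

open Subgroup

variable {G X : Type*} [Group G] [MulAction G X] {D : Dat G X} {n k l f d : ℕ}

/-- an involution fixing the point `P` -/
def Inv (G : Type*) {X : Type*} [Group G] [MulAction G X] (P : X) (t : G) : Prop := t ≠ 1 ∧ t * t = 1 ∧ t • P = P

theorem Inv.inv_eq {P : X} {t : G} (h : Inv G P t) : t⁻¹ = t := inv_eq_of_mul_eq_one_left h.2.1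

theorem Inv.conj {P : X} {t : G} (h : Inv G P t) (g : G) : Inv G (g • P) (g * t * g⁻¹) := by
  refine ⟨?_, ?_, ?_⟩
  · intro h1
    apply h.1
    have : t = g⁻¹ * (g * t * g⁻¹) * g := by group
    rw [this, h1]
    group
  · calc g * t * g⁻¹ * (g * t * g⁻¹) = g * (t * t) * g⁻¹ := by group
      _ = 1 := by rw [h.2.1]; group
  · rw [mul_smul, mul_smul, inv_smul_smul, h.2.2]

theorem Num.exists_ne [Finite G] (N : Num D n k l f d) (P : X) : ∃ x ∈ D.K P, x ≠ 1 := by
  have h1 := N.cK P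
  have h2 := N.k2
  have : Nontrivial (D.K P) := Finite.one_lt_card_iff_nontrivial.1 (by omega)
  obtain ⟨x, hx⟩ := _root_.exists_ne (1 : D.K P)
  exact ⟨x.1, x.2, fun h => hx (Subtype.ext h)⟩

section

variable [Finite G] (N : Num D n k l f d) (hf : Even f)
include N hf

theorem odd_k : Odd k := by
  obtain ⟨c, hc⟩ := N.dvd
  obtain ⟨e, he⟩ := hf
  have := N.k2
  rw [he] at hc
  refine ⟨e * c, ?_⟩
  have h1 : k = (e + e) * c + 1 := by omega
  rw [h1]
  ring

theorem exists_inv (P : X) : ∃ t : G, Inv G P t := by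
  obtain ⟨Q, hQ⟩ := D.exA P
  have h1 : Nat.card ↥(MulAction.stabilizer G P ⊓ MulAction.stabilizer G Q) = f := by
    rw [← N.sA hQ]
    rfl
  obtain ⟨⟨t, ht1, ht2⟩, ht⟩ := exists_prime_orderOf_dvd_card' (G := ↥(MulAction.stabilizer G P ⊓ MulAction.stabilizer G Q)) 2
    (by rw [h1]; exact hf.two_dvd)
  refine ⟨t, ?_, ?_, ht1⟩
  · rintro rfl
    have h2 : (⟨1, ht1, ht2⟩ : ↥(MulAction.stabilizer G P ⊓ MulAction.stabilizer G Q)) = 1 := rfl
    rw [h2, orderOf_one] at ht
    omega
  · have h3 : (⟨t, ht1, ht2⟩ : ↥(MulAction.stabilizer G P ⊓ MulAction.stabilizer G Q)) ^ 2 = 1 := by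
      rw [← ht, pow_orderOf_eq_one]
    rw [← pow_two]
    exact congrArg Subtype.val h3

theorem inv_not_mem {P : X} {t : G} (ht : Inv G P t) {R : X} : t ∉ D.K R := by
  intro h
  apply ht.1
  have h1 := N.pow_k h
  obtain ⟨e, he⟩ := odd_k N hf
  rw [he, pow_add, pow_mul, pow_two, ht.2.1, one_pow, one_mul, pow_one] at h1
  exact h1

/-- an involution of the point stabilizer inverts the kernel -/
theorem inverts {P : X} {t : G} (ht : Inv G P t) {x : G} (hx : x ∈ D.K P) : t * x * t = x⁻¹ := by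
  have hmem : ∀ y ∈ D.K P, t * y * t ∈ D.K P := by
    intro y hy
    have := D.conj_mem' hy ht.2.2
    rwa [ht.inv_eq] at this
  let φ : D.K P →* D.K P :=
    { toFun := fun y => ⟨t * y.1 * t, hmem _ y.2⟩
      map_one' := Subtype.ext (by simp [ht.2.1])
      map_mul' := by
        intro a b
        apply Subtype.ext
        show t * (a.1 * b.1) * t = t * a.1 * t * (t * b.1 * t)
        calc t * (a.1 * b.1) * t = t * a.1 * (1 * b.1) * t := by group
          _ = t * a.1 * (t * t * b.1) * t := by rw [ht.2.1]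
          _ = _ := by group }
  have h1 : MonoidHom.FixedPointFree φ := by
    intro y hy
    by_contra hne
    have hy1 : y.1 ≠ 1 := fun h => hne (Subtype.ext h)
    have hy2 : t * y.1 * t = y.1 := congrArg Subtype.val hy
    apply inv_not_mem N hf ht (R := P)
    refine D.comm_mem y.2 hy1 ht.2.2 ?_
    calc t * y.1 = t * y.1 * (t * t) := by rw [ht.2.1, mul_one]
      _ = t * y.1 * t * t := by group
      _ = y.1 * t := by rw [hy2]
  have h2 : Function.Involutive φ := by
    intro y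
    apply Subtype.ext
    show t * (t * y.1 * t) * t = y.1
    calc t * (t * y.1 * t) * t = (t * t) * y.1 * (t * t) := by group
      _ = y.1 := by rw [ht.2.1]; group
  have h3 := congrFun (h1.coe_eq_inv_of_involutive h2) ⟨x, hx⟩
  exact congrArg Subtype.val h3

theorem comm_K {P : X} {x y : G} (hx : x ∈ D.K P) (hy : y ∈ D.K P) : x * y = y * x := by
  obtain ⟨t, ht⟩ := exists_inv N hf P
  have h1 := inverts N hf ht hx
  have h2 := inverts N hf ht hy
  have h3 := inverts N hf ht ((D.K P).mul_mem hx hy)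
  have h4 : t * (x * y) * t = (t * x * t) * (t * y * t) := by
    calc t * (x * y) * t = t * x * (1 * y) * t := by group
      _ = t * x * (t * t * y) * t := by rw [ht.2.1]
      _ = _ := by group
  rw [h3, h1, h2] at h4
  have h5 := congrArg (fun z => z⁻¹) h4
  simpa using h5

/-- the product of two involutions of the point stabilizer lies in the kernel -/
theorem mul_mem_K {P : X} {t t' : G} (ht : Inv G P t) (ht' : Inv G P t') : t * t' ∈ D.K P := by
  obtain ⟨x, hx, hx1⟩ := N.exists_ne P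
  have hx' : x⁻¹ ∈ D.K P := inv_mem hx
  refine D.comm_mem hx hx1 (by rw [mul_smul, ht'.2.2, ht.2.2]) ?_
  have h1 := inverts N hf ht' hx
  have h2 := inverts N hf ht hx'
  have h3 : t' * x = x⁻¹ * t' := by
    calc t' * x = t' * x * (t' * t') := by rw [ht'.2.1, mul_one]
      _ = t' * x * t' * t' := by group
      _ = x⁻¹ * t' := by rw [h1]
  have h4 : t * x⁻¹ = x * t := by
    calc t * x⁻¹ = t * x⁻¹ * (t * t) := by rw [ht.2.1, mul_one]
      _ = t * x⁻¹ * t * t := by group
      _ = x * t := by rw [h2, inv_inv]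
  calc t * t' * x = t * (t' * x) := by group
    _ = t * x⁻¹ * t' := by rw [h3]; group
    _ = x * (t * t') := by rw [h4]; group

theorem inv_mul {P : X} {t x : G} (ht : Inv G P t) (hx : x ∈ D.K P) : Inv G P (t * x) := by
  refine ⟨?_, ?_, ?_⟩
  · intro h
    apply inv_not_mem N hf ht (R := P)
    have : t = x⁻¹ := eq_inv_of_mul_eq_one_left h
    rw [this]
    exact inv_mem hx
  · calc t * x * (t * x) = (t * x * t) * x := by group
      _ = 1 := by rw [inverts N hf ht hx]; group
  · rw [mul_smul, D.K_le hx, ht.2.2]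

/-- conjugacy of the involutions of a point stabilizer -/
theorem conj_in {P : X} {t t' : G} (ht : Inv G P t) (ht' : Inv G P t') : ∃ x ∈ D.K P, x * t * x⁻¹ = t' := by
  have h1 := mul_mem_K N hf ht ht'
  obtain ⟨e, he⟩ := odd_k N hf
  set y := (t * t') ^ (e + 1) with hy
  have hyK : y ∈ D.K P := pow_mem h1 _
  have hyy : y * y = t * t' := by
    have h2 := N.pow_k h1
    rw [hy, ← pow_add]
    have : e + 1 + (e + 1) = k + 1 := by omega
    rw [this, pow_succ, h2, one_mul]
  refine ⟨y⁻¹, inv_mem hyK, ?_⟩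
  have h3 := inverts N hf ht (inv_mem hyK)
  rw [inv_inv] at h3
  calc y⁻¹ * t * y⁻¹⁻¹ = (t * t) * y⁻¹ * t * y := by rw [ht.2.1]; group
    _ = t * (t * y⁻¹ * t) * y := by group
    _ = t * (y * y) := by rw [h3]; group
    _ = (t * t) * t' := by rw [hyy]; group
    _ = t' := by rw [ht.2.1, one_mul]

theorem card_inv (P : X) : Nat.card {t : G // Inv G P t} = k := by
  obtain ⟨t, ht⟩ := exists_inv N hf P
  rw [← N.cK P]
  refine Nat.card_congr ⟨fun s => ⟨t * s.1, mul_mem_K N hf ht s.2⟩, fun x => ⟨t * x.1, inv_mul N hf ht x.2⟩, ?_, ?_⟩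
  · intro s
    apply Subtype.ext
    show t * (t * s.1) = s.1
    rw [← mul_assoc, ht.2.1, one_mul]
  · intro s
    apply Subtype.ext
    show t * (t * s.1) = s.1
    rw [← mul_assoc, ht.2.1, one_mul]

/-- an involution fixing `P` fixes exactly one neighbour of `P` -/
theorem unique_nbr {P : X} {t : G} (ht : Inv G P t) : ∃ Q, D.Adj P Q ∧ t • Q = Q ∧ ∀ R, D.Adj P R → t • R = R → R = Q := by
  have h1 := inv_not_mem N hf ht (R := P)
  rw [D.mem_K] at h1
  push Not at h1
  obtain ⟨-, Q, hQ1, hQ2⟩ := h1 ht.2.2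
  refine ⟨Q, hQ1, hQ2, ?_⟩
  intro R hR1 hR2
  by_contra hne
  exact ht.1 (D.free ht.2.2 hR1 hR2 hQ1 hQ2 hne)

/-- all involutions with fixed points are conjugate -/
theorem conj_all {P Q : X} {t t' : G} (ht : Inv G P t) (ht' : Inv G Q t') : ∃ g : G, g * t * g⁻¹ = t' := by
  obtain ⟨u, hu⟩ := D.tr P Q
  have h1 := ht.conj u
  rw [hu] at h1
  obtain ⟨x, -, hx⟩ := conj_in N hf h1 ht'
  refine ⟨x * u, ?_⟩
  rw [← hx]
  group

/-- the number of fixed points -/
theorem exists_m [Finite X] : ∃ m : ℕ, ∀ {P : X} {t : G}, Inv G P t → Nat.card {Q : X // t • Q = Q} = m := by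
  have hne : Nonempty X := by
    have h1 := N.cX
    have h2 := N.sum
    exact (Nat.card_pos_iff.1 (by omega)).1
  obtain ⟨P₀⟩ := hne
  obtain ⟨t₀, ht₀⟩ := exists_inv N hf P₀
  refine ⟨Nat.card {Q : X // t₀ • Q = Q}, ?_⟩
  intro P t ht
  obtain ⟨g, hg⟩ := conj_all N hf ht₀ ht
  refine (Nat.card_congr ((MulAction.toPerm g).subtypeEquiv ?_)).symm
  intro Q
  rw [MulAction.toPerm_apply, ← hg, mul_smul, mul_smul, inv_smul_smul, (MulAction.injective g).eq_iff]

/-- the number of involutions with fixed points -/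
theorem card_T [Finite X] {m : ℕ} (hm : ∀ {P : X} {t : G}, Inv G P t → Nat.card {Q : X // t • Q = Q} = m) :
    Nat.card {t : G // ∃ P : X, Inv G P t} * m = n * k := by
  have h := dc (α := {t : G // ∃ P : X, Inv G P t}) (β := X) (fun t Q => t.1 • Q = Q) (x := m) (y := k) ?_ ?_
  · rw [h, N.cX]
  · rintro ⟨t, P, ht⟩
    exact hm ht
  · intro Q
    rw [← card_inv N hf Q]
    exact Nat.card_congr ⟨fun t => ⟨t.1.1, by obtain ⟨⟨t, P, ht⟩, h⟩ := t; exact ⟨ht.1, ht.2.1, h⟩⟩,
      fun t => ⟨⟨t.1, Q, t.2⟩, t.2.2.2⟩, fun t => rfl, fun t => rfl⟩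

end

end Cfsg.Agent.H90.R3
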