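import Mathlib

/-!
# Number theory for S2207
-/

set_option autoImplicit false

namespace Cfsg.Agent.H90.R3.NT

/-- the case `i = -1` -/
theorem case_neg {v h e : ℤ} (hv : 2 ≤ v) (hh : 1 ≤ h) (he : 1 ≤ e) (hvh : h + 9 ≤ v)
    (h1 : e * (v - 5 + 3 * h) = 12 * v) (h2 : e * h * (h + v + 3) = 2 * (v * v - 1)) : False := by
  have he15 : e ≤ 15 := by
    by_contra hlt
    push Not at hlt
    nlinarith
  have hq : ((12 - e) * v + 5 * e) * ((12 + 2 * e) * v + 14 * e) = 18 * e * (v * v - 1) := by
    have h3 : 3 * e * h = (12 - e) * v + 5 * e := by linarith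
    have h4 : 3 * e * h + 3 * e * (v + 3) = (12 + 2 * e) * v + 14 * e := by rw [h3]; ring
    rw [← h3, ← h4]
    calc 3 * e * h * (3 * e * h + 3 * e * (v + 3)) = 9 * e * (e * h * (h + v + 3)) := by ring
      _ = 18 * e * (v * v - 1) := by rw [h2]; ring
  have hvb : v ≤ 60 := by
    by_contra hlt
    push Not at hlt
    interval_cases e <;> nlinarith
  interval_cases e <;> first
    | (exfalso; nlinarith)
    | (interval_cases v <;> omega)

theorem case_zero {v h e : ℤ} (hv : 2 ≤ v) (hh : 1 ≤ h) (he : 1 ≤ e)
    (h1 : e * (v - 1 + 2 * h) = 4 * v) (h2 : e * h * (h + v + 3) = 2 * (v * v - 1)) :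
    v = 11 ∧ h = 6 ∧ e = 2 := by
  have he3 : e ≤ 3 := by
    by_contra hlt
    push Not at hlt
    nlinarith
  interval_cases e
  · exfalso
    have h3 : 2 * h = 3 * v + 1 := by linarith
    have h4 : (2 * h) * (2 * h + 2 * v + 6) = 8 * (v * v - 1) := by nlinarith
    rw [h3] at h4
    nlinarith
  · have h3 : 2 * h = v + 1 := by linarith
    have h4 : (v + 1) * (h + v + 3) = 2 * (v - 1) * (v + 1) := by rw [← h3]; nlinarith
    have h5 : h + v + 3 = 2 * (v - 1) := by
      have : (v + 1) * (h + v + 3 - 2 * (v - 1)) = 0 := by linarith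
      rcases mul_eq_zero.1 this with h6 | h6 <;> linarith
    refine ⟨by linarith, by linarith, rfl⟩
  · exfalso
    have h3 : 6 * h = v + 3 := by linarith
    have h4 : (6 * h) * (6 * h + 6 * v + 18) = 24 * (v * v - 1) := by nlinarith
    rw [h3] at h4
    have hvb : v ≤ 6 := by
      by_contra hlt
      push Not at hlt
      nlinarith
    interval_cases v <;> omega

theorem case_pos {v h e : ℤ} (hv : 2 ≤ v) (hh : 1 ≤ h) (he : 1 ≤ e)
    (h1 : e * (3 * v + 5 * h + 1) = 4 * v) (h2 : e * h * (h + v + 3) = 2 * (v * v - 1)) : False := by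
  have he1 : e = 1 := by
    by_contra hne
    have : 2 ≤ e := by omega
    nlinarith
  subst he1
  have h3 : v = 5 * h + 1 := by linarith
  subst h3
  nlinarith

/-- **The number theoretic core**, `d` even. -/
theorem core {mu g v z b : ℤ} (hmu : 2 ≤ mu) (hev : Even mu) (hg : 2 ≤ g) (hv : 1 ≤ v) (hdvd : g + 2 ∣ 2 * mu)
    (hvv : v * v - 1 = mu * (g - 1 - v)) (hb : 0 ≤ b) (hz : -2 ≤ z)
    (h1 : mu + 2 * v ∣ (1 + mu * g) * z)
    (h2 : 2 * (mu + 2 * v) * b = 2 * (v * (1 + g) + 1) - mu * g * z) :
    (g = 2 ∧ mu = 2 ∧ v = 1) ∨ (g = 2 ∧ mu = 4 ∧ v = 1) ∨ (g = 18 ∧ mu = 20 ∧ v = 11) := by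
  obtain ⟨m, hm⟩ := hev
  obtain ⟨e, he⟩ := hdvd
  -- `z` is even
  have hdz : mu + 2 * v ∣ 2 * (v * (1 + g) + 1) + z := by
    have : 2 * (v * (1 + g) + 1) + z = (mu + 2 * v) * (2 * b) + (1 + mu * g) * z := by linarith
    rw [this]
    exact dvd_add (dvd_mul_right _ _) h1
  have hzev : Even z := by
    obtain ⟨c, hc⟩ := hdz
    refine ⟨(m + v) * c - (v * (1 + g) + 1), ?_⟩
    have : mu + 2 * v = 2 * (m + v) := by omega
    rw [this] at hc
    linarith
  obtain ⟨w, hw⟩ := hzev
  rcases eq_or_lt_of_le hv with hv1 | hv2
  · -- `v = 1`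
    subst hv1
    have hg2 : g = 2 := by
      have h3 : mu * (g - 1 - 1) = 0 := by linarith
      rcases mul_eq_zero.1 h3 with h4 | h4 <;> omega
    subst hg2
    have hw1 : w ≤ 1 := by
      by_contra hlt
      push Not at hlt
      nlinarith
    have hw2 : -1 ≤ w := by omega
    interval_cases w
    · -- `z = -2`
      right; left
      refine ⟨rfl, ?_, rfl⟩
      have h3 : mu + 2 ∣ 6 := by
        have h4 : (6 : ℤ) = (1 + mu * 2) * z + (mu + 2 * 1) * 4 := by rw [hw]; ring
        have h5 : mu + 2 * 1 ∣ 6 := by
          rw [h4]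
          exact dvd_add h1 (dvd_mul_right _ _)
        simpa using h5
      have h4 := Int.le_of_dvd (by norm_num) h3
      have : mu = 2 ∨ mu = 3 ∨ mu = 4 := by omega
      rcases this with h | h | h
      · subst h; norm_num at h3
      · omega
      · exact h
    · -- `z = 0`
      left
      refine ⟨rfl, ?_, rfl⟩
      have h3 : (mu + 2) * b = 4 := by rw [hw] at h2; linarith
      have h4 : mu + 2 ∣ 4 := ⟨b, h3.symm⟩
      have h5 := Int.le_of_dvd (by norm_num) h4
      omega
    · -- `z = 2`
      exfalso
      have h3 : (mu + 2) * b = 4 - 2 * mu := by rw [hw] at h2; linarith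
      have h4 : mu = 2 := by nlinarith
      subst h4
      rw [hw] at h1
      norm_num at h1
  · -- `v ≥ 2`
    have hv2' : 2 ≤ v := by omega
    set h := g - 1 - v with hh
    have hh1 : 1 ≤ h := by
      by_contra hlt
      push Not at hlt
      nlinarith
    have hgv : g = v + 1 + h := by omega
    have hg2mu : g + 2 ≤ 2 * mu := Int.le_of_dvd (by omega) ⟨e, he⟩
    have he1 : 1 ≤ e := by
      by_contra hlt
      push Not at hlt
      nlinarith
    have hw1 : w ≤ 1 := by
      by_contra hlt
      push Not at hlt
      have h3 : mu * g * z ≤ 2 * (v * (1 + g) + 1) := by nlinarith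
      have h4 : 4 * (mu * g) ≤ mu * g * z := by nlinarith [mul_pos (by omega : (0 : ℤ) < mu) (by omega : (0 : ℤ) < g)]
      have h5 : v ≤ g - 2 := by omega
      nlinarith
    have hw2 : -1 ≤ w := by omega
    set q := m + v with hq
    have hS : mu + 2 * v = 2 * q := by omega
    have hmuq : mu = 2 * q - 2 * v := by omega
    interval_cases w
    · -- `z = -2`
      exfalso
      have hz' : z = -2 := by omega
      have h3 : q ∣ 1 + mu * g := by
        rw [hS, hz'] at h1
        obtain ⟨c, hc⟩ := h1
        exact ⟨-c, by linarith⟩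
      have h4 : q ∣ v * (1 + g) := by
        rw [hS, hz'] at hdz
        obtain ⟨c, hc⟩ := hdz
        exact ⟨c, by linarith⟩
      have h5 : q ∣ 2 * v + 1 := by
        obtain ⟨c, hc⟩ := h3
        obtain ⟨c', hc'⟩ := h4
        exact ⟨c - 2 * g + 2 * c', by rw [hmuq] at hc; linear_combination hc + 2 * hc'⟩
      have h6 : q = 2 * v + 1 := by
        obtain ⟨c, hc⟩ := h5
        have hq1 : v + 1 ≤ q := by omega
        have hc0 : 1 ≤ c := by
          by_contra hlt
          push Not at hlt
          nlinarith
        have hc1 : c ≤ 1 := by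
          by_contra hlt
          push Not at hlt
          nlinarith
        have : c = 1 := le_antisymm hc1 hc0
        rw [this] at hc
        linarith
      have h7 : 2 * h = v - 1 := by
        have h8 : v * v - 1 = (2 * v + 2) * h := by rw [hvv, hmuq, h6]; ring
        have h9 : (v + 1) * (v - 1 - 2 * h) = 0 := by linarith
        rcases mul_eq_zero.1 h9 with h10 | h10 <;> linarith
      have h8 : 2 * v + 1 ∣ 3 := by
        rw [← h6]
        obtain ⟨c, hc⟩ := h4
        refine ⟨(2 * v + 1) * 3 - 8 * c, ?_⟩
        rw [h6] at hc ⊢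
        rw [hgv] at hc
        have h10 : v * (3 * v + 3) = 2 * ((2 * v + 1) * c) := by
          rw [← hc]
          linear_combination (-v) * h7
        linear_combination (-4) * h10
      have h9 := Int.le_of_dvd (by norm_num) h8
      omega
    · -- `z = 0`
      right; right
      have hz' : z = 0 := by omega
      rw [hz'] at h2
      have h3 : (mu + 2 * v) * b = v * (1 + g) + 1 := by linarith
      have hb1 : 1 ≤ b := by
        by_contra hlt
        push Not at hlt
        have : b = 0 := by omega
        rw [this] at h3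
        nlinarith
      have he2 : e * h * (h + v + 3) = 2 * (v * v - 1) := by
        rw [hvv]
        have : g + 2 = h + v + 3 := by omega
        rw [this] at he
        linear_combination (-h) * he
      set B := g + 2 with hB
      have hBv : B = h + v + 3 := by omega
      have h4 : B ∣ 2 * (2 * b + 1 - v) := by
        -- `B ∣ 4 v b + 2 v - 2` and `B ∣ 2 (v² - 1)`
        have h5 : 4 * v * b + 2 * v - 2 = B * (2 * v - e * b) := by
          have : g = B - 2 := by omega
          rw [this] at h3
          linear_combination 2 * h3 - b * he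
        have h6 : 2 * (v * v - 1) = B * (e * h) := by rw [← he2, hBv]; ring
        refine ⟨v * (2 * v - e * b) - (2 * b + 1) * (e * h), ?_⟩
        linear_combination v * h5 - (2 * b + 1) * h6
      obtain ⟨i, hi⟩ := h4
      have hBpos : 0 < B := by omega
      have hi1 : i ≤ 1 := by
        by_contra hlt
        push Not at hlt
        have h5 : 2 * b < B := by
          by_contra h6
          push Not at h6
          have : g = B - 2 := by omega
          rw [this] at h3
          nlinarith
        nlinarith
      have hi2 : -1 ≤ i := by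
        by_contra hlt
        push Not at hlt
        nlinarith
      have hmu0 : mu ≠ 0 := by omega
      have key : ∀ x y : ℤ, mu * x = y * B → e * x = 2 * y := by
        intro x y hxy
        have h6 : B * (e * x - 2 * y) = 0 := by linear_combination 2 * hxy - x * he
        rcases mul_eq_zero.1 h6 with h7 | h7
        · omega
        · linarith
      have hgB : g = B - 2 := by omega
      rw [hgB] at h3
      interval_cases i
      · exfalso
        have h5 : 4 * b = 2 * v - 2 - B := by linarith
        have h6 : mu * (2 * v - 2 - B + 4 * h) = 6 * v * B := by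
          linear_combination 4 * h3 - (mu + 2 * v) * h5 - 4 * hvv
        have h7 := key _ _ h6
        have h8 : e * (v - 5 + 3 * h) = 12 * v := by rw [hBv] at h7; linear_combination h7
        exact case_neg hv2' hh1 he1 (by omega) h8 he2
      · have h5 : 2 * b = v - 1 := by linarith
        have h6 : mu * (v - 1 + 2 * h) = 2 * v * B := by
          linear_combination 2 * h3 - (mu + 2 * v) * h5 - 2 * hvv
        have h7 := key _ _ h6
        have h8 : e * (v - 1 + 2 * h) = 4 * v := by linear_combination h7
        obtain ⟨h9, h10, h11⟩ := case_zero hv2' hh1 he1 h8 he2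
        refine ⟨by omega, ?_, h9⟩
        rw [h11] at he
        omega
      · exfalso
        have h5 : 4 * b = B + 2 * v - 2 := by linarith
        have h6 : mu * (B + 2 * v - 2 + 4 * h) = 2 * v * B := by
          linear_combination 4 * h3 - (mu + 2 * v) * h5 - 4 * hvv
        have h7 := key _ _ h6
        have h8 : e * (3 * v + 5 * h + 1) = 4 * v := by rw [hBv] at h7; linear_combination h7
        exact case_pos hv2' hh1 he1 h8 he2
    · -- `z = 2`
      exfalso
      have hz' : z = 2 := by omega
      have h3 : q ∣ 1 + mu * g := by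
        rw [hS, hz'] at h1
        obtain ⟨c, hc⟩ := h1
        exact ⟨c, by linarith⟩
      have h4 : q ∣ v * (1 + g) + 2 := by
        rw [hS, hz'] at hdz
        obtain ⟨c, hc⟩ := hdz
        exact ⟨c, by linarith⟩
      have h5 : q ∣ 2 * v + 5 := by
        obtain ⟨c, hc⟩ := h3
        obtain ⟨c', hc'⟩ := h4
        exact ⟨c - 2 * g + 2 * c', by rw [hmuq] at hc; linear_combination hc + 2 * hc'⟩
      have hq1 : v + 1 ≤ q := by omega
      obtain ⟨c, hc⟩ := h5
      have hc0 : 1 ≤ c := by
        by_contra hlt
        push Not at hlt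
        nlinarith
      have hcodd : c ≠ 2 := by
        intro h6
        rw [h6] at hc
        omega
      by_cases hc1 : c = 1
      · have h6 : q = 2 * v + 5 := by rw [hc1] at hc; linarith
        have h7 : (2 * v + 10) * h = v * v - 1 := by rw [hvv, hmuq, h6]; ring
        have h8 : 2 * v + 5 ∣ 25 := by
          obtain ⟨c', hc'⟩ := h4
          rw [h6] at hc'
          rw [hgv] at hc'
          -- 40 (v (v + 2 + h) + 2) ≡ 25
          refine ⟨40 * c' - (4 * v * v + 10 * v + 11) + 8 * v * h, ?_⟩
          linear_combination 40 * hc' + (-8 * v) * h7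
        have h9 := Int.le_of_dvd (by norm_num) h8
        have h10 : v ≤ 10 := by omega
        interval_cases v <;> omega
      · have hc3 : 3 ≤ c := by omega
        have h6 : v = 2 := by nlinarith
        subst h6
        have h7 : q = 3 := by
          have h8 : q ∣ 9 := ⟨c, by linarith⟩
          have h9 : q * 3 ≤ 9 := by nlinarith
          omega
        have h8 : mu = 2 := by omega
        rw [h8] at hvv
        omega

end Cfsg.Agent.H90.R3.NT
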