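import Cfsg.Agent.H90.R3.Even
import Cfsg.Agent.H90.R3.NT

/-!
# Rank three groups with a Frobenius suborbit: even complement, kernel semiregular off its fixed point. Counting.
-/

set_option autoImplicit false

namespace Cfsg.Agent.H90.R3

open Subgroup

variable {G X : Type*} [Group G] [MulAction G X] {D : Dat G X} {n k l f d : ℕ}

/-- the fixed points of an involution -/
theorem card_fix_inv [Finite G] [Finite X] (N : Num D n k l f d) (hf : Even f) {P : X} {t : G} (ht : Inv G P t) :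
    Nat.card {Q : X // t • Q = Q} = 2 + Nat.card {Q : X // (P ≠ Q ∧ ¬ D.Adj P Q) ∧ t • Q = Q} := by
  rw [card_erase (fun Q => t • Q = Q) (a := P) ht.2.2, card_split (fun Q => t • Q = Q ∧ P ≠ Q) (fun Q => D.Adj P Q)]
  have h1 : Nat.card {x // (t • x = x ∧ P ≠ x) ∧ D.Adj P x} = 1 := by
    rw [Nat.card_eq_one_iff_unique]
    obtain ⟨Q, hQ1, hQ2, hQ3⟩ := unique_nbr N hf ht
    refine ⟨⟨?_⟩, ⟨⟨Q, ⟨hQ2, Dat.ne_of_adj hQ1⟩, hQ1⟩⟩⟩
    rintro ⟨x, ⟨hx1, hx2⟩, hx3⟩ ⟨y, ⟨hy1, hy2⟩, hy3⟩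
    exact Subtype.ext ((hQ3 x hx3 hx1).trans (hQ3 y hy3 hy1).symm)
  have h2 : Nat.card {x // (t • x = x ∧ P ≠ x) ∧ ¬ D.Adj P x} =
      Nat.card {Q : X // (P ≠ Q ∧ ¬ D.Adj P Q) ∧ t • Q = Q} :=
    Nat.card_congr (Equiv.subtypeEquivRight fun R => by tauto)
  rw [h1, h2]
  ring

/-- the number of involutions moving `P` to `Q` -/
theorem card_move [Finite G] [Finite X] (N : Num D n k l f d) (P : X) :
    ∃ ι ι' : ℕ, ι ≤ f ∧ ι' ≤ d ∧
      Nat.card {t : G // ∃ R : X, Inv G R t} = Nat.card {t : G // Inv G P t} + k * ι + l * ι' := by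
  obtain ⟨B, hB⟩ := D.exA P
  obtain ⟨C, hC1, hC2⟩ := D.exN P
  have hconj : ∀ (g : G) (Q : X), g • P = P → Nat.card {t : G // (∃ R : X, Inv G R t) ∧ t • P = g • Q} =
      Nat.card {t : G // (∃ R : X, Inv G R t) ∧ t • P = Q} := by
    intro g Q hg
    have hg' : g⁻¹ • P = P := by rw [inv_smul_eq_iff, hg]
    refine Nat.card_congr ⟨fun t => ⟨g⁻¹ * t.1 * g, ?_, ?_⟩, fun t => ⟨g * t.1 * g⁻¹, ?_, ?_⟩, ?_, ?_⟩
    · obtain ⟨R, hR⟩ := t.2.1
      have := hR.conj g⁻¹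
      rw [inv_inv] at this
      exact ⟨_, this⟩
    · rw [mul_smul, mul_smul, hg, t.2.2, inv_smul_smul]
    · obtain ⟨R, hR⟩ := t.2.1
      exact ⟨_, hR.conj g⟩
    · rw [mul_smul, mul_smul, hg', t.2.2]
    · intro t; apply Subtype.ext; simp [mul_assoc]
    · intro t; apply Subtype.ext; simp [mul_assoc]
  have hbd : ∀ {Q : X} {c : ℕ}, (∃ g : G, g • P = Q ∧ g • Q = P) → Nat.card {g : G // g • P = P ∧ g • Q = Q} = c →
      Nat.card {t : G // (∃ R : X, Inv G R t) ∧ t • P = Q} ≤ c := by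
    rintro Q c ⟨g, h1, h2⟩ hc
    rw [← hc, ← coset2 h1 h2]
    refine Nat.card_le_card_of_injective (fun t : {t : G // (∃ R : X, Inv G R t) ∧ t • P = Q} =>
      (⟨t.1, t.2.2, ?_⟩ : {g : G // g • P = Q ∧ g • Q = P})) ?_
    · obtain ⟨⟨R, hR⟩, ht⟩ := t.2
      calc t.1 • Q = t.1 • (t.1 • P) := by rw [ht]
        _ = P := by rw [← mul_smul, hR.2.1, one_smul]
    · intro a b hab
      have h3 := congrArg Subtype.val hab
      exact Subtype.ext h3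
  refine ⟨Nat.card {t : G // (∃ R : X, Inv G R t) ∧ t • P = B}, Nat.card {t : G // (∃ R : X, Inv G R t) ∧ t • P = C},
    hbd (D.trA hB (D.symm hB)) (N.sA hB), hbd (D.trN hC1 hC2 hC1.symm (fun h => hC2 (D.symm h))) (N.sN hC1 hC2), ?_⟩
  rw [card_split (fun t : G => ∃ R : X, Inv G R t) (fun t => D.Adj P (t • P)),
    card_split (fun t : G => (∃ R : X, Inv G R t) ∧ ¬ D.Adj P (t • P)) (fun t => t • P = P)]
  have e1 : Nat.card {t : G // (∃ R : X, Inv G R t) ∧ D.Adj P (t • P)} =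
      k * Nat.card {t : G // (∃ R : X, Inv G R t) ∧ t • P = B} := by
    have h := dc (α := {t : G // (∃ R : X, Inv G R t) ∧ D.Adj P (t • P)}) (β := {Q // D.Adj P Q})
      (fun t Q => t.1 • P = Q.1) (x := 1) (y := Nat.card {t : G // (∃ R : X, Inv G R t) ∧ t • P = B}) ?_ ?_
    · rw [mul_one] at h
      rw [h, N.cA]
    · rintro ⟨t, ht1, ht2⟩
      rw [Nat.card_eq_one_iff_unique]
      refine ⟨⟨fun a b => Subtype.ext (Subtype.ext (a.2.symm.trans b.2))⟩, ⟨⟨⟨t • P, ht2⟩, rfl⟩⟩⟩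
    · rintro ⟨Q, hQ⟩
      obtain ⟨g, hg1, hg2⟩ := D.trA hB hQ
      rw [← hconj g B hg1, hg2]
      exact Nat.card_congr ⟨fun t => ⟨t.1.1, t.1.2.1, t.2⟩, fun t => ⟨⟨t.1, t.2.1, by rw [t.2.2]; exact hQ⟩, t.2.2⟩,
        fun t => rfl, fun t => rfl⟩
  have e2 : Nat.card {t : G // ((∃ R : X, Inv G R t) ∧ ¬ D.Adj P (t • P)) ∧ t • P = P} =
      Nat.card {t : G // Inv G P t} := by
    refine Nat.card_congr (Equiv.subtypeEquivRight fun t => ?_)
    constructor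
    · rintro ⟨⟨⟨R, hR⟩, -⟩, h⟩
      exact ⟨hR.1, hR.2.1, h⟩
    · intro h
      exact ⟨⟨⟨P, h⟩, by rw [h.2.2]; exact D.irr P⟩, h.2.2⟩
  have e3 : Nat.card {t : G // ((∃ R : X, Inv G R t) ∧ ¬ D.Adj P (t • P)) ∧ ¬ t • P = P} =
      l * Nat.card {t : G // (∃ R : X, Inv G R t) ∧ t • P = C} := by
    have h := dc (α := {t : G // ((∃ R : X, Inv G R t) ∧ ¬ D.Adj P (t • P)) ∧ ¬ t • P = P})
      (β := {Q // P ≠ Q ∧ ¬ D.Adj P Q})
      (fun t Q => t.1 • P = Q.1) (x := 1) (y := Nat.card {t : G // (∃ R : X, Inv G R t) ∧ t • P = C}) ?_ ?_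
    · rw [mul_one] at h
      rw [h, N.cN]
    · rintro ⟨t, ⟨ht1, ht2⟩, ht3⟩
      rw [Nat.card_eq_one_iff_unique]
      refine ⟨⟨fun a b => Subtype.ext (Subtype.ext (a.2.symm.trans b.2))⟩,
        ⟨⟨⟨t • P, fun h => ht3 h.symm, ht2⟩, rfl⟩⟩⟩
    · rintro ⟨Q, hQ1, hQ2⟩
      obtain ⟨g, hg1, hg2⟩ := D.trN hC1 hC2 hQ1 hQ2
      rw [← hconj g C hg1, hg2]
      exact Nat.card_congr ⟨fun t => ⟨t.1.1, t.1.2.1.1, t.2⟩,
        fun t => ⟨⟨t.1, ⟨t.2.1, by rw [t.2.2]; exact hQ2⟩, fun h => hQ1 (h.symm.trans t.2.2)⟩, t.2.2⟩,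
        fun t => rfl, fun t => rfl⟩
  rw [e1, e2, e3]
  ring

section

variable [Finite G] [Finite X] (N : Num D n k l f d) (hf : Even f)
  (hD : ∀ {P Q : X} {x : G}, x ∈ D.K P → x • Q = Q → P ≠ Q → x = 1)
include N hD

theorem exists_g : ∃ g : ℕ, l = k * g ∧ f = g * d ∧ 1 ≤ g := by
  have hne : Nonempty X := by
    have h1 := N.cX
    have h2 := N.sum
    exact (Nat.card_pos_iff.1 (by omega)).1
  obtain ⟨P⟩ := hne
  have h1 : Nat.card (D.K P) ∣ Nat.card {Q // P ≠ Q ∧ ¬ D.Adj P Q} := by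
    apply free_dvd
    · rintro g hg Q ⟨hQ1, hQ2⟩
      have hgP := D.K_le hg
      refine ⟨fun h => hQ1 (smul_left_cancel g (hgP.trans h)), fun h => hQ2 ?_⟩
      rw [← D.adj_smul_iff g, hgP]
      exact h
    · rintro g hg Q ⟨hQ1, hQ2⟩ h
      exact hD hg h hQ1
  rw [N.cK, N.cN] at h1
  obtain ⟨g, hg⟩ := h1
  have h2 := N.cS'
  have hk := N.k2
  have hf2 := N.f2
  rw [hg, mul_assoc] at h2
  have h3 := Nat.eq_of_mul_eq_mul_left (by omega) h2
  refine ⟨g, hg, h3, ?_⟩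
  by_contra hlt
  have : g = 0 := by omega
  rw [this, zero_mul] at h3
  omega

include hf

/-- the number of fixed points of an involution -/
theorem m_eq {m : ℕ} (hm : ∀ {P : X} {t : G}, Inv G P t → Nat.card {Q : X // t • Q = Q} = m) {g : ℕ} (hg : l = k * g) :
    (Odd d → m = 2) ∧ (Even d → m = g + 2) := by
  have hne : Nonempty X := by
    have h1 := N.cX
    have h2 := N.sum
    exact (Nat.card_pos_iff.1 (by omega)).1
  obtain ⟨P⟩ := hne
  obtain ⟨t₀, ht₀⟩ := exists_inv N hf P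
  have hm2 : 2 ≤ m := by
    rw [← hm ht₀, card_fix_inv N hf ht₀]
    omega
  have key : ∀ j0 : ℕ, (∀ Q : X, P ≠ Q → ¬ D.Adj P Q → Nat.card {t : G // Inv G P t ∧ t • Q = Q} = j0) →
      k * (m - 2) = l * j0 := by
    intro j0 hj
    have h := dc (α := {t : G // Inv G P t}) (β := {Q // P ≠ Q ∧ ¬ D.Adj P Q}) (fun t Q => t.1 • Q.1 = Q.1)
      (x := m - 2) (y := j0) ?_ ?_
    · rwa [card_inv N hf, N.cN] at h
    · rintro ⟨t, ht⟩
      have h1 := card_fix_inv N hf ht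
      rw [hm ht] at h1
      have h2 : m - 2 = Nat.card {Q : X // (P ≠ Q ∧ ¬ D.Adj P Q) ∧ t • Q = Q} := by omega
      rw [h2]
      exact Nat.card_congr ⟨fun Q => ⟨Q.1.1, Q.1.2, Q.2⟩, fun Q => ⟨⟨Q.1, Q.2.1⟩, Q.2.2⟩, fun _ => rfl, fun _ => rfl⟩
    · rintro ⟨Q, hQ1, hQ2⟩
      rw [← hj Q hQ1 hQ2]
      exact Nat.card_congr ⟨fun t => ⟨t.1.1, t.1.2, t.2⟩, fun t => ⟨⟨t.1, t.2.1⟩, t.2.2⟩, fun _ => rfl, fun _ => rfl⟩
  have hk := N.k2
  have hcard : ∀ {Q : X}, P ≠ Q → ¬ D.Adj P Q → Nat.card ↥(MulAction.stabilizer G P ⊓ MulAction.stabilizer G Q) = d :=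
    fun h1 h2 => by rw [← N.sN h1 h2]; rfl
  constructor
  · intro hd
    have h1 := key 0 (by
      intro Q hQ1 hQ2
      rw [Nat.card_eq_zero]
      left
      refine ⟨?_⟩
      rintro ⟨t, ht, htQ⟩
      have h2 : (⟨t, ht.2.2, htQ⟩ : ↥(MulAction.stabilizer G P ⊓ MulAction.stabilizer G Q)) ^
        Nat.card ↥(MulAction.stabilizer G P ⊓ MulAction.stabilizer G Q) = 1 := pow_card_eq_one'
      rw [hcard hQ1 hQ2] at h2
      have h3 : t ^ d = 1 := congrArg Subtype.val h2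
      obtain ⟨c, hc⟩ := hd
      rw [hc, pow_add, pow_mul, pow_two, ht.2.1, one_pow, one_mul, pow_one] at h3
      exact ht.1 h3)
    rw [mul_zero] at h1
    have : m - 2 = 0 := by
      rcases Nat.mul_eq_zero.1 h1 with h | h <;> omega
    omega
  · intro hd
    have h1 := key 1 (by
      intro Q hQ1 hQ2
      rw [Nat.card_eq_one_iff_unique]
      refine ⟨⟨?_⟩, ?_⟩
      · rintro ⟨t, ht, htQ⟩ ⟨t', ht', htQ'⟩
        have h2 := hD (mul_mem_K N hf ht ht') (by rw [mul_smul, htQ', htQ]) hQ1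
        apply Subtype.ext
        show t = t'
        rw [eq_inv_of_mul_eq_one_left h2, ht'.inv_eq]
      · obtain ⟨⟨t, ht1, ht2⟩, ht⟩ := exists_prime_orderOf_dvd_card'
          (G := ↥(MulAction.stabilizer G P ⊓ MulAction.stabilizer G Q)) 2 (by rw [hcard hQ1 hQ2]; exact hd.two_dvd)
        refine ⟨⟨t, ⟨?_, ?_, ht1⟩, ht2⟩⟩
        · rintro rfl
          have h2 : (⟨1, ht1, ht2⟩ : ↥(MulAction.stabilizer G P ⊓ MulAction.stabilizer G Q)) = 1 := rfl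
          rw [h2, orderOf_one] at ht
          omega
        · have h3 : (⟨t, ht1, ht2⟩ : ↥(MulAction.stabilizer G P ⊓ MulAction.stabilizer G Q)) ^ 2 = 1 := by
            rw [← ht, pow_orderOf_eq_one]
          rw [← pow_two]
          exact congrArg Subtype.val h3)
    rw [mul_one, hg] at h1
    have := Nat.eq_of_mul_eq_mul_left (by omega) h1
    omega

/-- the basic equation -/
theorem basic_eq {g : ℕ} (hg : l = k * g) :
    ∃ m ι ι' : ℕ, (∀ {P : X} {t : G}, Inv G P t → Nat.card {Q : X // t • Q = Q} = m) ∧ ι ≤ f ∧ ι' ≤ d ∧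
      n = m * (1 + ι + g * ι') ∧ (Odd d → m = 2) ∧ (Even d → m = g + 2) := by
  have hne : Nonempty X := by
    have h1 := N.cX
    have h2 := N.sum
    exact (Nat.card_pos_iff.1 (by omega)).1
  obtain ⟨P⟩ := hne
  obtain ⟨m, hm⟩ := exists_m N hf
  obtain ⟨ι, ι', h1, h2, h3⟩ := card_move N P
  have h4 := card_T N hf hm
  rw [h3, card_inv N hf, hg] at h4
  obtain ⟨h5, h6⟩ := m_eq N hf hD hm hg
  have hk := N.k2
  refine ⟨m, ι, ι', hm, h1, h2, ?_, h5, h6⟩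
  have h7 : k * n = k * (m * (1 + ι + g * ι')) := by
    calc k * n = n * k := mul_comm _ _
      _ = (k + k * ι + k * g * ι') * m := h4.symm
      _ = _ := by ring
  exact Nat.eq_of_mul_eq_mul_left (by omega) h7

/-- `g ≥ 2` -/
theorem g_ge {g : ℕ} (hg : l = k * g) (hfg : f = g * d) : 2 ≤ g := by
  have hf2 := N.f2
  by_contra hlt
  have hg1 : g = 1 := by
    rcases Nat.lt_or_ge g 1 with h | h
    · have : g = 0 := by omega
      rw [this, zero_mul] at hfg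
      omega
    · omega
  obtain ⟨m, ι, ι', hm, -, -, -, -, h6⟩ := basic_eq N hf hD hg
  have hde : Even d := by rw [hfg, hg1, one_mul] at hf; exact hf
  have hm3 := h6 hde
  have hne : Nonempty X := by
    have h1 := N.cX
    have h2 := N.sum
    exact (Nat.card_pos_iff.1 (by omega)).1
  obtain ⟨P⟩ := hne
  obtain ⟨t, ht⟩ := exists_inv N hf P
  have h1 := card_fix_inv N hf ht
  rw [hm ht, hm3, hg1] at h1
  have h2 : Nat.card {Q : X // (P ≠ Q ∧ ¬ D.Adj P Q) ∧ t • Q = Q} = 1 := by omega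
  obtain ⟨⟨C, ⟨hC1, hC2⟩, hC3⟩⟩ := (Nat.card_eq_one_iff_unique.1 h2).2
  obtain ⟨B, hB1, hB2, hB3⟩ := unique_nbr N hf ht
  have htC : Inv G C t := ⟨ht.1, ht.2.1, hC3⟩
  have htB : Inv G B t := ⟨ht.1, ht.2.1, hB2⟩
  obtain ⟨C', hC'1, hC'2, hC'3⟩ := unique_nbr N hf htC
  obtain ⟨B', hB'1, hB'2, hB'3⟩ := unique_nbr N hf htB
  have hB'P : P = B' := hB'3 P (D.symm hB1) ht.2.2
  have hC'P : C' ≠ P := by
    rintro rfl
    exact hC2 (D.symm hC'1)
  have hC'B : C' ≠ B := by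
    rintro rfl
    have := hB'3 C (D.symm hC'1) hC3
    exact hC1 (hB'P.trans this.symm)
  have hC'C : C' ≠ C := (Dat.ne_of_adj hC'1).symm
  have hCB : C ≠ B := by
    rintro rfl
    exact hC2 hB1
  by_cases h4 : D.Adj P C'
  · exact hC'B (hB3 C' h4 hC'2)
  · have h5 := (Nat.card_eq_one_iff_unique.1 h2).1
    exact hC'C (congrArg Subtype.val (h5.elim ⟨C', ⟨hC'P.symm, h4⟩, hC'2⟩ ⟨C, ⟨hC1, hC2⟩, hC3⟩))

end

end Cfsg.Agent.H90.R3
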