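import Cfsg.Agent.H90.R3.EvenFree

/-!
# Rank three groups with a Frobenius suborbit: even complement, kernel semiregular off its fixed point. Conclusion.
-/

set_option autoImplicit false

namespace Cfsg.Agent.H90.R3

open Subgroup

variable {G X : Type*} [Group G] [MulAction G X] {D : Dat G X} {n k l f d : ℕ}

theorem Num.nonempty [Finite X] (N : Num D n k l f d) : Nonempty X := by
  have h1 := N.cX
  have h2 := N.sum
  exact (Nat.card_pos_iff.1 (by omega)).1

theorem Num.exists_u (N : Num D n k l f d) : ∃ u : ℕ, k = 1 + u * f ∧ 1 ≤ u := by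
  obtain ⟨u, hu⟩ := N.dvd
  have hk := N.k2
  refine ⟨u, ?_, ?_⟩
  · rw [mul_comm]
    omega
  · by_contra hlt
    have : u = 0 := by omega
    rw [this, mul_zero] at hu
    omega

theorem sum_dvd {α : Type*} [Fintype α] (φ : α → ℤ) {S : ℤ} {f : ℕ} (h1 : ∀ x, S ∣ φ x)
    (h2 : ∀ c : ℤ, f ∣ Nat.card {x // φ x = c}) : S * f ∣ ∑ x, φ x := by
  classical
  have h3 := Finset.sum_comp (s := (Finset.univ : Finset α)) (fun c : ℤ => c) φ
  rw [h3]
  apply Finset.dvd_sum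
  intro c hc
  obtain ⟨x, -, rfl⟩ := Finset.mem_image.1 hc
  obtain ⟨e, he⟩ := h2 (φ x)
  rw [Nat.card_eq_fintype_card, Fintype.card_subtype] at he
  rw [he, nsmul_eq_mul]
  obtain ⟨e', he'⟩ := h1 x
  refine ⟨e * e', ?_⟩
  rw [he']
  push_cast
  ring

section

variable [Finite G] [Fintype X] [DecidableEq X] (N : Num D n k l f d) (hf : Even f)
  (hD : ∀ {P Q : X} {x : G}, x ∈ D.K P → x • Q = Q → P ≠ Q → x = 1)
include N hf hD

/-- the case `d` odd -/
theorem free_odd (hd : Odd d) : n = 10 ∧ k = 3 ∧ f = 2 := by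
  obtain ⟨g, hg, hfg, hg1⟩ := exists_g N hD
  have hg2 := g_ge N hf hD hg hfg
  obtain ⟨m, ι, ι', hm, hι, hι', hn, hmo, -⟩ := basic_eq N hf hD hg
  obtain ⟨u, hu, hu1⟩ := N.exists_u
  have hsum := N.sum
  have hf2 := N.f2
  rw [hmo hd] at hn
  have hbound : n ≤ 2 + 4 * f := by
    have : g * ι' ≤ f := by rw [hfg]; exact Nat.mul_le_mul_left _ hι'
    omega
  have hg2' : g = 2 := by
    by_contra hne
    have h3 : 3 ≤ g := by omega
    have h4 : f ≤ k - 1 := by rw [hu]; nlinarith [Nat.sub_add_cancel (by omega : 1 ≤ 1 + u * f)]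
    have h5 : k * 3 ≤ k * g := Nat.mul_le_mul_left _ h3
    omega
  subst hg2'
  have hu' : u = 1 := by
    by_contra hne
    have h3 : 2 ≤ u := by omega
    have h4 : 2 * f ≤ u * f := Nat.mul_le_mul_right _ h3
    omega
  subst hu'
  obtain ⟨lam, mu, s, hsrg, hk, hmu, hs, -⟩ := N.exists_srg
  have hs1 : s = 1 := by
    by_contra hne
    have h3 : 2 ≤ s := by omega
    have h4 : f * 2 ≤ f * s := Nat.mul_le_mul_left _ h3
    omega
  subst hs1
  have hlam : lam = 0 := by omega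
  subst hlam
  rw [mul_one] at hmu
  subst hmu
  have hkd : k = 1 + 2 * mu := by omega
  have hnd : n = 4 + 6 * mu := by omega
  have hmu1 : 1 ≤ mu := by
    obtain ⟨c, hc⟩ := hd
    omega
  have : Nonempty X := N.nonempty
  rcases Graph.square_or hsrg (by rw [hkd]; push_cast; nlinarith) with h | ⟨S, hS, hSS, a, ha⟩
  · exfalso
    rw [hkd, hnd] at h
    push_cast at h
    nlinarith
  · have hS2 : S = mu + 2 := by
      have h3 : (S - (mu + 2)) * (S + (mu + 2)) = 0 := by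
        have : (S - (mu + 2)) * (S + (mu + 2)) = S * S - (mu + 2) * (mu + 2) := by ring
        rw [this, hSS, hkd]
        push_cast
        ring
      rcases mul_eq_zero.1 h3 with h4 | h4 <;> linarith
    have h12 : ((mu : ℤ) + 2) ∣ 12 := by
      rw [hS2, hkd, hnd] at ha
      push_cast at ha
      refine ⟨(a : ℤ) - (6 * mu - 5), ?_⟩
      nlinarith
    have h12' : mu + 2 ∣ 12 := by exact_mod_cast h12
    have h13 := Nat.le_of_dvd (by norm_num) h12'
    obtain ⟨c, hc⟩ := hd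
    have hc4 : c ≤ 4 := by omega
    interval_cases c
    · subst hc
      omega
    all_goals
      subst hc
      norm_num at h12'

/-- the count of fixed-point-free moves -/
theorem exists_a (hlam : ∀ {P Q R : X}, D.Adj P Q → D.Adj Q R → D.Adj R P → False) (P : X) :
    ∃ w : ℕ, Nat.card {p : D.K P × X // D.Adj p.2 (p.1.1 • p.2)} = l * (d * w) := by
  obtain ⟨C, hC1, hC2⟩ := D.exN P
  have hconst : ∀ Q, P ≠ Q → ¬ D.Adj P Q → Nat.card {x : D.K P // D.Adj Q (x.1 • Q)} =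
      Nat.card {x : D.K P // D.Adj C (x.1 • C)} := by
    intro Q hQ1 hQ2
    obtain ⟨g, hg1, hg2⟩ := D.trN hC1 hC2 hQ1 hQ2
    have hg1' : g⁻¹ • P = P := by rw [inv_smul_eq_iff, hg1]
    have hg2' : g⁻¹ • Q = C := by rw [inv_smul_eq_iff, hg2]
    refine Nat.card_congr ⟨fun x => ⟨⟨g⁻¹ * x.1.1 * g, ?_⟩, ?_⟩, fun x => ⟨⟨g * x.1.1 * g⁻¹, ?_⟩, ?_⟩, ?_, ?_⟩
    · have := D.conj_mem' x.1.2 hg1'
      rwa [inv_inv] at this
    · show D.Adj C ((g⁻¹ * x.1.1 * g) • C)
      rw [mul_smul, mul_smul, hg2, ← D.adj_smul_iff g, hg2, smul_inv_smul]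
      exact x.2
    · exact D.conj_mem' x.1.2 hg1
    · show D.Adj Q ((g * x.1.1 * g⁻¹) • Q)
      rw [mul_smul, mul_smul, hg2', ← hg2, D.adj_smul_iff]
      exact x.2
    · intro x; apply Subtype.ext; apply Subtype.ext; simp [mul_assoc]
    · intro x; apply Subtype.ext; apply Subtype.ext; simp [mul_assoc]
  have hdvd : d ∣ Nat.card {x : D.K P // D.Adj C (x.1 • C)} := by
    have h1 : Nat.card {x : D.K P // D.Adj C (x.1 • C)} = Nat.card {R : X // (∃ x ∈ D.K P, x • C = R) ∧ D.Adj C R} := by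
      apply Nat.card_congr
      refine Equiv.ofBijective (fun x => ⟨x.1.1 • C, ⟨x.1.1, x.1.2, rfl⟩, x.2⟩) ⟨?_, ?_⟩
      · intro x y hxy
        have h2 : x.1.1 • C = y.1.1 • C := congrArg Subtype.val hxy
        have h3 : (y.1.1⁻¹ * x.1.1) • C = C := by rw [mul_smul, h2, inv_smul_smul]
        have h4 := hD ((D.K P).mul_mem (inv_mem y.1.2) x.1.2) h3 hC1
        apply Subtype.ext
        apply Subtype.ext
        exact (inv_mul_eq_one.1 h4).symm
      · rintro ⟨R, ⟨x, hx, rfl⟩, hR⟩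
        exact ⟨⟨⟨x, hx⟩, hR⟩, rfl⟩
    have h2 : Nat.card ↥(MulAction.stabilizer G P ⊓ MulAction.stabilizer G C) = d := by rw [← N.sN hC1 hC2]; rfl
    rw [h1, ← h2]
    apply free_dvd
    · rintro e ⟨he1, he2⟩ R ⟨⟨x, hx, rfl⟩, hR⟩
      have he1 : e • P = P := he1
      have he2 : e • C = C := he2
      refine ⟨⟨e * x * e⁻¹, D.conj_mem' hx he1, ?_⟩, ?_⟩
      · have : e⁻¹ • C = C := by rw [inv_smul_eq_iff, he2]
        rw [mul_smul, mul_smul, this]
      · have := D.smul e hR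
        rwa [he2] at this
    · rintro e ⟨he1, he2⟩ R ⟨⟨x, hx, rfl⟩, hR⟩ heR
      have he1 : e • P = P := he1
      have he2 : e • C = C := he2
      have hx1 : x ≠ 1 := by
        rintro rfl
        rw [one_smul] at hR
        exact D.irr _ hR
      have h3 : e * x * e⁻¹ ∈ D.K P := D.conj_mem' hx he1
      have h4 : (x⁻¹ * (e * x * e⁻¹)) • C = C := by
        have : e⁻¹ • C = C := by rw [inv_smul_eq_iff, he2]
        rw [mul_smul, mul_smul, mul_smul, this, heR, inv_smul_smul]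
      have h5 := hD ((D.K P).mul_mem (inv_mem hx) h3) h4 hC1
      have h6 : e * x = x * e := by
        have := inv_mul_eq_one.1 h5
        calc e * x = (e * x * e⁻¹) * e := by group
          _ = x * e := by rw [← this]
      exact hD (D.comm_mem hx hx1 he1 h6) he2 hC1
  obtain ⟨w, hw⟩ := hdvd
  refine ⟨w, ?_⟩
  have h := dc (α := {p : D.K P × X // D.Adj p.2 (p.1.1 • p.2)}) (β := {Q // P ≠ Q ∧ ¬ D.Adj P Q})
    (fun p Q => p.1.2 = Q.1) (x := 1) (y := d * w) ?_ ?_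
  · rw [mul_one] at h
    rw [h, N.cN]
  · rintro ⟨⟨x, Q⟩, hxQ⟩
    have hxQ : D.Adj Q (x.1 • Q) := hxQ
    have h1 : P ≠ Q := by
      rintro rfl
      rw [D.K_le x.2] at hxQ
      exact D.irr _ hxQ
    have h2 : ¬ D.Adj P Q := by
      intro h3
      have h4 := D.smul x.1 h3
      rw [D.K_le x.2] at h4
      exact hlam h3 hxQ (D.symm h4)
    rw [Nat.card_eq_one_iff_unique]
    exact ⟨⟨fun a b => Subtype.ext (Subtype.ext (a.2.symm.trans b.2))⟩, ⟨⟨⟨Q, h1, h2⟩, rfl⟩⟩⟩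
  · rintro ⟨Q, hQ1, hQ2⟩
    rw [← hw, ← hconst Q hQ1 hQ2]
    refine Nat.card_congr ⟨fun p => ⟨p.1.1.1, ?_⟩, fun x => ⟨⟨⟨x.1, Q⟩, x.2⟩, rfl⟩, ?_, ?_⟩
    · obtain ⟨⟨⟨x, Q'⟩, h1⟩, h2⟩ := p
      have h2 : Q' = Q := h2
      subst h2
      exact h1
    · rintro ⟨⟨⟨x, Q'⟩, h1⟩, h2⟩
      have h2 : Q' = Q := h2
      subst h2
      rfl
    · rintro ⟨x, h1⟩
      rfl

omit hf in
/-- divisibility of the number of elements of the kernel with a given value -/
theorem dvd_value (P : X) (φ : G → ℤ) (hφ : ∀ g x : G, g • P = P → φ (g * x * g⁻¹) = φ x) (c : ℤ) :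
    f ∣ Nat.card {x : {x : G // x ∈ D.K P ∧ x ≠ 1} // φ x.1 = c} := by
  obtain ⟨B, hB⟩ := D.exA P
  have h1 : Nat.card {x : {x : G // x ∈ D.K P ∧ x ≠ 1} // φ x.1 = c} =
      Nat.card {R : X // ∃ x ∈ D.K P, x ≠ 1 ∧ φ x = c ∧ x • B = R} := by
    apply Nat.card_congr
    refine Equiv.ofBijective (fun x => ⟨x.1.1 • B, x.1.1, x.1.2.1, x.1.2.2, x.2, rfl⟩) ⟨?_, ?_⟩
    · intro x y hxy
      have h2 : x.1.1 • B = y.1.1 • B := congrArg Subtype.val hxy
      have h3 : (y.1.1⁻¹ * x.1.1) • B = B := by rw [mul_smul, h2, inv_smul_smul]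
      have h4 := D.K_free ((D.K P).mul_mem (inv_mem y.1.2.1) x.1.2.1) hB h3
      apply Subtype.ext
      apply Subtype.ext
      exact (inv_mul_eq_one.1 h4).symm
    · rintro ⟨R, x, hx, hx1, hxc, rfl⟩
      exact ⟨⟨⟨x, hx, hx1⟩, hxc⟩, rfl⟩
  have h2 : Nat.card ↥(MulAction.stabilizer G P ⊓ MulAction.stabilizer G B) = f := by rw [← N.sA hB]; rfl
  rw [h1, ← h2]
  apply free_dvd
  · rintro e ⟨he1, he2⟩ R ⟨x, hx, hx1, hxc, rfl⟩
    have he1 : e • P = P := he1
    have he2 : e • B = B := he2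
    refine ⟨e * x * e⁻¹, D.conj_mem' hx he1, ?_, ?_, ?_⟩
    · intro h
      apply hx1
      have : x = e⁻¹ * (e * x * e⁻¹) * e := by group
      rw [this, h]
      group
    · rw [hφ e x he1, hxc]
    · have : e⁻¹ • B = B := by rw [inv_smul_eq_iff, he2]
      rw [mul_smul, mul_smul, this]
  · rintro e ⟨he1, he2⟩ R ⟨x, hx, hx1, hxc, rfl⟩ heR
    have he1 : e • P = P := he1
    have he2 : e • B = B := he2
    have hne : B ≠ x • B := fun h => hx1 (D.K_free hx hB h.symm)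
    refine D.free he1 hB he2 ?_ heR hne
    have := D.smul x hB
    rwa [D.K_le hx] at this

end

end Cfsg.Agent.H90.R3
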