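import Cfsg.Agent.H90.R3.Line

/-!
# Rank three groups with a Frobenius suborbit: lines when the complement has even order
-/

set_option autoImplicit false

namespace Cfsg.Agent.H90.R3

open Subgroup

variable {G X : Type*} [Group G] [MulAction G X] {D : Dat G X} {n k l f d : ℕ}

section

variable [Finite G] [Finite X] (N : Num D n k l f d) (hf : Even f) {H : Subgroup G} (hH : IsLine D H)
include N hf hH

/-- an involution fixing a point of the line inverts `H` -/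
theorem inv_line {R : X} {t : G} (hR : Fx H R) (ht : Inv G R t) {x : G} (hx : x ∈ H) : t * x * t = x⁻¹ :=
  inverts N hf ht (hH.le_K N hR hx)

theorem inv_nz {R : X} {t : G} (hR : Fx H R) (ht : Inv G R t) : Nz H t := by
  have h1 : ∀ x ∈ H, t * x * t⁻¹ ∈ H := by
    intro x hx
    rw [ht.inv_eq, inv_line N hf hH hR ht hx]
    exact inv_mem hx
  intro x
  refine ⟨fun h => ?_, h1 x⟩
  have h2 := h1 _ h
  have h3 : t * (t * x * t⁻¹) * t⁻¹ = x := by
    rw [ht.inv_eq]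
    calc t * (t * x * t) * t = (t * t) * x * (t * t) := by group
      _ = x := by rw [ht.2.1]; group
  rwa [h3] at h2

theorem K_nz {R : X} {x : G} (hR : Fx H R) (hx : x ∈ D.K R) : Nz H x := by
  have h1 : ∀ y ∈ H, x * y * x⁻¹ = y := by
    intro y hy
    rw [comm_K N hf hx (hH.le_K N hR hy), mul_inv_cancel_right]
  intro y
  refine ⟨fun h => ?_, fun h => by rw [h1 y h]; exact h⟩
  have h2 : x⁻¹ ∈ D.K R := inv_mem hx
  have h3 : x * y * x⁻¹ ∈ D.K R := hH.le_K N hR h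
  have h4 := comm_K N hf h2 h3
  have h5 : y = x * y * x⁻¹ := by
    calc y = x⁻¹ * (x * y * x⁻¹) * x := by group
      _ = x * y * x⁻¹ * x⁻¹ * x := by rw [h4]
      _ = _ := by group
  rw [h5]
  exact h

theorem exists_c : ∃ c : ℕ, ∀ {R : X} {t : G}, Fx H R → Inv G R t → Nat.card {S : X // Fx H S ∧ t • S = S} = c := by
  obtain ⟨R₀, hR₀⟩ : ∃ R₀ : X, Fx H R₀ := by
    obtain ⟨P, Q, -⟩ := hH.ex
    obtain ⟨S, hS, -⟩ := hH.exists_ne P
    exact ⟨S, hS⟩
  obtain ⟨t₀, ht₀⟩ := exists_inv N hf R₀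
  refine ⟨Nat.card {S : X // Fx H S ∧ t₀ • S = S}, ?_⟩
  intro R t hR ht
  obtain ⟨g, hg1, hg2⟩ := hH.tr1 N hR₀ hR
  have h1 := ht₀.conj g
  rw [hg1] at h1
  obtain ⟨x, hx1, hx2⟩ := conj_in N hf h1 ht
  have h3 : Nz H (x * g) := (K_nz N hf hH hR hx1).mul hg2
  have h4 : x * g * t₀ * (x * g)⁻¹ = t := by
    rw [← hx2]
    group
  refine (Nat.card_congr ((MulAction.toPerm (x * g)).subtypeEquiv ?_)).symm
  intro S
  rw [MulAction.toPerm_apply, h3.fx_iff, ← h4, mul_smul (x * g * t₀), inv_smul_smul, mul_smul (x * g),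
    (MulAction.injective (x * g)).eq_iff]

/-- the involutions of a line moving `P` to `R` -/
theorem swap_line {P : X} (hP : Fx H P) : ∃ m : ℕ, (∀ R : X, Fx H R → P ≠ R →
    Nat.card {t : G // (∃ S : X, Fx H S ∧ Inv G S t) ∧ t • P = R} = m) ∧ (m = 0 ∨ m = Nat.card H) := by
  obtain ⟨R₀, hR₀, hPR₀⟩ := hH.exists_ne P
  refine ⟨Nat.card {t : G // (∃ S : X, Fx H S ∧ Inv G S t) ∧ t • P = R₀}, ?_, ?_⟩
  · intro R hR hPR
    obtain ⟨g, hg1, hg2, hg3⟩ := hH.tr2 N hP hR₀ hPR₀ hP hR hPR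
    refine (Nat.card_congr ((MulAut.conj g).toEquiv.subtypeEquiv ?_)).symm
    intro t
    have hg1' : g⁻¹ • P = P := by rw [inv_smul_eq_iff, hg1]
    show _ ↔ (∃ S : X, Fx H S ∧ Inv G S (g * t * g⁻¹)) ∧ (g * t * g⁻¹) • P = R
    constructor
    · rintro ⟨⟨S, hS1, hS2⟩, h⟩
      exact ⟨⟨g • S, hg3.fx hS1, hS2.conj g⟩, by rw [mul_smul, mul_smul, hg1', h, hg2]⟩
    · rintro ⟨⟨S, hS1, hS2⟩, h⟩
      refine ⟨⟨g⁻¹ • S, hg3.inv.fx hS1, ?_⟩, ?_⟩
      · have := hS2.conj g⁻¹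
        have e : g⁻¹ * (g * t * g⁻¹) * g⁻¹⁻¹ = t := by group
        rwa [e] at this
      · rw [mul_smul, mul_smul, hg1', ← hg2] at h
        exact MulAction.injective g h
  · by_cases he : Nonempty {t : G // (∃ S : X, Fx H S ∧ Inv G S t) ∧ t • P = R₀}
    · right
      obtain ⟨⟨t₁, ⟨S₁, hS₁, ht₁⟩, h₁⟩⟩ := he
      have h₁' : t₁ • R₀ = P := by rw [← h₁, ← mul_smul, ht₁.2.1, one_smul]
      obtain ⟨x₀, hx₀, hx₀1⟩ := hH.exists_one
      refine Nat.card_congr ⟨fun t => ⟨t₁ * t.1, ?_⟩, fun x => ⟨t₁ * x.1, ⟨S₁, hS₁, ?_⟩, ?_⟩, ?_, ?_⟩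
      · obtain ⟨t, ⟨S, hS, ht⟩, h⟩ := t
        show t₁ * t ∈ H
        have h3 : (t₁ * t) • P = P := by rw [mul_smul, h, h₁']
        have h4 : (t₁ * t) • R₀ = R₀ := by
          rw [mul_smul, ← h, ← mul_smul t, ht.2.1, one_smul, h₁, h]
        refine hH.mem_of_fix N hP hR₀ hPR₀ (D.comm_mem (hH.le_K N hP hx₀) hx₀1 h3 ?_) h4
        have h5 := inv_line N hf hH hS ht hx₀
        have h6 := inv_line N hf hH hS₁ ht₁ (inv_mem hx₀)
        calc t₁ * t * x₀ = t₁ * (t * x₀ * t) * t := by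
              have : t * x₀ * t * t = t * x₀ := by rw [mul_assoc, ht.2.1, mul_one]
              rw [mul_assoc t₁ _ t, this, mul_assoc]
          _ = t₁ * x₀⁻¹ * t₁ * t₁ * t := by
              rw [h5, mul_assoc (t₁ * x₀⁻¹) t₁ t₁, ht₁.2.1, mul_one]
          _ = x₀ * (t₁ * t) := by rw [h6, inv_inv, mul_assoc]
      · exact inv_mul N hf ht₁ (hH.le_K N hS₁ x.2)
      · rw [mul_smul, hP x.1 x.2, h₁]
      · intro t
        apply Subtype.ext
        show t₁ * (t₁ * t.1) = t.1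
        rw [← mul_assoc, ht₁.2.1, one_mul]
      · intro x
        apply Subtype.ext
        show t₁ * (t₁ * x.1) = x.1
        rw [← mul_assoc, ht₁.2.1, one_mul]
    · left
      rw [Nat.card_eq_zero]
      left
      exact not_nonempty_iff.1 he

/-- the involutions fixing `P` and `R` -/
theorem fix_line {P : X} (hP : Fx H P) : ∃ m : ℕ, (∀ R : X, Fx H R → P ≠ R →
    Nat.card {t : G // Inv G P t ∧ t • R = R} = m) ∧ (m = 0 ∨ m = Nat.card H) := by
  obtain ⟨R₀, hR₀, hPR₀⟩ := hH.exists_ne P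
  refine ⟨Nat.card {t : G // Inv G P t ∧ t • R₀ = R₀}, ?_, ?_⟩
  · intro R hR hPR
    obtain ⟨g, hg1, hg2, hg3⟩ := hH.tr2 N hP hR₀ hPR₀ hP hR hPR
    refine (Nat.card_congr ((MulAut.conj g).toEquiv.subtypeEquiv ?_)).symm
    intro t
    show _ ↔ Inv G P (g * t * g⁻¹) ∧ (g * t * g⁻¹) • R = R
    have hg2' : g⁻¹ • R = R₀ := by rw [inv_smul_eq_iff, hg2]
    constructor
    · rintro ⟨h1, h2⟩
      have := h1.conj g
      rw [hg1] at this
      exact ⟨this, by rw [mul_smul, mul_smul, hg2', h2, hg2]⟩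
    · rintro ⟨h1, h2⟩
      refine ⟨?_, ?_⟩
      · have := h1.conj g⁻¹
        have e : g⁻¹ * (g * t * g⁻¹) * g⁻¹⁻¹ = t := by group
        rw [e] at this
        rwa [show g⁻¹ • P = P by rw [inv_smul_eq_iff, hg1]] at this
      · rw [mul_smul, mul_smul, hg2', ← hg2] at h2
        exact MulAction.injective g h2
  · by_cases he : Nonempty {t : G // Inv G P t ∧ t • R₀ = R₀}
    · right
      obtain ⟨⟨t₁, ht₁, h₁⟩⟩ := he
      refine Nat.card_congr ⟨fun t => ⟨t₁ * t.1, ?_⟩, fun x => ⟨t₁ * x.1, ?_, ?_⟩, ?_, ?_⟩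
      · obtain ⟨t, ht, h⟩ := t
        show t₁ * t ∈ H
        exact hH.mem_of_fix N hP hR₀ hPR₀ (mul_mem_K N hf ht₁ ht) (by rw [mul_smul, h, h₁])
      · exact inv_mul N hf ht₁ (hH.le_K N hP x.2)
      · rw [mul_smul, hR₀ x.1 x.2, h₁]
      · intro t
        apply Subtype.ext
        show t₁ * (t₁ * t.1) = t.1
        rw [← mul_assoc, ht₁.2.1, one_mul]
      · intro x
        apply Subtype.ext
        show t₁ * (t₁ * x.1) = x.1
        rw [← mul_assoc, ht₁.2.1, one_mul]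
    · left
      rw [Nat.card_eq_zero]
      left
      exact not_nonempty_iff.1 he

theorem line_count : ∃ c : ℕ, Nat.card {R : X // Fx H R} = c * c ∧ k = (c + 1) * Nat.card H ∧ 2 ≤ c ∧ Even d := by
  obtain ⟨P, hP⟩ : ∃ P : X, Fx H P := by
    obtain ⟨P, Q, -⟩ := hH.ex
    obtain ⟨S, hS, -⟩ := hH.exists_ne P
    exact ⟨S, hS⟩
  obtain ⟨Q, hQ, hPQ⟩ := hH.exists_ne P
  obtain ⟨c, hc⟩ := exists_c N hf hH
  obtain ⟨m, hm1, hm2⟩ := swap_line N hf hH hP
  obtain ⟨m', hm'1, hm'2⟩ := fix_line N hf hH hP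
  obtain ⟨t₀, ht₀⟩ := exists_inv N hf P
  have hk2 := N.k2
  have hj1 : 1 ≤ Nat.card H := Nat.card_pos
  set lam := Nat.card {R : X // Fx H R} with hlam
  have hlam1 : lam = Nat.card {R : X // Fx H R ∧ P ≠ R} + 1 := card_erase (fun R => Fx H R) hP
  have hlam2 : 1 ≤ Nat.card {R : X // Fx H R ∧ P ≠ R} := by
    have : Nonempty {R : X // Fx H R ∧ P ≠ R} := ⟨⟨Q, hQ, hPQ⟩⟩
    exact Nat.card_pos
  -- count 1
  have c1 : Nat.card {t : G // ∃ S : X, Fx H S ∧ Inv G S t} * c = lam * k := by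
    refine dc (α := {t : G // ∃ S : X, Fx H S ∧ Inv G S t}) (β := {R : X // Fx H R}) (fun t R => t.1 • R.1 = R.1) ?_ ?_
    · rintro ⟨t, S, hS, ht⟩
      rw [← hc hS ht]
      exact Nat.card_congr ⟨fun R => ⟨R.1.1, R.1.2, R.2⟩, fun R => ⟨⟨R.1, R.2.1⟩, R.2.2⟩, fun R => rfl, fun R => rfl⟩
    · rintro ⟨R, hR⟩
      rw [← card_inv N hf R]
      refine Nat.card_congr ⟨fun t => ⟨t.1.1, ?_⟩, fun t => ⟨⟨t.1, R, hR, t.2⟩, t.2.2.2⟩, fun t => rfl, fun t => rfl⟩
      obtain ⟨⟨t, S, hS, ht⟩, h⟩ := t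
      exact ⟨ht.1, ht.2.1, h⟩
  -- count 2
  have c2 : Nat.card {t : G // ∃ S : X, Fx H S ∧ Inv G S t} = k + (lam - 1) * m := by
    rw [card_split (fun t : G => ∃ S : X, Fx H S ∧ Inv G S t) (fun t => t • P = P)]
    congr 1
    · rw [← card_inv N hf P]
      refine Nat.card_congr (Equiv.subtypeEquivRight fun t => ?_)
      constructor
      · rintro ⟨⟨S, hS, ht⟩, h⟩
        exact ⟨ht.1, ht.2.1, h⟩
      · intro h
        exact ⟨⟨P, hP, h⟩, h.2.2⟩
    · have h := dc (α := {t : G // (∃ S : X, Fx H S ∧ Inv G S t) ∧ ¬ t • P = P}) (β := {R : X // Fx H R ∧ P ≠ R})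
        (fun t R => t.1 • P = R.1) (x := 1) (y := m) ?_ ?_
      · rw [mul_one] at h
        rw [h, hlam1, Nat.add_sub_cancel]
      · rintro ⟨t, ⟨S, hS, ht⟩, h⟩
        rw [Nat.card_eq_one_iff_unique]
        refine ⟨⟨fun a b => Subtype.ext (Subtype.ext (a.2.symm.trans b.2))⟩,
          ⟨⟨⟨t • P, (inv_nz N hf hH hS ht).fx hP, fun h' => h h'.symm⟩, rfl⟩⟩⟩
      · rintro ⟨R, hR, hPR⟩
        rw [← hm1 R hR hPR]
        exact Nat.card_congr ⟨fun t => ⟨t.1.1, t.1.2.1, t.2⟩,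
          fun t => ⟨⟨t.1, t.2.1, fun h => hPR (h.symm.trans t.2.2)⟩, t.2.2⟩, fun t => rfl, fun t => rfl⟩
  -- count 3
  have c3 : k * (c - 1) = (lam - 1) * m' := by
    have h := dc (α := {t : G // Inv G P t}) (β := {R : X // Fx H R ∧ P ≠ R}) (fun t R => t.1 • R.1 = R.1)
      (x := c - 1) (y := m') ?_ ?_
    · rw [card_inv N hf P] at h
      rw [h, hlam1, Nat.add_sub_cancel]
    · rintro ⟨t, ht⟩
      have h1 := card_erase (fun S : X => Fx H S ∧ t • S = S) (a := P) ⟨hP, ht.2.2⟩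
      rw [hc hP ht] at h1
      rw [h1, Nat.add_sub_cancel]
      exact Nat.card_congr ⟨fun R => ⟨R.1.1, ⟨R.1.2.1, R.2⟩, R.1.2.2⟩, fun R => ⟨⟨R.1, R.2.1.1, R.2.2⟩, R.2.1.2⟩,
        fun R => rfl, fun R => rfl⟩
    · rintro ⟨R, hR, hPR⟩
      rw [← hm'1 R hR hPR]
      exact Nat.card_congr ⟨fun t => ⟨t.1.1, t.1.2, t.2⟩, fun t => ⟨⟨t.1, t.2.1⟩, t.2.2⟩, fun t => rfl, fun t => rfl⟩
  rw [c2] at c1
  have hc1 : 1 ≤ c := by
    rw [← hc hP ht₀]
    have : Nonempty {S : X // Fx H S ∧ t₀ • S = S} := ⟨⟨P, hP, ht₀.2.2⟩⟩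
    exact Nat.card_pos
  obtain ⟨v, hv⟩ : ∃ v, lam = v + 1 := ⟨_, hlam1⟩
  have hv1 : 1 ≤ v := by omega
  -- `H` is a proper subgroup of the kernel
  obtain ⟨x₁, hx₁K, hx₁⟩ := hH.not_le N hP
  have hjk : Nat.card H ≠ k := by
    intro h
    apply hx₁
    have h1 : H = D.K P := by
      apply Subgroup.eq_of_le_of_card_ge (hH.le_K N hP)
      rw [N.cK, h]
    rw [h1]
    exact hx₁K
  have hv' : lam - 1 = v := by omega
  rw [hv'] at c1 c3
  rcases hm2 with hm2 | hm2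
  · -- all involutions act trivially
    exfalso
    rw [hm2, mul_zero, add_zero] at c1
    have h1 : c = lam := by
      have : k * c = k * lam := by rw [c1, mul_comm]
      exact Nat.eq_of_mul_eq_mul_left (by omega) this
    have h2 : ∀ t : G, Inv G P t → ∀ R : X, Fx H R → t • R = R := by
      intro t ht R hR
      have h3 := card_split (fun S : X => Fx H S) (fun S => t • S = S)
      rw [hc hP ht, ← hlam, h1] at h3
      have h4 : Nat.card {x : X // Fx H x ∧ ¬ t • x = x} = 0 := by omega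
      rw [Nat.card_eq_zero] at h4
      by_contra hcon
      rcases h4 with h4 | h4
      · exact h4.elim ⟨R, hR, hcon⟩
      · exact not_finite {x : X // Fx H x ∧ ¬ t • x = x}
    apply hx₁
    refine hH.mem_of_fix N hP hQ hPQ hx₁K ?_
    have h3 := h2 _ (inv_mul N hf ht₀ hx₁K) Q hQ
    have h4 := h2 _ ht₀ Q hQ
    rw [mul_smul, smul_eq_iff_eq_inv_smul, ht₀.inv_eq, h4] at h3
    exact h3
  · rw [hm2] at c1
    rcases hm'2 with h | h
    · exfalso
      rw [h, mul_zero] at c3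
      have h1 : c = 1 := by
        rcases Nat.mul_eq_zero.1 c3 with h1 | h1 <;> omega
      rw [h1, mul_one, hv] at c1
      apply hjk
      have h2 : v * Nat.card H = v * k := by
        have : (v + 1) * k = k + v * k := by ring
        omega
      exact Nat.eq_of_mul_eq_mul_left (by omega) h2
    · rw [h] at c3
      obtain ⟨e, he⟩ : ∃ e, c = e + 1 := ⟨c - 1, by omega⟩
      have he' : c - 1 = e := by omega
      rw [he'] at c3
      rw [← c3] at c1
      have h1 : k * (c * c) = k * lam := by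
        calc k * (c * c) = (k + k * e) * c := by rw [he]; ring
          _ = lam * k := c1
          _ = _ := mul_comm _ _
      have h2 : c * c = lam := Nat.eq_of_mul_eq_mul_left (by omega) h1
      have he1 : 1 ≤ e := by
        by_contra hlt
        have : e = 0 := by omega
        rw [this] at he
        rw [he] at h2
        omega
      have h3 : v = (c + 1) * e := by
        have : v + 1 = (c + 1) * e + 1 := by rw [← hv, ← h2, he]; ring
        omega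
      have h4 : e * k = e * ((c + 1) * Nat.card H) := by
        rw [mul_comm e k, c3, h3]
        ring
      refine ⟨c, h2.symm, Nat.eq_of_mul_eq_mul_left (by omega) h4, by omega, ?_⟩
      -- an involution of the stabilizer of two points
      have h5 : Nonempty {t : G // Inv G P t ∧ t • Q = Q} := by
        have := hm'1 Q hQ hPQ
        rw [h] at this
        exact (Nat.card_pos_iff.1 (by omega)).1
      obtain ⟨⟨t, ht, htQ⟩⟩ := h5
      have h6 : Nat.card ↥(MulAction.stabilizer G P ⊓ MulAction.stabilizer G Q) = d := by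
        rw [← N.sN hPQ (hH.nadj N hP hQ)]
        rfl
      rw [← h6, even_iff_two_dvd]
      have h7 : orderOf t = 2 := orderOf_eq_prime (by rw [pow_two, ht.2.1]) ht.1
      rw [← h7]
      exact Subgroup.orderOf_dvd_natCard _ (Subgroup.mem_inf.2 ⟨ht.2.2, htQ⟩)

end

/-! ### all lines through a point -/

section

variable [Finite G] [Finite X] (N : Num D n k l f d)
include N

/-- the lines through a point -/
theorem lines_count {P : X} (hex : ∀ Q : X, P ≠ Q → ¬ D.Adj P Q → D.L P Q ≠ ⊥) {lam : ℕ}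
    (hlam : ∀ Q : X, P ≠ Q → ¬ D.Adj P Q → Nat.card {R : X // Fx (D.L P Q) R} = lam + 1) :
    ∃ ν : ℕ, l = ν * lam ∧ 2 ≤ ν := by
  refine ⟨Nat.card {H : Subgroup G // ∃ Q : X, P ≠ Q ∧ ¬ D.Adj P Q ∧ D.L P Q = H}, ?_, ?_⟩
  · have h := dc (α := {H : Subgroup G // ∃ Q : X, P ≠ Q ∧ ¬ D.Adj P Q ∧ D.L P Q = H}) (β := {Q // P ≠ Q ∧ ¬ D.Adj P Q})
      (fun H Q => D.L P Q.1 = H.1) (x := lam) (y := 1) ?_ ?_
    · rw [mul_one, N.cN] at h
      exact h.symm
    · rintro ⟨H, Q, hQ1, hQ2, rfl⟩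
      have hH : IsLine D (D.L P Q) := ⟨hex Q hQ1 hQ2, P, Q, hQ1, hQ2, rfl⟩
      have hP : Fx (D.L P Q) P := fun x hx => D.K_le hx.1
      have h1 := hlam Q hQ1 hQ2
      rw [card_erase (fun R => Fx (D.L P Q) R) hP] at h1
      have h2 : Nat.card {R : X // Fx (D.L P Q) R ∧ P ≠ R} = lam := by omega
      rw [← h2]
      refine Nat.card_congr ⟨fun R => ⟨R.1.1, ?_, R.1.2.1⟩,
        fun R => ⟨⟨R.1, R.2.2, hH.nadj N hP R.2.1⟩, hH.eq_L N hP R.2.1 R.2.2⟩, fun R => rfl, fun R => rfl⟩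
      obtain ⟨⟨R, hR1, hR2⟩, hR3⟩ := R
      intro x hx
      have hR3 : D.L P R = D.L P Q := hR3
      rw [← hR3] at hx
      exact D.K_le hx.2
    · rintro ⟨Q, hQ1, hQ2⟩
      rw [Nat.card_eq_one_iff_unique]
      exact ⟨⟨fun a b => Subtype.ext (Subtype.ext (a.2.symm.trans b.2))⟩, ⟨⟨⟨_, Q, hQ1, hQ2, rfl⟩, rfl⟩⟩⟩
  · obtain ⟨Q, R, hQ1, hQ2, hR1, hR2, hQR⟩ := D.blN P
    have : Nontrivial {H : Subgroup G // ∃ Q : X, P ≠ Q ∧ ¬ D.Adj P Q ∧ D.L P Q = H} := by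
      refine ⟨⟨⟨_, Q, hQ1, hQ2, rfl⟩, ⟨_, R, hR1, hR2, rfl⟩, ?_⟩⟩
      intro h
      have h1 : D.L P Q = D.L P R := congrArg Subtype.val h
      have hH : IsLine D (D.L P Q) := ⟨hex Q hQ1 hQ2, P, Q, hQ1, hQ2, rfl⟩
      refine hH.nadj N (R := Q) (R' := R) (fun x hx => D.K_le hx.2) ?_ hQR
      intro x hx
      rw [h1] at hx
      exact D.K_le hx.2
    exact Finite.one_lt_card

end

section

variable [Finite G] [Finite X] (N : Num D n k l f d) (hf : Even f)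
include N hf

/-- two lines through `P` -/
theorem line_inf {P Q R : X} (hQ1 : P ≠ Q) (hQ2 : ¬ D.Adj P Q) (hR1 : P ≠ R) (hR2 : ¬ D.Adj P R)
    (hne : D.L P Q ≠ D.L P R) : D.L P Q ⊓ D.L P R = ⊥ := by
  by_contra hcon
  obtain ⟨⟨x, hxQ, hxR⟩, hx1⟩ := Subgroup.ne_bot_iff_exists_ne_one.1 hcon
  have hx1 : x ≠ 1 := fun h => hx1 (Subtype.ext h)
  have hLQ : IsLine D (D.L P Q) := ⟨fun h => hx1 (by rw [h] at hxQ; exact mem_bot.1 hxQ), P, Q, hQ1, hQ2, rfl⟩
  have hLR : IsLine D (D.L P R) := ⟨fun h => hx1 (by rw [h] at hxR; exact mem_bot.1 hxR), P, R, hR1, hR2, rfl⟩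
  have hQR : ¬ D.Adj Q R := N.clique hxQ.1 hx1 (D.K_le hxQ.2) (D.K_le hxR.2)
  have hneQR : Q ≠ R := by
    rintro rfl
    exact hne rfl
  obtain ⟨j, hj⟩ := N.exists_j
  -- the third line fixes `P`
  have h1 : ∀ y ∈ D.L Q R, y • P = P := by
    intro y hy
    have h2 : Fx (D.L P Q) (y • P) := by
      intro z hz
      rw [← mul_smul, comm_K N hf hz.2 hy.1, mul_smul, D.K_le hz.1]
    have h3 : Fx (D.L P R) (y • P) := by
      intro z hz
      rw [← mul_smul, comm_K N hf hz.2 hy.2, mul_smul, D.K_le hz.1]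
    by_contra hyP
    apply hne
    rw [← hLQ.eq_L N (R := P) (R' := y • P) (fun x hx => D.K_le hx.1) h2 (fun h => hyP h.symm),
      ← hLR.eq_L N (R := P) (R' := y • P) (fun x hx => D.K_le hx.1) h3 (fun h => hyP h.symm)]
  have h2 : D.L Q R ≤ D.L P Q := by
    intro y hy
    exact ⟨N.fix_mem hy.1 (h1 y hy), hy.1⟩
  have h3 : D.L Q R ≤ D.L P R := by
    intro y hy
    exact ⟨N.fix_mem hy.1 (h1 y hy), hy.2⟩
  have h4 := Subgroup.eq_of_le_of_card_ge h2 (by rw [hj hQ1 hQ2, hj hneQR hQR])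
  have h5 := Subgroup.eq_of_le_of_card_ge h3 (by rw [hj hR1 hR2, hj hneQR hQR])
  exact hne (h4.symm.trans h5)

theorem sq_dvd {P Q R : X} (hQ1 : P ≠ Q) (hQ2 : ¬ D.Adj P Q) (hR1 : P ≠ R) (hR2 : ¬ D.Adj P R)
    (hne : D.L P Q ≠ D.L P R) : Nat.card (D.L P Q) * Nat.card (D.L P R) ∣ k := by
  have h := line_inf N hf hQ1 hQ2 hR1 hR2 hne
  have hcomm : ∀ (a : D.L P Q) (b : D.L P R), Commute ((D.L P Q).subtype a) ((D.L P R).subtype b) :=
    fun a b => comm_K N hf a.2.1 b.2.1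
  have h1 : Function.Injective ((D.L P Q).subtype.noncommCoprod (D.L P R).subtype hcomm) := by
    rw [MonoidHom.noncommCoprod_injective]
    refine ⟨subtype_injective _, subtype_injective _, ?_⟩
    rw [disjoint_iff, range_subtype, range_subtype]
    exact h
  have h2 : Nat.card ((D.L P Q).subtype.noncommCoprod (D.L P R).subtype hcomm).range =
      Nat.card (D.L P Q) * Nat.card (D.L P R) := by
    rw [← Nat.card_prod]
    exact (Nat.card_congr (MonoidHom.ofInjective h1).toEquiv).symm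
  rw [← h2, ← N.cK P]
  apply Subgroup.card_dvd_of_le
  rintro x ⟨⟨a, b⟩, rfl⟩
  rw [MonoidHom.noncommCoprod_apply]
  exact mul_mem a.2.1 b.2.1

end

end Cfsg.Agent.H90.R3
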