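import Cfsg.Agent.H90.R3.Trace

/-!
# Strongly regular graphs with a group of automorphisms: arithmetic conditions in terms of cardinalities
-/

set_option autoImplicit false

namespace Cfsg.Agent.H90.R3.Graph

open Finset
open Cfsg.Agent.Fischer160.Srg

/-- a strongly regular graph with an action of a group -/
structure Srg (G X : Type*) [Group G] [MulAction G X] (Adj : X → X → Prop) (n k lam mu : ℕ) : Prop where
  symm : ∀ {P Q}, Adj P Q → Adj Q P
  irr : ∀ P, ¬ Adj P P
  smul : ∀ (g : G) {P Q}, Adj P Q → Adj (g • P) (g • Q)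
  cX : Nat.card X = n
  cA : ∀ P, Nat.card {Q // Adj P Q} = k
  cL : ∀ {P Q}, Adj P Q → Nat.card {R // Adj P R ∧ Adj Q R} = lam
  cM : ∀ {P Q}, P ≠ Q → ¬ Adj P Q → Nat.card {R // Adj P R ∧ Adj Q R} = mu

variable {G X : Type*} [Group G] [MulAction G X] [Fintype X] [DecidableEq X] {Adj : X → X → Prop} {n k lam mu : ℕ}

open Classical in
/-- adjacency matrix -/
noncomputable def AM (Adj : X → X → Prop) : Matrix X X ℝ := Matrix.of fun i j => if Adj i j then 1 else 0

/-- permutation matrix -/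
def PM (g : G) : Matrix X X ℝ := Matrix.of fun i j => if g • j = i then 1 else 0

theorem PM_mul (g h : G) : PM (X := X) (g * h) = PM g * PM h := by
  ext i j
  simp only [PM, Matrix.mul_apply, Matrix.of_apply, mul_ite, mul_one, mul_zero]
  rw [Finset.sum_eq_single (h • j)]
  · simp [mul_smul]
  · intro b _ hb
    rw [if_neg (fun h => hb h.symm)]
  · simp

theorem PM_one : PM (X := X) (1 : G) = 1 := by
  ext i j
  simp only [PM, Matrix.of_apply, one_smul, Matrix.one_apply]
  by_cases h : i = j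
  · simp [h]
  · rw [if_neg (fun h' => h h'.symm), if_neg h]

theorem PM_pow (g : G) (n : ℕ) : PM (X := X) (g ^ n) = PM g ^ n := by
  induction n with
  | zero => rw [pow_zero, pow_zero, PM_one]
  | succ n ih => rw [pow_succ, pow_succ, PM_mul, ih]

theorem mul_PM (A : Matrix X X ℝ) (g : G) (i j : X) : (A * (PM g : Matrix X X ℝ)) i j = A i (g • j) := by
  simp only [PM, Matrix.mul_apply, Matrix.of_apply, mul_ite, mul_one, mul_zero]
  rw [Finset.sum_eq_single (g • j)]
  · simp
  · intro b _ hb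
    rw [if_neg (fun h => hb h.symm)]
  · simp

theorem PM_mul' (A : Matrix X X ℝ) (g : G) (i j : X) : ((PM g : Matrix X X ℝ) * A) i j = A (g⁻¹ • i) j := by
  simp only [PM, Matrix.mul_apply, Matrix.of_apply, ite_mul, one_mul, zero_mul]
  rw [Finset.sum_eq_single (g⁻¹ • i)]
  · simp
  · intro b _ hb
    rw [if_neg (fun h => hb (by rw [← h, inv_smul_smul]))]
  · simp

theorem J_PM (g : G) : J X * PM g = J X := by
  ext i j
  rw [mul_PM]
  rfl

theorem PM_J (g : G) : PM g * J X = J X := by
  ext i j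
  rw [PM_mul']
  rfl

theorem PM_AM (h : Srg G X Adj n k lam mu) (g : G) : PM g * AM Adj = AM Adj * PM g := by
  ext i j
  rw [mul_PM, PM_mul']
  simp only [AM, Matrix.of_apply]
  congr 1
  rw [eq_iff_iff]
  constructor
  · intro h1
    have := h.smul g h1
    rwa [smul_inv_smul] at this
  · intro h1
    have := h.smul g⁻¹ h1
    rwa [inv_smul_smul] at this

theorem trace_PM (g : G) : (PM (X := X) g).trace = (Nat.card {P : X // g • P = P} : ℝ) := by
  classical
  simp only [Matrix.trace, Matrix.diag, PM, Matrix.of_apply]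
  rw [Finset.sum_boole, Nat.card_eq_fintype_card, Fintype.card_subtype]

theorem trace_AM_PM (g : G) : (AM Adj * (PM g : Matrix X X ℝ)).trace = (Nat.card {P : X // Adj P (g • P)} : ℝ) := by
  classical
  simp only [Matrix.trace, Matrix.diag_apply, mul_PM]
  simp only [AM, Matrix.of_apply]
  rw [Finset.sum_boole, Nat.card_eq_fintype_card, Fintype.card_subtype]

theorem srgMat (h : Srg G X Adj n k lam mu) : SrgMat (AM Adj) (k : ℝ) lam mu := by
  classical
  have hA : ∀ P, (∑ Q, if Adj P Q then (1 : ℝ) else 0) = k := by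
    intro P
    rw [Finset.sum_boole, ← h.cA P, Nat.card_eq_fintype_card, Fintype.card_subtype]
  refine ⟨?_, ?_, ?_⟩
  · ext i j
    have h1 : (AM Adj * AM Adj) i j = (Nat.card {R // Adj i R ∧ Adj j R} : ℝ) := by
      simp only [Matrix.mul_apply, AM, Matrix.of_apply]
      rw [Nat.card_eq_fintype_card, Fintype.card_subtype, ← Finset.sum_boole]
      refine Finset.sum_congr rfl fun R _ => ?_
      by_cases h1 : Adj i R <;> by_cases h2 : Adj R j
      · rw [if_pos h1, if_pos h2, if_pos ⟨h1, h.symm h2⟩, one_mul]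
      · rw [if_pos h1, if_neg h2, if_neg (fun h3 => h2 (h.symm h3.2)), mul_zero]
      · rw [if_neg h1, if_neg (fun h3 : Adj i R ∧ Adj j R => h1 h3.1), zero_mul]
      · rw [if_neg h1, if_neg (fun h3 : Adj i R ∧ Adj j R => h1 h3.1), zero_mul]
    rw [h1]
    simp only [Matrix.add_apply, Matrix.smul_apply, smul_eq_mul, J, AM, Matrix.of_apply, mul_one]
    by_cases hij : i = j
    · subst hij
      rw [Matrix.one_apply_eq, if_neg (h.irr i)]
      have h2 : Nat.card {R // Adj i R ∧ Adj i R} = k := by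
        rw [← h.cA i]
        exact Nat.card_congr (Equiv.subtypeEquivRight fun R => and_self_iff)
      rw [h2]
      ring
    · rw [Matrix.one_apply_ne hij]
      by_cases ha : Adj i j
      · rw [if_pos ha, h.cL ha]
        ring
      · rw [if_neg ha, h.cM hij ha]
        ring
  · ext i j
    simp only [Matrix.mul_apply, AM, J, Matrix.of_apply, Matrix.smul_apply, smul_eq_mul, mul_one]
    exact hA i
  · ext i j
    simp only [Matrix.mul_apply, AM, J, Matrix.of_apply, Matrix.smul_apply, smul_eq_mul, mul_one, one_mul]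
    rw [← hA j]
    refine Finset.sum_congr rfl fun R _ => ?_
    by_cases h1 : Adj R j
    · rw [if_pos h1, if_pos (h.symm h1)]
    · rw [if_neg h1, if_neg (fun h2 => h1 (h.symm h2))]

/-- the discriminant is a square, or the half case; in the first case the multiplicity is an integer -/
theorem square_or [Nonempty X] (h : Srg G X Adj n k lam mu)
    (hpos : 0 < ((lam : ℤ) - mu) * (lam - mu) + 4 * (k - mu)) :
    ((n : ℤ) - 1) * (lam - mu) + 2 * k = 0 ∨
      ∃ s : ℤ, 0 < s ∧ s * s = ((lam : ℤ) - mu) * (lam - mu) + 4 * (k - mu) ∧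
        ∃ a : ℕ, ((n : ℤ) - 1) * (lam - mu) + 2 * k = s * (((n : ℤ) - 1) - 2 * a) := by
  set disc : ℤ := ((lam : ℤ) - mu) * (lam - mu) + 4 * (k - mu) with hdisc
  set s : ℝ := Real.sqrt disc with hs
  have hdR : (0 : ℝ) < disc := by exact_mod_cast hpos
  have hs0 : 0 < s := Real.sqrt_pos.2 hdR
  have hss : s * s = disc := Real.mul_self_sqrt hdR.le
  have hs2 : s * s = ((lam : ℝ) - mu) * (lam - mu) + 4 * (k - mu) := by
    rw [hss, hdisc]
    push_cast
    ring
  obtain ⟨M, hM, -, htr⟩ := Trace.exists_idem (srgMat h) hs0.ne' hs2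
  obtain ⟨a, ha⟩ := trace_idempotent M hM
  have h1 := htr 1 (by rw [Matrix.mul_one])
  rw [Matrix.mul_one, Matrix.mul_one, ha] at h1
  have h2 : (AM Adj : Matrix X X ℝ).trace = 0 := by
    have h3 := trace_AM_PM (G := G) (Adj := Adj) (1 : G)
    rw [PM_one, Matrix.mul_one] at h3
    rw [h3]
    simp only [one_smul]
    have : IsEmpty {P // Adj P P} := ⟨fun P => h.irr _ P.2⟩
    rw [Nat.card_of_isEmpty, Nat.cast_zero]
  have h3 : (1 : Matrix X X ℝ).trace = n := by
    rw [Matrix.trace_one, ← h.cX, Nat.card_eq_fintype_card]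
  rw [h2, h3] at h1
  have h4 : ((n : ℝ) - 1) * (lam - mu) + 2 * k = s * (((n : ℝ) - 1) - 2 * a) := by
    field_simp at h1
    nlinarith
  by_cases h5 : (n : ℤ) - 1 - 2 * a = 0
  · left
    have h6 : (n : ℝ) - 1 - 2 * a = 0 := by exact_mod_cast h5
    rw [h6, mul_zero] at h4
    exact_mod_cast h4
  · right
    have h6 : ((n : ℝ) - 1 - 2 * a) ≠ 0 := by exact_mod_cast h5
    -- `s` is rational, hence an integer
    have h7 : s = ((((n : ℤ) - 1) * (lam - mu) + 2 * k : ℤ) : ℝ) / (((n : ℤ) - 1 - 2 * a : ℤ) : ℝ) := by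
      push_cast
      rw [h4]
      field_simp
    have h8 : ∃ q : ℚ, (q : ℝ) = s := ⟨((((n : ℤ) - 1) * (lam - mu) + 2 * k : ℤ) : ℚ) / (((n : ℤ) - 1 - 2 * a : ℤ) : ℚ), by
      rw [h7]; push_cast; rfl⟩
    obtain ⟨q, hq⟩ := h8
    have h9 : q * q = (disc : ℚ) := by
      have : ((q * q : ℚ) : ℝ) = ((disc : ℚ) : ℝ) := by
        push_cast
        rw [hq, hss]
      exact_mod_cast this
    have h10 : IsIntegral ℤ q := by
      refine ⟨Polynomial.X ^ 2 - Polynomial.C disc, Polynomial.monic_X_pow_sub_C _ two_ne_zero, ?_⟩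
      simp only [Polynomial.eval₂_sub, Polynomial.eval₂_X_pow, Polynomial.eval₂_C]
      rw [pow_two, h9]
      simp
    obtain ⟨z, hz⟩ := IsIntegrallyClosed.isIntegral_iff.1 h10
    rw [eq_intCast] at hz
    have hsz : s = (z : ℝ) := by rw [← hq, ← hz]; push_cast; rfl
    refine ⟨z, ?_, ?_, a, ?_⟩
    · rw [hsz] at hs0
      exact_mod_cast hs0
    · rw [hsz] at hss
      exact_mod_cast hss
    · rw [hsz] at h4
      exact_mod_cast h4

/-- the value of the constituent of an element -/
theorem elem [Nonempty X] [Finite G] (h : Srg G X Adj n k lam mu) {s τ : ℤ} (hs : s ≠ 0)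
    (hs2 : s * s = ((lam : ℤ) - mu) * (lam - mu) + 4 * (k - mu)) (hτ : 2 * τ = (lam : ℤ) - mu - s) (g : G) :
    s ∣ (Nat.card {P : X // Adj P (g • P)} : ℤ) - τ * (Nat.card {P : X // g • P = P}) - (k - τ) := by
  refine Trace.int_elem (k := k) (lam := lam) (mu := mu) (A := AM Adj) (P := PM g) (n := orderOf g)
    (by simpa using srgMat h) hs hs2 hτ (PM_AM h g) (PM_J g) (J_PM g) (orderOf_pos g)
    (by rw [← PM_pow, pow_orderOf_eq_one, PM_one]) (by rw [trace_AM_PM]; push_cast; rfl)
    (by rw [trace_PM]; push_cast; rfl)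

/-- the multiplicity of the trivial character of a subgroup -/
theorem group [Nonempty X] (h : Srg G X Adj n k lam mu) {s τ : ℤ} (hs : s ≠ 0)
    (hs2 : s * s = ((lam : ℤ) - mu) * (lam - mu) + 4 * (k - mu)) (hτ : 2 * τ = (lam : ℤ) - mu - s)
    (K : Subgroup G) [Fintype K] :
    ∃ a : ℕ, ∑ g : K, ((Nat.card {P : X // Adj P (g • P)} : ℤ) - τ * (Nat.card {P : X // g • P = P}) - (k - τ)) =
      Fintype.card K * s * a := by
  have hs' : (s : ℝ) ≠ 0 := by exact_mod_cast hs
  have hs2' : (s : ℝ) * s = ((lam : ℝ) - mu) * (lam - mu) + 4 * (k - mu) := by exact_mod_cast hs2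
  obtain ⟨a, ha⟩ := Trace.int_group (srgMat h) hs' hs2' (K := K) (fun g => PM (g : G))
    (fun g g' => by rw [Subgroup.coe_mul, PM_mul]) (fun g => PM_AM h _) (fun g => PM_J _) (fun g => J_PM _)
  refine ⟨a, ?_⟩
  have hτ' : ((lam : ℝ) - mu - s) / 2 = τ := by
    have : (2 : ℝ) * τ = lam - mu - s := by exact_mod_cast hτ
    linarith
  simp only [hτ', trace_PM, trace_AM_PM] at ha
  have : ((∑ g : K, ((Nat.card {P : X // Adj P (g • P)} : ℤ) - τ * (Nat.card {P : X // g • P = P}) - (k - τ)) : ℤ) : ℝ)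
      = ((Fintype.card K * s * a : ℤ) : ℝ) := by
    push_cast
    exact ha
  exact_mod_cast this

end Cfsg.Agent.H90.R3.Graph
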