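import Cfsg.Agent.H90.R3.Basic
import Cfsg.Agent.H90.R3.Graph

/-!
# Rank three groups with a Frobenius suborbit: the parameters `lam`, `mu`
-/

set_option autoImplicit false

namespace Cfsg.Agent.H90.R3

open Subgroup

theorem card_split {X : Type*} [Finite X] (p q : X → Prop) :
    Nat.card {x // p x} = Nat.card {x // p x ∧ q x} + Nat.card {x // p x ∧ ¬ q x} := by
  classical
  rw [← Nat.card_sum]
  refine Nat.card_congr ⟨fun x => if h : q x.1 then Sum.inl ⟨x.1, x.2, h⟩ else Sum.inr ⟨x.1, x.2, h⟩,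
    fun y => y.elim (fun x => ⟨x.1, x.2.1⟩) (fun x => ⟨x.1, x.2.1⟩), ?_, ?_⟩
  · rintro ⟨x, hx⟩
    by_cases h : q x <;> simp [h]
  · rintro (⟨x, hx1, hx2⟩ | ⟨x, hx1, hx2⟩) <;> simp [hx2]

theorem card_erase {X : Type*} [Finite X] (p : X → Prop) {a : X} (ha : p a) :
    Nat.card {x // p x} = Nat.card {x // p x ∧ a ≠ x} + 1 := by
  rw [card_split p (fun x => a ≠ x)]
  congr 1
  rw [Nat.card_eq_one_iff_unique]
  refine ⟨⟨?_⟩, ⟨⟨a, ha, fun h => h rfl⟩⟩⟩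
  rintro ⟨x, hx1, hx2⟩ ⟨y, hy1, hy2⟩
  rw [not_not] at hx2 hy2
  exact Subtype.ext (hx2.symm.trans hy2)

theorem free_dvd {G X : Type*} [Group G] [Finite G] [MulAction G X] [Finite X] (S : Subgroup G) (p : X → Prop)
    (hp : ∀ g ∈ S, ∀ Q, p Q → p (g • Q)) (hf : ∀ g ∈ S, ∀ Q, p Q → g • Q = Q → g = 1) :
    Nat.card S ∣ Nat.card {Q // p Q} := by
  let Ω : SubMulAction S X := ⟨{Q | p Q}, fun g Q hQ => hp g.1 g.2 Q hQ⟩
  have h1 : ∀ b : Ω, MulAction.stabilizer S b = ⊥ := by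
    rintro ⟨b, hb⟩
    rw [eq_bot_iff]
    rintro ⟨g, hg⟩ h
    exact Subtype.ext (hf g hg b hb (congrArg Subtype.val h))
  have e : Ω ≃ _ := MulAction.selfEquivOrbitsQuotientProd h1
  have h2 : Nat.card {Q // p Q} = Nat.card Ω := rfl
  rw [h2, Nat.card_congr e, Nat.card_prod]
  exact dvd_mul_left _ _

variable {G X : Type*} [Group G] [MulAction G X] {D : Dat G X} {n k l f d : ℕ}

theorem Num.exists_srg [Finite G] [Finite X] (N : Num D n k l f d) :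
    ∃ lam mu s : ℕ, Graph.Srg G X D.Adj n k lam mu ∧ k = 1 + lam + f * s ∧ mu = d * s ∧ 1 ≤ s ∧ f ∣ lam := by
  classical
  have hne : Nonempty X := by
    have h1 := N.cX
    have h2 := N.sum
    exact (Nat.card_pos_iff.1 (by omega)).1
  obtain ⟨A⟩ := hne
  obtain ⟨B, hB⟩ := D.exA A
  obtain ⟨C, hC1, hC2⟩ := D.exN A
  have hinv : ∀ (g : G) P Q, Nat.card {R // D.Adj (g • P) R ∧ D.Adj (g • Q) R} = Nat.card {R // D.Adj P R ∧ D.Adj Q R} := by
    intro g P Q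
    refine (Nat.card_congr ((MulAction.toPerm g).subtypeEquiv ?_)).symm
    intro R
    rw [MulAction.toPerm_apply, D.adj_smul_iff, D.adj_smul_iff]
  have hlam : ∀ {P Q}, D.Adj P Q → Nat.card {R // D.Adj P R ∧ D.Adj Q R} = Nat.card {R // D.Adj A R ∧ D.Adj B R} := by
    intro P Q hPQ
    obtain ⟨g, rfl, rfl⟩ := D.trA hB hPQ
    exact hinv g A B
  have hmu : ∀ {P Q}, P ≠ Q → ¬ D.Adj P Q → Nat.card {R // D.Adj P R ∧ D.Adj Q R} = Nat.card {R // D.Adj A R ∧ D.Adj C R} := by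
    intro P Q h1 h2
    obtain ⟨g, rfl, rfl⟩ := D.trN hC1 hC2 h1 h2
    exact hinv g A C
  have hf1 : Nat.card ↥(MulAction.stabilizer G A ⊓ MulAction.stabilizer G B) = f := by
    rw [← N.sA hB]
    rfl
  have hfd : f ∣ Nat.card {R // D.Adj A R ∧ D.Adj B R} := by
    rw [← hf1]
    apply free_dvd
    · rintro g ⟨hg1, hg2⟩ R ⟨hR1, hR2⟩
      have h1 := D.smul g hR1
      have h2 := D.smul g hR2
      rw [MulAction.mem_stabilizer_iff.1 hg1] at h1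
      rw [MulAction.mem_stabilizer_iff.1 hg2] at h2
      exact ⟨h1, h2⟩
    · rintro g ⟨hg1, hg2⟩ R ⟨hR1, hR2⟩ hgR
      exact D.free hg1 hB hg2 hR1 hgR (fun h => D.irr _ (by rw [← h] at hR2; exact hR2))
  -- the neighbours of `Q` relative to a neighbour `P`
  have hcount : ∀ {P Q}, D.Adj P Q → k = 1 + Nat.card {R // D.Adj A R ∧ D.Adj B R} +
      Nat.card {R // D.Adj Q R ∧ (P ≠ R ∧ ¬ D.Adj P R)} := by
    intro P Q hPQ
    rw [← N.cA Q, card_split (fun R => D.Adj Q R) (fun R => D.Adj P R),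
      card_erase (fun R => D.Adj Q R ∧ ¬ D.Adj P R) (a := P) ⟨D.symm hPQ, D.irr P⟩,
      ← hlam (D.symm hPQ)]
    have e : Nat.card {x // (D.Adj Q x ∧ ¬ D.Adj P x) ∧ P ≠ x} = Nat.card {R // D.Adj Q R ∧ (P ≠ R ∧ ¬ D.Adj P R)} :=
      Nat.card_congr (Equiv.subtypeEquivRight fun R => by tauto)
    rw [e]
    ring
  set lam := Nat.card {R // D.Adj A R ∧ D.Adj B R} with hl
  set c := Nat.card {R // D.Adj B R ∧ (A ≠ R ∧ ¬ D.Adj A R)} with hc
  have hk := hcount hB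
  have hfc : f ∣ c := by
    have h1 : c = (k - 1) - lam := by omega
    rw [h1]
    exact Nat.dvd_sub N.dvd hfd
  obtain ⟨s, hs⟩ := hfc
  have hs1 : 1 ≤ s := by
    by_contra hlt
    have h0 : s = 0 := by omega
    rw [h0, mul_zero] at hs
    obtain ⟨Q, R, hQ, hR, hne, hna⟩ := D.blA A
    have h1 := hcount hQ
    have h2 : Nat.card {S // D.Adj Q S ∧ (A ≠ S ∧ ¬ D.Adj A S)} = 0 := by omega
    -- all neighbours of a neighbour `Q'` of `P'` are adjacent or equal to `P'`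
    have h3 : ∀ {P' Q' R'}, D.Adj P' Q' → D.Adj Q' R' → P' ≠ R' → D.Adj P' R' := by
      intro P' Q' R' h4 h5 h6
      by_contra h7
      have h8 := hcount h4
      have h9 : Nat.card {S // D.Adj Q' S ∧ (P' ≠ S ∧ ¬ D.Adj P' S)} = 0 := by omega
      rw [Nat.card_eq_zero] at h9
      rcases h9 with h9 | h9
      · exact h9.elim ⟨R', h5, h6, h7⟩
      · exact not_finite {S // D.Adj Q' S ∧ (P' ≠ S ∧ ¬ D.Adj P' S)}
    exact hna (h3 (D.symm hQ) hR hne)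
  have hmul : k * c = l * Nat.card {R // D.Adj A R ∧ D.Adj C R} := by
    have h1 := dc (α := {Q // D.Adj A Q}) (β := {R // A ≠ R ∧ ¬ D.Adj A R}) (fun Q R => D.Adj Q.1 R.1) (x := c)
      (y := Nat.card {R // D.Adj A R ∧ D.Adj C R}) ?_ ?_
    · rwa [N.cA, N.cN] at h1
    · rintro ⟨Q, hQ⟩
      have h2 := hcount hQ
      have h3 : c = Nat.card {R // D.Adj Q R ∧ (A ≠ R ∧ ¬ D.Adj A R)} := by omega
      rw [h3]
      exact Nat.card_congr ⟨fun R => ⟨R.1.1, R.2, R.1.2⟩, fun R => ⟨⟨R.1, R.2.2⟩, R.2.1⟩, fun R => rfl, fun R => rfl⟩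
    · rintro ⟨R, hR1, hR2⟩
      rw [← hmu hR1 hR2]
      exact Nat.card_congr ⟨fun Q => ⟨Q.1.1, Q.1.2, D.symm Q.2⟩, fun Q => ⟨⟨Q.1, Q.2.1⟩, D.symm Q.2.2⟩, fun R => rfl,
        fun R => rfl⟩
  refine ⟨lam, Nat.card {R // D.Adj A R ∧ D.Adj C R}, s, ⟨D.symm, D.irr, D.smul, N.cX, N.cA, hlam, hmu⟩, ?_, ?_, hs1, hfd⟩
  · rw [← hs]
    exact hk
  · have h1 := N.cS'
    have hl1 := N.l1
    rw [hs] at hmul
    have h2 : l * (d * s) = l * Nat.card {R // D.Adj A R ∧ D.Adj C R} := by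
      rw [← hmul, ← mul_assoc, ← h1]
      ring
    exact (Nat.eq_of_mul_eq_mul_left (by omega) h2).symm

end Cfsg.Agent.H90.R3
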