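import Cfsg.Agent.H90.R3.Even

/-!
# Rank three groups with a Frobenius suborbit: lines
-/

set_option autoImplicit false

namespace Cfsg.Agent.H90.R3

open Subgroup

variable {G X : Type*} [Group G] [MulAction G X] {D : Dat G X} {n k l f d : ℕ}

/-- the common part of two kernels -/
def Dat.L (D : Dat G X) (P Q : X) : Subgroup G := D.K P ⊓ D.K Q

theorem Dat.conj_L {P Q : X} {x : G} (g : G) : g * x * g⁻¹ ∈ D.L (g • P) (g • Q) ↔ x ∈ D.L P Q := by
  unfold Dat.L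
  rw [mem_inf, mem_inf, D.conj_mem_iff, D.conj_mem_iff]

theorem Dat.L_comm (D : Dat G X) (P Q : X) : D.L P Q = D.L Q P := inf_comm _ _

/-- `g` normalizes `H` -/
def Nz (H : Subgroup G) (g : G) : Prop := ∀ x : G, g * x * g⁻¹ ∈ H ↔ x ∈ H

theorem Nz.inv {H : Subgroup G} {g : G} (h : Nz H g) : Nz H g⁻¹ := by
  intro x
  rw [← h (g⁻¹ * x * g⁻¹⁻¹)]
  have : g * (g⁻¹ * x * g⁻¹⁻¹) * g⁻¹ = x := by group
  rw [this]

theorem Nz.mul {H : Subgroup G} {g g' : G} (h : Nz H g) (h' : Nz H g') : Nz H (g * g') := by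
  intro x
  rw [← h' x, ← h (g' * x * g'⁻¹)]
  have : g * g' * x * (g * g')⁻¹ = g * (g' * x * g'⁻¹) * g⁻¹ := by group
  rw [this]

/-- `R` is fixed by `H` -/
def Fx (H : Subgroup G) (R : X) : Prop := ∀ x ∈ H, x • R = R

theorem Nz.fx {H : Subgroup G} {g : G} (h : Nz H g) {R : X} (hR : Fx H R) : Fx H (g • R) := by
  intro x hx
  have h1 : g⁻¹ * x * g ∈ H := by
    have := (h.inv x).2 hx
    rwa [inv_inv] at this
  have h2 := hR _ h1
  rw [mul_smul, mul_smul, inv_smul_eq_iff] at h2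
  exact h2

theorem Nz.fx_iff {H : Subgroup G} {g : G} (h : Nz H g) {R : X} : Fx H (g • R) ↔ Fx H R := by
  constructor
  · intro h1
    have := h.inv.fx h1
    rwa [inv_smul_smul] at this
  · exact h.fx

/-- the subgroup `H` is the common part of the kernels of two points -/
structure IsLine (D : Dat G X) (H : Subgroup G) : Prop where
  ne : H ≠ ⊥
  ex : ∃ P Q, P ≠ Q ∧ ¬ D.Adj P Q ∧ D.L P Q = H

theorem IsLine.exists_one {H : Subgroup G} (hH : IsLine D H) : ∃ x ∈ H, x ≠ 1 := by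
  obtain ⟨y, hy⟩ := H.ne_bot_iff_exists_ne_one.1 hH.ne
  exact ⟨y.1, y.2, fun h => hy (Subtype.ext h)⟩

theorem IsLine.exists_ne {H : Subgroup G} (hH : IsLine D H) (R : X) : ∃ S, Fx H S ∧ R ≠ S := by
  obtain ⟨P, Q, hPQ, h1, h2⟩ := hH.ex
  by_cases h : R = P
  · refine ⟨Q, ?_, by rw [h]; exact hPQ⟩
    intro x hx
    rw [← h2] at hx
    exact D.K_le hx.2
  · refine ⟨P, ?_, h⟩
    intro x hx
    rw [← h2] at hx
    exact D.K_le hx.1

section

variable [Finite G] (N : Num D n k l f d)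
include N

theorem Num.mem_L {P Q : X} {x : G} : x ∈ D.L P Q ↔ x ∈ D.K P ∧ x • Q = Q := by
  constructor
  · rintro ⟨h1, h2⟩
    exact ⟨h1, D.K_le h2⟩
  · rintro ⟨h1, h2⟩
    exact ⟨h1, N.fix_mem h1 h2⟩

theorem Num.exists_j [Finite X] : ∃ j : ℕ, ∀ {P Q : X}, P ≠ Q → ¬ D.Adj P Q → Nat.card (D.L P Q) = j := by
  have hne : Nonempty X := by
    have h1 := N.cX
    have h2 := N.sum
    exact (Nat.card_pos_iff.1 (by omega)).1
  obtain ⟨A⟩ := hne
  obtain ⟨C, hC1, hC2⟩ := D.exN A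
  refine ⟨Nat.card (D.L A C), ?_⟩
  intro P Q h1 h2
  obtain ⟨g, rfl, rfl⟩ := D.trN hC1 hC2 h1 h2
  refine (Nat.card_congr ((MulAut.conj g).toEquiv.subtypeEquiv ?_)).symm
  intro x
  exact (Dat.conj_L g).symm

end

section

variable [Finite G] (N : Num D n k l f d) {H : Subgroup G} (hH : IsLine D H)
include N hH

theorem IsLine.le_K {R : X} (hR : Fx H R) : H ≤ D.K R := by
  obtain ⟨P, Q, hPQ, h1, h2⟩ := hH.ex
  intro x hx
  have h3 := hx
  rw [← h2] at h3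
  exact N.fix_mem h3.1 (hR x hx)

theorem IsLine.nadj {R R' : X} (hR : Fx H R) (hR' : Fx H R') : ¬ D.Adj R R' := by
  obtain ⟨x, hx, hx1⟩ := hH.exists_one
  exact N.clique (hH.le_K N hR hx) hx1 (hR x hx) (hR' x hx)

theorem IsLine.eq_L [Finite X] {R R' : X} (hR : Fx H R) (hR' : Fx H R') (hne : R ≠ R') : D.L R R' = H := by
  obtain ⟨P, Q, hPQ, h1, h2⟩ := hH.ex
  obtain ⟨j, hj⟩ := N.exists_j
  symm
  apply Subgroup.eq_of_le_of_card_ge
  · exact fun x hx => ⟨hH.le_K N hR hx, hH.le_K N hR' hx⟩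
  · rw [hj hne (hH.nadj N hR hR'), ← h2, hj hPQ h1]

theorem IsLine.tr2 [Finite X] {R R' S S' : X} (hR : Fx H R) (hR' : Fx H R') (hne : R ≠ R') (hS : Fx H S) (hS' : Fx H S')
    (hne' : S ≠ S') : ∃ g : G, g • R = S ∧ g • R' = S' ∧ Nz H g := by
  obtain ⟨g, h1, h2⟩ := D.trN hne (hH.nadj N hR hR') hne' (hH.nadj N hS hS')
  refine ⟨g, h1, h2, ?_⟩
  intro x
  have h3 := Dat.conj_L (D := D) (P := R) (Q := R') (x := x) g
  rw [h1, h2, hH.eq_L N hR hR' hne, hH.eq_L N hS hS' hne'] at h3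
  exact h3

theorem IsLine.tr1 [Finite X] {R S : X} (hR : Fx H R) (hS : Fx H S) : ∃ g : G, g • R = S ∧ Nz H g := by
  obtain ⟨R', h1, h2⟩ := hH.exists_ne R
  obtain ⟨S', h3, h4⟩ := hH.exists_ne S
  obtain ⟨g, h5, -, h6⟩ := hH.tr2 N hR h1 h2 hS h3 h4
  exact ⟨g, h5, h6⟩

/-- an element of the kernel of a point of the line which fixes another point of the line -/
theorem IsLine.mem_of_fix [Finite X] {R R' : X} (hR : Fx H R) (hR' : Fx H R') (hne : R ≠ R') {x : G} (hx : x ∈ D.K R)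
    (hx' : x • R' = R') : x ∈ H := by
  rw [← hH.eq_L N hR hR' hne]
  exact (N.mem_L).2 ⟨hx, hx'⟩

/-- the whole kernel does not fix the points of a line -/
theorem IsLine.not_le [Finite X] {R : X} (hR : Fx H R) : ∃ x ∈ D.K R, x ∉ H := by
  by_contra hcon
  push Not at hcon
  obtain ⟨R', h1, h2⟩ := hH.exists_ne R
  apply h2
  symm
  refine N.lemN (P := R) (Y := D.K R) le_rfl ?_ ?_ (fun y hy => h1 y (hcon y hy))
  · intro h
    obtain ⟨x, hx, hx1⟩ := N.exists_ne R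
    rw [h] at hx
    exact hx1 (mem_bot.1 hx)
  · intro g hg y hy
    exact D.conj_mem' hy hg

end

end Cfsg.Agent.H90.R3
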