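import Cfsg.Agent.H90.R3.Line
import Cfsg.Agent.H90.R3.EvenFree

/-!
# Rank three groups with a Frobenius suborbit: odd complement
-/

set_option autoImplicit false

namespace Cfsg.Agent.H90.R3

open Subgroup

variable {G X : Type*} [Group G] [MulAction G X] {D : Dat G X} {n k l f d : ℕ}

section

variable [Finite G] [Finite X] (N : Num D n k l f d)
include N

/-- divisibility of the number of elements of the kernel with a given property -/
theorem dvd_pred (P : X) (p : G → Prop) (hp : ∀ g x : G, g • P = P → p x → p (g * x * g⁻¹)) :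
    f ∣ Nat.card {x : G // x ∈ D.K P ∧ x ≠ 1 ∧ p x} := by
  obtain ⟨B, hB⟩ := D.exA P
  have h1 : Nat.card {x : G // x ∈ D.K P ∧ x ≠ 1 ∧ p x} =
      Nat.card {R : X // ∃ x ∈ D.K P, x ≠ 1 ∧ p x ∧ x • B = R} := by
    apply Nat.card_congr
    refine Equiv.ofBijective (fun x => ⟨x.1 • B, x.1, x.2.1, x.2.2.1, x.2.2.2, rfl⟩) ⟨?_, ?_⟩
    · intro x y hxy
      have h2 : x.1 • B = y.1 • B := congrArg Subtype.val hxy
      have h3 : (y.1⁻¹ * x.1) • B = B := by rw [mul_smul, h2, inv_smul_smul]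
      have h4 := D.K_free ((D.K P).mul_mem (inv_mem y.2.1) x.2.1) hB h3
      apply Subtype.ext
      exact (inv_mul_eq_one.1 h4).symm
    · rintro ⟨R, x, hx, hx1, hxc, rfl⟩
      exact ⟨⟨x, hx, hx1, hxc⟩, rfl⟩
  have h2 : Nat.card ↥(MulAction.stabilizer G P ⊓ MulAction.stabilizer G B) = f := by rw [← N.sA hB]; rfl
  rw [h1, ← h2]
  apply free_dvd
  · rintro e ⟨he1, he2⟩ R ⟨x, hx, hx1, hxc, rfl⟩
    have he1 : e • P = P := he1
    have he2 : e • B = B := he2
    refine ⟨e * x * e⁻¹, D.conj_mem' hx he1, ?_, hp e x he1 hxc, ?_⟩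
    · intro h
      apply hx1
      have : x = e⁻¹ * (e * x * e⁻¹) * e := by group
      rw [this, h]
      group
    · have : e⁻¹ • B = B := by rw [inv_smul_eq_iff, he2]
      rw [mul_smul, mul_smul, this]
  · rintro e ⟨he1, he2⟩ R ⟨x, hx, hx1, hxc, rfl⟩ heR
    have he1 : e • P = P := he1
    have he2 : e • B = B := he2
    have hne : B ≠ x • B := fun h => hx1 (D.K_free hx hB h.symm)
    refine D.free he1 hB he2 ?_ heR hne
    have := D.smul x hB
    rwa [D.K_le hx] at this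

end

section

variable [Finite G] [Finite X] (N : Num D n k l f d) (hf : ¬ Even f)
include N hf

theorem even_k : Even k := by
  have hne : Nonempty X := by
    have h1 := N.cX
    have h2 := N.sum
    exact (Nat.card_pos_iff.1 (by omega)).1
  obtain ⟨P⟩ := hne
  obtain ⟨Q, hQ⟩ := D.exA P
  rw [Nat.not_even_iff_odd] at hf
  by_contra hk
  rw [Nat.not_even_iff_odd] at hk
  have h1 : Odd (l * d) := by
    rw [← N.cS']
    exact hk.mul hf
  have h2 : Odd l := (Nat.odd_mul.1 h1).1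
  have h3 : Odd (Nat.card G) := by
    rw [N.cG, N.sum]
    refine Odd.mul ?_ (hk.mul hf)
    rw [Nat.odd_iff] at hk h2 ⊢
    omega
  obtain ⟨g, hg1, hg2⟩ := D.trA hQ (D.symm hQ)
  obtain ⟨m, hm⟩ := h3
  have h4 : ∀ a : ℕ, (g ^ (2 * a)) • P = P := by
    intro a
    induction a with
    | zero => simp
    | succ a ih =>
      have : g ^ (2 * (a + 1)) = g ^ (2 * a) * (g * g) := by
        rw [mul_add, pow_add, mul_one, pow_two g]
      rw [this, mul_smul, mul_smul, hg1, hg2, ih]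
  have h5 : (g ^ (2 * m + 1)) • P = P := by
    rw [← hm, pow_card_eq_one', one_smul]
  rw [add_comm, pow_add, pow_one, mul_smul, h4, hg1] at h5
  exact Dat.ne_of_adj hQ h5.symm

/-- involutions of the point stabilizer lie in the kernel -/
theorem inv_mem_K {P : X} {t : G} (ht : Inv G P t) : t ∈ D.K P := by
  refine N.mem_K_of_pow ht.2.2 (a := 2) ?_ (by rw [pow_two, ht.2.1])
  rw [Nat.coprime_two_left, ← Nat.not_even_iff_odd]
  exact hf

theorem odd_inv_dvd (P : X) : f ∣ Nat.card {t : G // Inv G P t} := by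
  have h := dvd_pred N P (fun x => x * x = 1) (by
    intro g x _ hx
    calc g * x * g⁻¹ * (g * x * g⁻¹) = g * (x * x) * g⁻¹ := by group
      _ = 1 := by rw [hx]; group)
  have e : Nat.card {t : G // Inv G P t} = Nat.card {x : G // x ∈ D.K P ∧ x ≠ 1 ∧ x * x = 1} := by
    refine Nat.card_congr (Equiv.subtypeEquivRight fun t => ?_)
    constructor
    · intro h
      exact ⟨inv_mem_K N hf h, h.1, h.2.1⟩
    · intro h
      exact ⟨h.2.1, h.2.2, D.K_le h.1⟩
  rw [e]
  exact h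

theorem odd_exists_inv (P : X) : ∃ t : G, Inv G P t := by
  obtain ⟨⟨t, ht1⟩, ht⟩ := exists_prime_orderOf_dvd_card' (G := D.K P) 2 (by rw [N.cK]; exact (even_k N hf).two_dvd)
  refine ⟨t, ?_, ?_, D.K_le ht1⟩
  · rintro rfl
    have h2 : (⟨1, ht1⟩ : D.K P) = 1 := rfl
    rw [h2, orderOf_one] at ht
    omega
  · have h3 : (⟨t, ht1⟩ : D.K P) ^ 2 = 1 := by
      rw [← ht, pow_orderOf_eq_one]
    rw [← pow_two]
    exact congrArg Subtype.val h3

end

/-- the number of involutions moving `P` to `Q` -/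
theorem card_move2 [Finite G] [Finite X] (N : Num D n k l f d) (P : X) (T : G → Prop)
    (hT : ∀ g t : G, T t → T (g * t * g⁻¹)) :
    ∃ ι ι' : ℕ, (∀ Q, D.Adj P Q → Nat.card {t : G // T t ∧ t • P = Q} = ι) ∧
      (∀ Q, P ≠ Q → ¬ D.Adj P Q → Nat.card {t : G // T t ∧ t • P = Q} = ι') ∧
      Nat.card {t : G // T t} = Nat.card {t : G // T t ∧ t • P = P} + k * ι + l * ι' := by
  obtain ⟨B, hB⟩ := D.exA P
  obtain ⟨C, hC1, hC2⟩ := D.exN P
  have hconj : ∀ (g : G) (Q : X), g • P = P → Nat.card {t : G // T t ∧ t • P = g • Q} =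
      Nat.card {t : G // T t ∧ t • P = Q} := by
    intro g Q hg
    have hg' : g⁻¹ • P = P := by rw [inv_smul_eq_iff, hg]
    refine Nat.card_congr ⟨fun t => ⟨g⁻¹ * t.1 * g, ?_, ?_⟩, fun t => ⟨g * t.1 * g⁻¹, ?_, ?_⟩, ?_, ?_⟩
    · have := hT g⁻¹ _ t.2.1
      rwa [inv_inv] at this
    · rw [mul_smul, mul_smul, hg, t.2.2, inv_smul_smul]
    · exact hT g _ t.2.1
    · rw [mul_smul, mul_smul, hg', t.2.2]
    · intro t; apply Subtype.ext; simp [mul_assoc]
    · intro t; apply Subtype.ext; simp [mul_assoc]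
  have hA : ∀ Q, D.Adj P Q → Nat.card {t : G // T t ∧ t • P = Q} = Nat.card {t : G // T t ∧ t • P = B} := by
    intro Q hQ
    obtain ⟨g, hg1, rfl⟩ := D.trA hB hQ
    exact hconj g B hg1
  have hN : ∀ Q, P ≠ Q → ¬ D.Adj P Q → Nat.card {t : G // T t ∧ t • P = Q} = Nat.card {t : G // T t ∧ t • P = C} := by
    intro Q hQ1 hQ2
    obtain ⟨g, hg1, rfl⟩ := D.trN hC1 hC2 hQ1 hQ2
    exact hconj g C hg1
  refine ⟨Nat.card {t : G // T t ∧ t • P = B}, Nat.card {t : G // T t ∧ t • P = C}, hA, hN, ?_⟩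
  rw [card_split (fun t : G => T t) (fun t => D.Adj P (t • P)),
    card_split (fun t : G => T t ∧ ¬ D.Adj P (t • P)) (fun t => t • P = P)]
  have e1 : Nat.card {t : G // T t ∧ D.Adj P (t • P)} = k * Nat.card {t : G // T t ∧ t • P = B} := by
    have h := dc (α := {t : G // T t ∧ D.Adj P (t • P)}) (β := {Q // D.Adj P Q})
      (fun t Q => t.1 • P = Q.1) (x := 1) (y := Nat.card {t : G // T t ∧ t • P = B}) ?_ ?_
    · rw [mul_one] at h
      rw [h, N.cA]
    · rintro ⟨t, ht1, ht2⟩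
      rw [Nat.card_eq_one_iff_unique]
      refine ⟨⟨fun a b => Subtype.ext (Subtype.ext (a.2.symm.trans b.2))⟩, ⟨⟨⟨t • P, ht2⟩, rfl⟩⟩⟩
    · rintro ⟨Q, hQ⟩
      rw [← hA Q hQ]
      exact Nat.card_congr ⟨fun t => ⟨t.1.1, t.1.2.1, t.2⟩, fun t => ⟨⟨t.1, t.2.1, by rw [t.2.2]; exact hQ⟩, t.2.2⟩,
        fun t => rfl, fun t => rfl⟩
  have e2 : Nat.card {t : G // (T t ∧ ¬ D.Adj P (t • P)) ∧ t • P = P} = Nat.card {t : G // T t ∧ t • P = P} := by
    refine Nat.card_congr (Equiv.subtypeEquivRight fun t => ?_)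
    constructor
    · rintro ⟨⟨h1, -⟩, h⟩
      exact ⟨h1, h⟩
    · rintro ⟨h1, h⟩
      exact ⟨⟨h1, by rw [h]; exact D.irr P⟩, h⟩
  have e3 : Nat.card {t : G // (T t ∧ ¬ D.Adj P (t • P)) ∧ ¬ t • P = P} = l * Nat.card {t : G // T t ∧ t • P = C} := by
    have h := dc (α := {t : G // (T t ∧ ¬ D.Adj P (t • P)) ∧ ¬ t • P = P})
      (β := {Q // P ≠ Q ∧ ¬ D.Adj P Q})
      (fun t Q => t.1 • P = Q.1) (x := 1) (y := Nat.card {t : G // T t ∧ t • P = C}) ?_ ?_
    · rw [mul_one] at h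
      rw [h, N.cN]
    · rintro ⟨t, ⟨ht1, ht2⟩, ht3⟩
      rw [Nat.card_eq_one_iff_unique]
      refine ⟨⟨fun a b => Subtype.ext (Subtype.ext (a.2.symm.trans b.2))⟩,
        ⟨⟨⟨t • P, fun h => ht3 h.symm, ht2⟩, rfl⟩⟩⟩
    · rintro ⟨Q, hQ1, hQ2⟩
      rw [← hN Q hQ1 hQ2]
      exact Nat.card_congr ⟨fun t => ⟨t.1.1, t.1.2.1.1, t.2⟩,
        fun t => ⟨⟨t.1, ⟨t.2.1, by rw [t.2.2]; exact hQ2⟩, fun h => hQ1 (h.symm.trans t.2.2)⟩, t.2.2⟩,
        fun t => rfl, fun t => rfl⟩
  rw [e1, e2, e3]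
  ring

section

variable [Finite G] [Finite X] (N : Num D n k l f d) (hf : ¬ Even f)
  (hD : ∀ {P Q : X} {x : G}, x ∈ D.K P → x • Q = Q → P ≠ Q → x = 1)
include N hf hD

theorem odd_free : False := by
  have hne : Nonempty X := by
    have h1 := N.cX
    have h2 := N.sum
    exact (Nat.card_pos_iff.1 (by omega)).1
  obtain ⟨P⟩ := hne
  obtain ⟨B, hB⟩ := D.exA P
  obtain ⟨C, hC1, hC2⟩ := D.exN P
  obtain ⟨g, hg, hfg, hg1⟩ := exists_g N hD
  obtain ⟨κ, hκ⟩ : ∃ κ, Nat.card {t : G // Inv G P t} = κ := ⟨_, rfl⟩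
  have hκR : ∀ R : X, Nat.card {t : G // Inv G R t} = κ := by
    intro R
    obtain ⟨u, rfl⟩ := D.tr P R
    rw [← hκ]
    refine (Nat.card_congr ((MulAut.conj u).toEquiv.subtypeEquiv ?_)).symm
    intro t
    show Inv G P t ↔ Inv G (u • P) (u * t * u⁻¹)
    constructor
    · exact fun h => h.conj u
    · intro h
      have := h.conj u⁻¹
      rw [inv_smul_smul] at this
      have e : u⁻¹ * (u * t * u⁻¹) * u⁻¹⁻¹ = t := by group
      rwa [e] at this
  have hκf : f ≤ κ := by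
    rw [← hκ]
    obtain ⟨t, ht⟩ := odd_exists_inv N hf P
    have : Nonempty {t : G // Inv G P t} := ⟨⟨t, ht⟩⟩
    exact Nat.le_of_dvd Nat.card_pos (odd_inv_dvd N hf P)
  obtain ⟨ι, ι', h1, h2, h3⟩ := card_move2 N P (fun t => ∃ R : X, Inv G R t) (by
    rintro g t ⟨R, hR⟩
    exact ⟨_, hR.conj g⟩)
  -- the number of involutions
  have h4 : Nat.card {t : G // ∃ R : X, Inv G R t} = n * κ := by
    have h := dc (α := {t : G // ∃ R : X, Inv G R t}) (β := X) (fun t R => t.1 • R = R) (x := 1) (y := κ) ?_ ?_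
    · rw [mul_one, N.cX] at h
      exact h
    · rintro ⟨t, R, hR⟩
      rw [Nat.card_eq_one_iff_unique]
      refine ⟨⟨?_⟩, ⟨⟨R, hR.2.2⟩⟩⟩
      rintro ⟨a, ha⟩ ⟨b, hb⟩
      have ha : t • a = a := ha
      have hb : t • b = b := hb
      apply Subtype.ext
      show a = b
      by_contra hab
      exact hR.1 (hD (inv_mem_K N hf ⟨hR.1, hR.2.1, ha⟩) hb hab)
    · intro Q
      rw [← hκR Q]
      exact Nat.card_congr ⟨fun t => ⟨t.1.1, by obtain ⟨⟨t, P, ht⟩, h⟩ := t; exact ⟨ht.1, ht.2.1, h⟩⟩,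
        fun t => ⟨⟨t.1, Q, t.2⟩, t.2.2.2⟩, fun t => rfl, fun t => rfl⟩
  have h5 : Nat.card {t : G // (∃ R : X, Inv G R t) ∧ t • P = P} = κ := by
    rw [← hκ]
    refine Nat.card_congr (Equiv.subtypeEquivRight fun t => ?_)
    constructor
    · rintro ⟨⟨R, hR⟩, h⟩
      exact ⟨hR.1, hR.2.1, h⟩
    · intro h
      exact ⟨⟨P, h⟩, h.2.2⟩
  rw [h4, h5, hg, N.sum, hg] at h3
  have hk := N.k2
  have h6 : (1 + g) * κ = ι + g * ι' := by
    have : k * ((1 + g) * κ) = k * (ι + g * ι') := by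
      have e1 : (1 + k + k * g) * κ = κ + k * ((1 + g) * κ) := by ring
      have e2 : κ + k * ι + k * g * ι' = κ + k * (ι + g * ι') := by ring
      omega
    exact Nat.eq_of_mul_eq_mul_left (by omega) this
  have hbd : ∀ {Q : X} {c : ℕ}, (∃ g : G, g • P = Q ∧ g • Q = P) → Nat.card {g : G // g • P = P ∧ g • Q = Q} = c →
      Nat.card {t : G // (∃ R : X, Inv G R t) ∧ t • P = Q} ≤ c := by
    rintro Q c ⟨g, h1, h2⟩ hc
    rw [← hc, ← coset2 h1 h2]
    refine Nat.card_le_card_of_injective (fun t : {t : G // (∃ R : X, Inv G R t) ∧ t • P = Q} =>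
      (⟨t.1, t.2.2, ?_⟩ : {g : G // g • P = Q ∧ g • Q = P})) ?_
    · obtain ⟨⟨R, hR⟩, ht⟩ := t.2
      calc t.1 • Q = t.1 • (t.1 • P) := by rw [ht]
        _ = P := by rw [← mul_smul, hR.2.1, one_smul]
    · intro a b hab
      have h3 := congrArg Subtype.val hab
      exact Subtype.ext h3
  have hι : ι ≤ f := by
    rw [← h1 B hB]
    exact hbd (D.trA hB (D.symm hB)) (N.sA hB)
  have hι' : ι' ≤ d := by
    rw [← h2 C hC1 hC2]
    exact hbd (D.trN hC1 hC2 hC1.symm (fun h => hC2 (D.symm h))) (N.sN hC1 hC2)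
  have hf2 := N.f2
  have hg1' : g = 1 := by
    by_contra hne
    have h7 : 2 ≤ g := by omega
    have h8 : g * ι' ≤ f := by rw [hfg]; exact Nat.mul_le_mul_left _ hι'
    have h9 : 3 * f ≤ (1 + g) * κ := by
      calc 3 * f ≤ (1 + g) * f := Nat.mul_le_mul_right _ (by omega)
        _ ≤ _ := Nat.mul_le_mul_left _ hκf
    omega
  subst hg1'
  rw [one_mul] at hfg
  have hι'f : ι' = f := by omega
  -- every element interchanging `P` and `C` is an involution
  have hall : ∀ g : G, g • P = C → g • C = P → g * g = 1 := by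
    intro g hg1 hg2
    have hfin : Finite {t : G // t • P = C ∧ t • C = P} := inferInstance
    let φ : {t : G // (∃ R : X, Inv G R t) ∧ t • P = C} → {t : G // t • P = C ∧ t • C = P} := fun t =>
      ⟨t.1, t.2.2, by
        obtain ⟨⟨R, hR⟩, ht⟩ := t.2
        calc t.1 • C = t.1 • (t.1 • P) := by rw [ht]
          _ = P := by rw [← mul_smul, hR.2.1, one_smul]⟩
    have hinj : Function.Injective φ := fun a b hab => Subtype.ext (by have h := congrArg Subtype.val hab; exact h)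
    have hcard : Nat.card {t : G // (∃ R : X, Inv G R t) ∧ t • P = C} = Nat.card {t : G // t • P = C ∧ t • C = P} := by
      rw [h2 C hC1 hC2, hι'f, coset2 hg1 hg2, N.sN hC1 hC2, hfg]
    have hbij : Function.Bijective φ := (Nat.bijective_iff_injective_and_card φ).2 ⟨hinj, hcard⟩
    obtain ⟨⟨t, ⟨R, hR⟩, ht⟩, hφ⟩ := hbij.2 ⟨g, hg1, hg2⟩
    have h7 : t = g := congrArg Subtype.val hφ
    rw [← h7]
    exact hR.2.1
  obtain ⟨t, ht1, ht2⟩ := D.trN hC1 hC2 hC1.symm (fun h => hC2 (D.symm h))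
  have htt := hall t ht1 ht2
  -- `t` inverts the stabilizer of `P` and `C`
  have hinv : ∀ e : G, e • P = P → e • C = C → t * e * t = e⁻¹ := by
    intro e he1 he2
    have h7 := hall (t * e) (by rw [mul_smul, he1, ht1]) (by rw [mul_smul, he2, ht2])
    rw [eq_inv_iff_mul_eq_one]
    calc t * e * t * e = t * e * (t * e) := by group
      _ = 1 := h7
  have hcomm : ∀ a b : G, a • P = P → a • C = C → b • P = P → b • C = C → a * b = b * a := by
    intro a b ha1 ha2 hb1 hb2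
    have h7 := hinv (a * b) (by rw [mul_smul, hb1, ha1]) (by rw [mul_smul, hb2, ha2])
    have h8 : t * (a * b) * t = (t * a * t) * (t * b * t) := by
      calc t * (a * b) * t = t * a * (1 * b) * t := by group
        _ = t * a * (t * t * b) * t := by rw [htt]
        _ = _ := by group
    rw [h7, hinv a ha1 ha2, hinv b hb1 hb2] at h8
    have h9 := congrArg (fun z => z⁻¹) h8
    simpa using h9
  -- the stabilizer of `P` and `C` fixes a neighbour of `P`
  have hcd : Nat.card ↥(MulAction.stabilizer G P ⊓ MulAction.stabilizer G C) = f := by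
    rw [hfg, ← N.sN hC1 hC2]
    rfl
  have hnt : Nontrivial ↥(MulAction.stabilizer G P ⊓ MulAction.stabilizer G C) := by
    apply Finite.one_lt_card_iff_nontrivial.1
    omega
  obtain ⟨⟨a, ha1, ha2⟩, ha⟩ := exists_ne (1 : ↥(MulAction.stabilizer G P ⊓ MulAction.stabilizer G C))
  have ha1 : a • P = P := ha1
  have ha2 : a • C = C := ha2
  have ha : a ≠ 1 := fun h => ha (Subtype.ext h)
  have haK : a ∉ D.K P := fun h => ha (hD h ha2 hC1)
  obtain ⟨Q, hQ, hQall⟩ : ∃ Q, D.Adj P Q ∧ ∀ e : G, e • P = P → e • C = C → e • Q = Q := by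
    have h7 := haK
    rw [D.mem_K] at h7
    push Not at h7
    obtain ⟨-, Q, hQ1, hQ2⟩ := h7 ha1
    refine ⟨Q, hQ1, ?_⟩
    intro e he1 he2
    by_contra hne
    apply ha
    refine D.free ha1 hQ1 hQ2 (Q' := e • Q) ?_ ?_ (fun h => hne h.symm)
    · have := D.smul e hQ1
      rwa [he1] at this
    · rw [← mul_smul, hcomm a e ha1 ha2 he1 he2, mul_smul, hQ2]
  -- the two stabilizers coincide
  have heq : MulAction.stabilizer G P ⊓ MulAction.stabilizer G C = MulAction.stabilizer G P ⊓ MulAction.stabilizer G Q := by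
    apply Subgroup.eq_of_le_of_card_ge
    · rintro e ⟨he1, he2⟩
      exact ⟨he1, hQall e he1 he2⟩
    · rw [hcd]
      have : Nat.card ↥(MulAction.stabilizer G P ⊓ MulAction.stabilizer G Q) = f := by rw [← N.sA hQ]; rfl
      rw [this]
  have hmem : ∀ e : G, (e • P = P ∧ e • C = C) ↔ (e • P = P ∧ e • Q = Q) := by
    intro e
    have := congrArg (fun S : Subgroup G => e ∈ S) heq
    simp only [Subgroup.mem_inf, MulAction.mem_stabilizer_iff, eq_iff_iff] at this
    exact this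
  -- the fixed points
  have hfixQ : ∀ R, D.Adj P R → (∀ e : G, e • P = P → e • C = C → e • R = R) → R = Q := by
    intro R hR1 hR2
    by_contra hne
    exact ha (D.free ha1 hR1 (hR2 a ha1 ha2) hQ (hQall a ha1 ha2) hne)
  have hfixC : ∀ R, P ≠ R → ¬ D.Adj P R → (∀ e : G, e • P = P → e • C = C → e • R = R) → R = C := by
    intro R hR1 hR2 hR3
    obtain ⟨x, hx, rfl⟩ : ∃ x ∈ D.K P, x • C = R := by
      have hbij : Function.Bijective (fun x : D.K P => (⟨x.1 • C, fun h => hC1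
          (smul_left_cancel x.1 ((D.K_le x.2).trans h)), fun h => hC2 (by
          rw [← D.adj_smul_iff x.1, D.K_le x.2]; exact h)⟩ : {Q // P ≠ Q ∧ ¬ D.Adj P Q})) := by
        rw [Nat.bijective_iff_injective_and_card]
        refine ⟨?_, ?_⟩
        · intro x y hxy
          have h8 : x.1 • C = y.1 • C := congrArg Subtype.val hxy
          have h9 : (y.1⁻¹ * x.1) • C = C := by rw [mul_smul, h8, inv_smul_smul]
          exact Subtype.ext (inv_mul_eq_one.1 (hD ((D.K P).mul_mem (inv_mem y.2) x.2) h9 hC1)).symm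
        · rw [N.cK, N.cN, hg, mul_one]
      obtain ⟨x, hx⟩ := hbij.2 ⟨R, hR1, hR2⟩
      exact ⟨x.1, x.2, congrArg Subtype.val hx⟩
    by_contra hne
    have hx1 : x ≠ 1 := by
      rintro rfl
      exact hne (one_smul _ _)
    apply haK
    refine D.comm_mem hx hx1 ha1 ?_
    have h7 := hR3 a ha1 ha2
    have ha2' : a⁻¹ • C = C := by rw [inv_smul_eq_iff, ha2]
    have h8 : (x⁻¹ * (a * x * a⁻¹)) • C = C := by
      rw [mul_smul, mul_smul, mul_smul, ha2', h7, inv_smul_smul]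
    have h9 := hD ((D.K P).mul_mem (inv_mem hx) (D.conj_mem' hx ha1)) h8 hC1
    rw [inv_mul_eq_one] at h9
    rw [h9]
    nth_rw 2 [h9]
    rw [inv_mul_cancel_right]
  have hall3 : ∀ R, (∀ e : G, e • P = P → e • C = C → e • R = R) → R = P ∨ R = Q ∨ R = C := by
    intro R hR
    by_cases h1 : P = R
    · exact Or.inl h1.symm
    · by_cases h2 : D.Adj P R
      · exact Or.inr (Or.inl (hfixQ R h2 hR))
      · exact Or.inr (Or.inr (hfixC R h1 h2 hR))
  have hQC : Q ≠ C := by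
    rintro rfl
    exact hC2 hQ
  have hPQ := Dat.ne_of_adj hQ
  -- `t` fixes `Q`
  have htQ : t • Q = Q := by
    have h7 : ∀ e : G, e • P = P → e • C = C → e • (t • Q) = t • Q := by
      intro e he1 he2
      have h8 := hQall (t⁻¹ * e * t) (by rw [mul_smul, mul_smul, ht1, he2, ← ht1, inv_smul_smul])
        (by rw [mul_smul, mul_smul, ht2, he1, ← ht2, inv_smul_smul])
      rw [mul_smul, mul_smul, inv_smul_eq_iff] at h8
      exact h8
    rcases hall3 _ h7 with h | h | h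
    · exact absurd (smul_left_cancel t (h.trans ht2.symm)) hQC
    · exact h
    · exact absurd (smul_left_cancel t (h.trans ht1.symm)).symm hPQ
  have hCQ : D.Adj C Q := by
    have := D.smul t hQ
    rwa [ht1, htQ] at this
  obtain ⟨s, hs1, hs2⟩ := D.trA hQ (D.symm hQ)
  have hsC : s • C = C := by
    have h7 : ∀ e : G, e • P = P → e • C = C → e • (s • C) = s • C := by
      intro e he1 he2
      obtain ⟨-, he3⟩ := (hmem e).1 ⟨he1, he2⟩
      have h8 := ((hmem (s⁻¹ * e * s)).2 ⟨by rw [mul_smul, mul_smul, hs1, he3, ← hs1, inv_smul_smul],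
        by rw [mul_smul, mul_smul, hs2, he1, ← hs2, inv_smul_smul]⟩).2
      rw [mul_smul, mul_smul, inv_smul_eq_iff] at h8
      exact h8
    rcases hall3 _ h7 with h | h | h
    · exact absurd (smul_left_cancel s (h.trans hs2.symm)).symm hQC
    · exact absurd (smul_left_cancel s (h.trans hs1.symm)).symm hC1
    · exact h
  have h7 := D.smul s hCQ
  rw [hsC, hs2] at h7
  exact hC2 (D.symm h7)

end

end Cfsg.Agent.H90.R3
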