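import Cfsg.Agent.H90.R3.Odd
import Cfsg.Agent.OddOrderLocal.CNNil

/-!
# Rank three groups with a Frobenius suborbit: odd complement, lines
-/

set_option autoImplicit false

namespace Cfsg.Agent.H90.R3

open Subgroup

/-- double counting, inequality -/
theorem dc_le {α β : Type*} [Finite α] [Finite β] (r : α → β → Prop) {x y : ℕ}
    (h1 : ∀ a, Nat.card {b // r a b} = x) (h2 : ∀ b, Nat.card {a // r a b} ≤ y) :
    Nat.card α * x ≤ Nat.card β * y := by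
  have e1 : Nat.card (Σ a : α, {b // r a b}) = Nat.card α * x := by
    have := Fintype.ofFinite α
    rw [Nat.card_sigma, Finset.sum_congr rfl (fun a _ => h1 a), Finset.sum_const, Finset.card_univ,
      smul_eq_mul, Nat.card_eq_fintype_card]
  have e2 : Nat.card (Σ b : β, {a // r a b}) ≤ Nat.card β * y := by
    have := Fintype.ofFinite β
    rw [Nat.card_sigma, Nat.card_eq_fintype_card, ← Finset.card_univ, ← smul_eq_mul]
    exact Finset.sum_le_card_nsmul _ _ _ (fun b _ => h2 b)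
  rw [← e1]
  refine le_trans (le_of_eq (Nat.card_congr ⟨fun p => ⟨p.2.1, p.1, p.2.2⟩, fun p => ⟨p.2.1, p.1, p.2.2⟩, ?_, ?_⟩)) e2
  · rintro ⟨a, b, h⟩; rfl
  · rintro ⟨a, b, h⟩; rfl

variable {G X : Type*} [Group G] [MulAction G X] {D : Dat G X} {n k l f d : ℕ}

/-- the elements of order at most two of the centre of the kernel -/
def Dat.Z (D : Dat G X) (P : X) : Subgroup G where
  carrier := {z | z ∈ D.K P ∧ z * z = 1 ∧ ∀ y ∈ D.K P, z * y = y * z}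
  mul_mem' := by
    rintro a b ⟨ha1, ha2, ha3⟩ ⟨hb1, hb2, hb3⟩
    refine ⟨mul_mem ha1 hb1, ?_, ?_⟩
    · calc a * b * (a * b) = a * (b * a) * b := by group
        _ = a * (a * b) * b := by rw [ha3 b hb1]
        _ = (a * a) * (b * b) := by group
        _ = 1 := by rw [ha2, hb2, one_mul]
    · intro y hy
      rw [mul_assoc, hb3 y hy, ← mul_assoc, ha3 y hy, mul_assoc]
  one_mem' := ⟨one_mem _, one_mul _, fun y _ => by rw [one_mul, mul_one]⟩
  inv_mem' := by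
    rintro a ⟨ha1, ha2, ha3⟩
    rw [show a⁻¹ = a from inv_eq_of_mul_eq_one_left ha2]
    exact ⟨ha1, ha2, ha3⟩

theorem Dat.mem_Z {P : X} {z : G} : z ∈ D.Z P ↔ z ∈ D.K P ∧ z * z = 1 ∧ ∀ y ∈ D.K P, z * y = y * z := Iff.rfl

theorem Dat.conj_mem_Z {P : X} {z : G} (hz : z ∈ D.Z P) (g : G) : g * z * g⁻¹ ∈ D.Z (g • P) := by
  obtain ⟨h1, h2, h3⟩ := hz
  refine ⟨D.conj_mem h1 g, ?_, ?_⟩
  · calc g * z * g⁻¹ * (g * z * g⁻¹) = g * (z * z) * g⁻¹ := by group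
      _ = 1 := by rw [h2]; group
  · intro y hy
    have h4 := D.conj_mem hy g⁻¹
    rw [inv_smul_smul] at h4
    have h5 := h3 _ h4
    calc g * z * g⁻¹ * y = g * (z * (g⁻¹ * y * g⁻¹⁻¹)) * g⁻¹ := by group
      _ = y * (g * z * g⁻¹) := by rw [h5]; group

theorem Dat.conj_Z {P : X} {z : G} (g : G) : g * z * g⁻¹ ∈ D.Z (g • P) ↔ z ∈ D.Z P := by
  constructor
  · intro h
    have := Dat.conj_mem_Z h g⁻¹
    rw [inv_smul_smul] at this
    have e : g⁻¹ * (g * z * g⁻¹) * g⁻¹⁻¹ = z := by group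
    rwa [e] at this
  · exact fun h => Dat.conj_mem_Z h g

theorem Dat.conj_Z' {P : X} {z g : G} (hg : g • P = P) (hz : z ∈ D.Z P) : g * z * g⁻¹ ∈ D.Z P := by
  have := Dat.conj_mem_Z hz g
  rwa [hg] at this

/-- the common part for two points -/
def Dat.W (D : Dat G X) (P Q : X) : Subgroup G := D.Z P ⊓ D.Z Q

theorem Dat.W_comm (D : Dat G X) (P Q : X) : D.W P Q = D.W Q P := inf_comm _ _

section

variable [Finite G] [Finite X] (N : Num D n k l f d) (hf : ¬ Even f)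
include N hf

theorem exists_Z (P : X) : ∃ z ∈ D.Z P, z ≠ 1 := by
  obtain ⟨z, hz, ho, hc⟩ := Cfsg.Agent.OddOrderLocal.CNNil.exists_central_orderOf_subgroup (D.nilp P) Nat.prime_two
    (by rw [N.cK]; exact (even_k N hf).two_dvd)
  refine ⟨z, ⟨hz, ?_, ?_⟩, ?_⟩
  · rw [← pow_two, ← ho, pow_orderOf_eq_one]
  · intro y hy
    exact (hc y hy).symm.eq
  · rintro rfl
    rw [orderOf_one] at ho
    omega

theorem Z_fix {P R : X} (h : ∀ z ∈ D.Z P, z • R = R) : R = P := by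
  refine N.lemN (P := P) (Y := D.Z P) (fun z hz => hz.1) ?_ ?_ h
  · intro h1
    obtain ⟨z, hz, hz1⟩ := exists_Z N hf P
    rw [h1] at hz
    exact hz1 (mem_bot.1 hz)
  · intro g hg y hy
    exact Dat.conj_Z' hg hy

/-- the centralizer of `H` is transitive on the points of the line -/
theorem line_C {H : Subgroup G} (hH : IsLine D H) {R S : X} (hR : Fx H R) (hS : Fx H S) :
    ∃ c : G, c • R = S ∧ ∀ x ∈ H, c * x = x * c := by
  by_cases hRS : R = S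
  · exact ⟨1, by rw [one_smul, hRS], fun x _ => by rw [one_mul, mul_one]⟩
  · obtain ⟨z, hz, hzR⟩ : ∃ z ∈ D.Z S, z • R ≠ R := by
      by_contra hcon
      push Not at hcon
      exact hRS (Z_fix N hf hcon)
    have hzc : ∀ x ∈ H, z * x = x * z := fun x hx => hz.2.2 x (hH.le_K N hS hx)
    have hzR' : Fx H (z • R) := by
      intro x hx
      rw [← mul_smul, ← hzc x hx, mul_smul, hR x hx]
    obtain ⟨g, hg1, hg2, hg3⟩ := hH.tr2 N hR hzR' (fun h => hzR h.symm) hR hS hRS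
    refine ⟨g * z * g⁻¹, ?_, ?_⟩
    · have : g⁻¹ • R = R := by rw [inv_smul_eq_iff, hg1]
      rw [mul_smul, mul_smul, this, hg2]
    · intro x hx
      have h1 : g⁻¹ * x * g ∈ H := by
        have := (hg3.inv x).2 hx
        rwa [inv_inv] at this
      have h2 := hzc _ h1
      calc g * z * g⁻¹ * x = g * (z * (g⁻¹ * x * g)) * g⁻¹ := by group
        _ = x * (g * z * g⁻¹) := by rw [h2]; group

/-- **Claim A** -/
theorem claimA {P Q : X} {z : G} (hz : z ∈ D.Z P) (hzQ : z • Q = Q) : z ∈ D.Z Q := by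
  by_cases hz1 : z = 1
  · rw [hz1]
    exact one_mem _
  by_cases hPQ : P = Q
  · rwa [← hPQ]
  have hadj := N.clique hz.1 hz1 (D.K_le hz.1) hzQ
  have hzL : z ∈ D.L P Q := (N.mem_L).2 ⟨hz.1, hzQ⟩
  have hH : IsLine D (D.L P Q) := ⟨fun h => hz1 (by rw [h] at hzL; exact mem_bot.1 hzL), P, Q, hPQ, hadj, rfl⟩
  obtain ⟨c, hc1, hc2⟩ := line_C N hf hH (R := P) (S := Q) (fun x hx => D.K_le hx.1) (fun x hx => D.K_le hx.2)
  have h1 := Dat.conj_mem_Z hz c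
  rw [hc1, hc2 z hzL, mul_inv_cancel_right] at h1
  exact h1

theorem mem_W {P Q : X} {z : G} : z ∈ D.W P Q ↔ z ∈ D.Z P ∧ z • Q = Q :=
  ⟨fun h => ⟨h.1, D.K_le h.2.1⟩, fun h => ⟨h.1, claimA N hf h.1 h.2⟩⟩

omit hf in
theorem card_Z_eq (P Q : X) : Nat.card (D.Z P) = Nat.card (D.Z Q) := by
  obtain ⟨g, rfl⟩ := D.tr P Q
  refine Nat.card_congr ((MulAut.conj g).toEquiv.subtypeEquiv ?_)
  intro x
  exact (Dat.conj_Z g).symm

/-- **Claim B** -/
theorem claimB_le {P Q : X} (hPQ : P ≠ Q) (hadj : ¬ D.Adj P Q) (hne : D.L P Q ≠ ⊥) :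
    Nat.card (D.Z P) ≤ 2 * Nat.card (D.W P Q) := by
  set H := D.L P Q with hHdef
  have hH : IsLine D H := ⟨hne, P, Q, hPQ, hadj, rfl⟩
  have hP : Fx H P := fun x hx => D.K_le hx.1
  have hQ : Fx H Q := fun x hx => D.K_le hx.2
  have hWH : D.W P Q = D.Z P ⊓ H := by
    ext z
    rw [mem_W N hf]
    constructor
    · rintro ⟨h1, h2⟩
      exact ⟨h1, (N.mem_L).2 ⟨h1.1, h2⟩⟩
    · rintro ⟨h1, h2⟩
      exact ⟨h1, hQ z h2⟩
  have hWR : ∀ R : X, Fx H R → D.Z R ⊓ H = D.Z P ⊓ H := by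
    intro R hR
    ext z
    constructor
    · rintro ⟨h1, h2⟩
      exact ⟨claimA N hf h1 (hP z h2), h2⟩
    · rintro ⟨h1, h2⟩
      exact ⟨claimA N hf h1 (hR z h2), h2⟩
  obtain ⟨w, hw⟩ : ∃ w, Nat.card (D.W P Q) = w := ⟨_, rfl⟩
  obtain ⟨z₀, hz₀⟩ : ∃ z₀, Nat.card (D.Z P) = z₀ := ⟨_, rfl⟩
  have hdiff : ∀ R : X, Fx H R → Nat.card {t : G // t ∈ D.Z R ∧ t ∉ H} = z₀ - w := by
    intro R hR
    have h1 := card_split (fun t : G => t ∈ D.Z R) (fun t => t ∈ H)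
    have h2 : Nat.card {t : G // t ∈ D.Z R} = z₀ := by rw [← hz₀, card_Z_eq N P R]
    have h3 : Nat.card {t : G // t ∈ D.Z R ∧ t ∈ H} = w := by
      rw [← hw, hWH, ← hWR R hR]
      rfl
    omega
  have hmemH : ∀ {R R' : X} {t : G}, Fx H R → Fx H R' → t ∈ D.Z R → t ∉ H → t • R' = R' → R = R' := by
    intro R R' t hR hR' ht htH h
    by_contra hne'
    exact htH (hH.mem_of_fix N hR hR' hne' ht.1 h)
  set lam := Nat.card {R : X // Fx H R} with hlam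
  have hlam1 : lam = Nat.card {R : X // Fx H R ∧ P ≠ R} + 1 := card_erase (fun R => Fx H R) hP
  have hlam2 : 1 ≤ Nat.card {R : X // Fx H R ∧ P ≠ R} := by
    have : Nonempty {R : X // Fx H R ∧ P ≠ R} := ⟨⟨Q, hQ, hPQ⟩⟩
    exact Nat.card_pos
  have c1 : Nat.card {t : G // ∃ R : X, Fx H R ∧ t ∈ D.Z R ∧ t ∉ H} * 1 = lam * (z₀ - w) := by
    refine dc (α := {t : G // ∃ R : X, Fx H R ∧ t ∈ D.Z R ∧ t ∉ H}) (β := {R : X // Fx H R})
      (fun t R => t.1 • R.1 = R.1) ?_ ?_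
    · rintro ⟨t, R, hR, ht, htH⟩
      rw [Nat.card_eq_one_iff_unique]
      refine ⟨⟨fun a b => Subtype.ext (Subtype.ext ?_)⟩, ⟨⟨⟨R, hR⟩, D.K_le ht.1⟩⟩⟩
      exact (hmemH hR a.1.2 ht htH a.2).symm.trans (hmemH hR b.1.2 ht htH b.2)
    · rintro ⟨R, hR⟩
      rw [← hdiff R hR]
      refine Nat.card_congr ⟨fun t => ⟨t.1.1, ?_⟩, fun t => ⟨⟨t.1, R, hR, t.2⟩, D.K_le t.2.1.1⟩, fun t => rfl, fun t => rfl⟩
      obtain ⟨⟨t, S, hS, ht, htH⟩, h⟩ := t
      have h3 := hmemH hS hR ht htH h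
      subst h3
      exact ⟨ht, htH⟩
  have c2 : Nat.card {t : G // (∃ R : X, Fx H R ∧ t ∈ D.Z R ∧ t ∉ H) ∧ t • P = P} = z₀ - w := by
    rw [← hdiff P hP]
    refine Nat.card_congr (Equiv.subtypeEquivRight fun t => ?_)
    constructor
    · rintro ⟨⟨R, hR, ht, htH⟩, h⟩
      have h3 := hmemH hR hP ht htH h
      subst h3
      exact ⟨ht, htH⟩
    · intro h
      exact ⟨⟨P, hP, h⟩, D.K_le h.1.1⟩
  have c3 : Nat.card {t : G // (∃ R : X, Fx H R ∧ t ∈ D.Z R ∧ t ∉ H) ∧ ¬ t • P = P} * 1 ≤ (lam - 1) * w := by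
    have hl' : lam - 1 = Nat.card {R : X // Fx H R ∧ P ≠ R} := by omega
    rw [hl']
    refine dc_le (α := {t : G // (∃ R : X, Fx H R ∧ t ∈ D.Z R ∧ t ∉ H) ∧ ¬ t • P = P}) (β := {R : X // Fx H R ∧ P ≠ R})
      (fun t R => t.1 • P = R.1) ?_ ?_
    · rintro ⟨t, ⟨S, hS, ht, htH⟩, h⟩
      rw [Nat.card_eq_one_iff_unique]
      refine ⟨⟨fun a b => Subtype.ext (Subtype.ext (a.2.symm.trans b.2))⟩, ⟨⟨⟨t • P, ?_, fun h' => h h'.symm⟩, rfl⟩⟩⟩
      intro x hx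
      rw [← mul_smul, ← ht.2.2 x (hH.le_K N hS hx), mul_smul, hP x hx]
    · rintro ⟨R, hR, hPR⟩
      rcases isEmpty_or_nonempty {a : {t : G // (∃ R : X, Fx H R ∧ t ∈ D.Z R ∧ t ∉ H) ∧ ¬ t • P = P} // a.1 • P = R}
        with he | ⟨⟨⟨t₁, ⟨S₁, hS₁, ht₁, ht₁H⟩, h₁⟩, h₁'⟩⟩
      · rw [Nat.card_of_isEmpty]
        exact Nat.zero_le _
      · have h₁' : t₁ • P = R := h₁'
        have h₁'' : t₁ • R = P := by rw [← h₁', ← mul_smul, ht₁.2.1, one_smul]
        obtain ⟨x₀, hx₀, hx₀1⟩ := hH.exists_one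
        rw [← hw, hWH]
        refine Nat.card_le_card_of_injective (β := ↥(D.Z P ⊓ H)) (fun a => ⟨t₁ * a.1.1, ?_⟩) ?_
        · obtain ⟨⟨t, ⟨S, hS, ht, htH⟩, h⟩, h'⟩ := a
          have h' : t • P = R := h'
          have h'' : t • R = P := by rw [← h', ← mul_smul, ht.2.1, one_smul]
          show t₁ * t ∈ D.Z P ⊓ H
          have h3 : (t₁ * t) • P = P := by rw [mul_smul, h', h₁'']
          have h4 : (t₁ * t) • R = R := by rw [mul_smul, h'', h₁']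
          have h5 : t₁ * t ∈ H := by
            refine hH.mem_of_fix N hP hR hPR (D.comm_mem (hH.le_K N hP hx₀) hx₀1 h3 ?_) h4
            rw [mul_assoc, ht.2.2 x₀ (hH.le_K N hS hx₀), ← mul_assoc, ht₁.2.2 x₀ (hH.le_K N hS₁ hx₀), mul_assoc]
          have h6 : t • S₁ = S₁ := by
            have h7 := hS₁ _ h5
            have h8 : t₁ • S₁ = S₁ := D.K_le ht₁.1
            rw [mul_smul] at h7
            exact smul_left_cancel t₁ (h7.trans h8.symm)
          have h7 := hmemH hS hS₁ ht htH h6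
          subst h7
          rw [← hWR S hS]
          exact ⟨mul_mem ht₁ ht, h5⟩
        · intro a b hab
          have h3 : t₁ * a.1.1 = t₁ * b.1.1 := congrArg Subtype.val hab
          exact Subtype.ext (Subtype.ext (mul_left_cancel h3))
  have c4 := card_split (fun t : G => ∃ R : X, Fx H R ∧ t ∈ D.Z R ∧ t ∉ H) (fun t => t • P = P)
  rw [c2] at c4
  rw [hz₀, hw]
  obtain ⟨v, hv⟩ : ∃ v, lam = v + 1 := ⟨_, hlam1⟩
  have hv1 : 1 ≤ v := by omega
  have hv' : lam - 1 = v := by omega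
  rw [hv'] at c3
  rw [hv] at c1
  have h9 : v * (z₀ - w) ≤ v * w := by
    have : (v + 1) * (z₀ - w) = v * (z₀ - w) + (z₀ - w) := by ring
    omega
  have h10 := Nat.le_of_mul_le_mul_left h9 (by omega)
  omega

end

end Cfsg.Agent.H90.R3
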