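import Cfsg.Agent.HKS.ModPSpec
import Cfsg.Agent.Fischer160.Srg

/-!
# Strongly regular graphs: integrality of the values of the two constituents

`exists_idem`: the idempotents belonging to the two eigenvalues; `int_elem`: for an automorphism the value is an integer;
`int_group`: for a finite group of automorphisms the dimension of the fixed space; `square_or`: the discriminant is a
square or we are in the half case.
-/

set_option autoImplicit false

namespace Cfsg.Agent.H90.R3.Trace

open Finset
open Cfsg.Agent.Fischer160.Srg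

variable {V : Type*} [Fintype V] [DecidableEq V]

/-- The idempotent of the eigenvalue `(lam - mu + s) / 2`, `s` of either sign. -/
theorem exists_idem [Nonempty V] {A : Matrix V V ℝ} {k lam mu s : ℝ} (h : SrgMat A k lam mu)
    (hs : s ≠ 0) (hs2 : s * s = (lam - mu) * (lam - mu) + 4 * (k - mu)) :
    ∃ M : Matrix V V ℝ, M * M = M ∧
      (∀ P : Matrix V V ℝ, P * A = A * P → P * J V = J V → J V * P = J V → P * M = M * P) ∧
      ∀ P : Matrix V V ℝ, J V * P = J V →
        (M * P).trace = (1 / s) * ((A * P).trace - (lam - mu - s) / 2 * P.trace - (k - (lam - mu - s) / 2)) := by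
  classical
  set τ : ℝ := (lam - mu - s) / 2 with hτ
  set v : ℝ := (Fintype.card V : ℝ) with hv
  have hv0 : v ≠ 0 := by rw [hv]; exact_mod_cast Fintype.card_ne_zero
  set c : ℝ := (k - τ) / v with hc
  set M : Matrix V V ℝ := (1 / s) • (A - τ • (1 : Matrix V V ℝ) - c • J V) with hM
  have hpar := h.param
  have hMM : M * M = M := by
    have e1 : (A - τ • (1 : Matrix V V ℝ) - c • J V) * (A - τ • (1 : Matrix V V ℝ) - c • J V) =
        s • (A - τ • (1 : Matrix V V ℝ) - c • J V) := by
      have e2 : (A - τ • (1 : Matrix V V ℝ) - c • J V) * (A - τ • (1 : Matrix V V ℝ) - c • J V) =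
          (k - mu + τ * τ) • (1 : Matrix V V ℝ) + (lam - mu - 2 * τ) • A +
            (mu - 2 * c * k + 2 * c * τ + c * c * v) • J V := by
        simp only [Matrix.sub_mul, Matrix.mul_sub, Matrix.smul_mul, Matrix.mul_smul, h.sq, h.mulJ,
          h.Jmul, J_mul_J, Matrix.one_mul, Matrix.mul_one, smul_smul, smul_sub]
        ext i j
        simp only [Matrix.sub_apply, Matrix.add_apply, Matrix.smul_apply, smul_eq_mul, ← hv]
        ring
      rw [e2]
      have e3 : k - mu + τ * τ = - (s * τ) := by rw [hτ]; nlinarith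
      have e4 : lam - mu - 2 * τ = s := by rw [hτ]; ring
      have e5 : mu - 2 * c * k + 2 * c * τ + c * c * v = - (s * c) := by
        have e6 : c * v = k - τ := by rw [hc]; field_simp
        have e7 : mu - 2 * c * k + 2 * c * τ + c * c * v = mu - c * (k - τ) := by
          calc mu - 2 * c * k + 2 * c * τ + c * c * v = mu - 2 * c * (k - τ) + c * (c * v) := by ring
            _ = mu - c * (k - τ) := by rw [e6]; ring
        rw [e7]
        have e8 : (mu - c * (k - τ) + s * c) * v = 0 := by
          calc (mu - c * (k - τ) + s * c) * v = mu * v - (c * v) * (k - τ - s) := by ring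
            _ = mu * v - (k - τ) * (k - τ - s) := by rw [e6]
            _ = 0 := by
                rw [hτ]
                nlinarith
        have := (mul_eq_zero.1 e8).resolve_right hv0
        linarith
      rw [e3, e4, e5]
      ext i j
      simp only [Matrix.sub_apply, Matrix.add_apply, Matrix.smul_apply, smul_eq_mul]
      ring
    rw [hM, Matrix.smul_mul, Matrix.mul_smul, smul_smul, e1, smul_smul]
    congr 1
    field_simp
  refine ⟨M, hMM, ?_, ?_⟩
  · intro P hPA hPJ hJP
    rw [hM, Matrix.mul_smul, Matrix.smul_mul]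
    congr 1
    rw [Matrix.mul_sub, Matrix.mul_sub, Matrix.sub_mul, Matrix.sub_mul, hPA, Matrix.mul_smul,
      Matrix.mul_smul, Matrix.smul_mul, Matrix.smul_mul, hPJ, hJP, Matrix.mul_one, Matrix.one_mul]
  · intro P hJP
    rw [hM, Matrix.smul_mul, Matrix.trace_smul, Matrix.sub_mul, Matrix.sub_mul, Matrix.trace_sub,
      Matrix.trace_sub, Matrix.smul_mul, Matrix.smul_mul, Matrix.one_mul, hJP, Matrix.trace_smul,
      Matrix.trace_smul, trace_J, smul_eq_mul, smul_eq_mul, smul_eq_mul]
    congr 2
    rw [hc, ← hv]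
    field_simp

/-- The trace of `M P`, `M` a real idempotent commuting with `P`, `P ^ n = 1`, is an algebraic integer. -/
theorem isIntegral_trace {M P : Matrix V V ℝ} (hM : M * M = M) (hc : P * M = M * P) {n : ℕ} (hn : 0 < n)
    (hP : P ^ n = 1) : IsIntegral ℤ (M * P).trace := by
  have h1 := HKS.ModPSpec.isIntegral_trace_mul (V := V → ℂ)
    (Matrix.toLin' (P.map (algebraMap ℝ ℂ))) (Matrix.toLin' (M.map (algebraMap ℝ ℂ))) n hn ?_ ?_ ?_
  · rw [Module.End.mul_eq_comp, ← Matrix.toLin'_mul, Matrix.trace_toLin'_eq, ← Matrix.map_mul, hc] at h1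
    have h2 : ((M * P).map (algebraMap ℝ ℂ)).trace = algebraMap ℝ ℂ (M * P).trace := by
      simp [Matrix.trace, Matrix.map_apply]
    rw [h2] at h1
    exact (isIntegral_algebraMap_iff (algebraMap ℝ ℂ).injective).1 h1
  · rw [← Matrix.toLin'_pow]
    have h3 : (P.map (algebraMap ℝ ℂ)) ^ n = 1 := by
      have := congrArg (fun Q : Matrix V V ℝ => Q.map (algebraMap ℝ ℂ)) hP
      rw [Matrix.map_pow] at this
      rw [this]
      exact Matrix.map_one _ (map_zero _) (map_one _)
    rw [h3, Matrix.toLin'_one]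
    rfl
  · rw [Module.End.mul_eq_comp, ← Matrix.toLin'_mul, ← Matrix.map_mul, hM]
  · rw [Module.End.mul_eq_comp, Module.End.mul_eq_comp, ← Matrix.toLin'_mul, ← Matrix.toLin'_mul, ← Matrix.map_mul,
      ← Matrix.map_mul, hc]

/-- **Integrality for an automorphism.** -/
theorem int_elem [Nonempty V] {A : Matrix V V ℝ} {k lam mu s τ a p : ℤ} (h : SrgMat A k lam mu)
    (hs : s ≠ 0) (hs2 : s * s = (lam - mu) * (lam - mu) + 4 * (k - mu)) (hτ : 2 * τ = lam - mu - s)
    {P : Matrix V V ℝ} (hPA : P * A = A * P) (hPJ : P * J V = J V) (hJP : J V * P = J V) {n : ℕ} (hn : 0 < n)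
    (hP : P ^ n = 1) (ha : (A * P).trace = a) (hp : P.trace = p) : s ∣ a - τ * p - (k - τ) := by
  have hs' : (s : ℝ) ≠ 0 := by exact_mod_cast hs
  have hs2' : (s : ℝ) * s = ((lam : ℝ) - mu) * (lam - mu) + 4 * (k - mu) := by exact_mod_cast hs2
  obtain ⟨M, hM, hcom, htr⟩ := exists_idem h hs' hs2'
  have h1 := isIntegral_trace hM (hcom P hPA hPJ hJP) hn hP
  rw [htr P hJP, ha, hp] at h1
  have hτ' : ((lam : ℝ) - mu - s) / 2 = τ := by
    have : (2 : ℝ) * τ = lam - mu - s := by exact_mod_cast hτ
    linarith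
  rw [hτ'] at h1
  have h2 : (1 / (s : ℝ)) * (a - τ * p - (k - τ)) = algebraMap ℚ ℝ ((a - τ * p - (k - τ)) / s) := by
    simp only [eq_ratCast]
    push_cast
    field_simp
  rw [h2, isIntegral_algebraMap_iff (algebraMap ℚ ℝ).injective] at h1
  obtain ⟨z, hz⟩ := IsIntegrallyClosed.isIntegral_iff.1 h1
  refine ⟨z, ?_⟩
  have h3 : ((a - τ * p - (k - τ) : ℤ) : ℚ) = ((s * z : ℤ) : ℚ) := by
    have hs'' : (s : ℚ) ≠ 0 := by exact_mod_cast hs
    push_cast
    rw [eq_intCast] at hz
    rw [hz]
    field_simp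
  exact_mod_cast h3

/-- **Integrality for a group of automorphisms.** -/
theorem int_group [Nonempty V] {A : Matrix V V ℝ} {k lam mu s : ℝ}
    (h : SrgMat A k lam mu)
    (hs : s ≠ 0) (hs2 : s * s = (lam - mu) * (lam - mu) + 4 * (k - mu)) {K : Type*} [Group K]
    [Fintype K] (P : K → Matrix V V ℝ) (hP : ∀ g h : K, P (g * h) = P g * P h)
    (hPA : ∀ g, P g * A = A * P g) (hPJ : ∀ g, P g * J V = J V) (hJP : ∀ g, J V * P g = J V) :
    ∃ n : ℕ, ∑ g : K, ((A * P g).trace - ((lam - mu - s) / 2) * (P g).trace -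
      (k - (lam - mu - s) / 2)) = Fintype.card K * s * n := by
  classical
  obtain ⟨M, hMM, hcom, htr⟩ := exists_idem h hs hs2
  set m : ℝ := (Fintype.card K : ℝ) with hm
  have hm0 : m ≠ 0 := by rw [hm]; exact_mod_cast Fintype.card_ne_zero
  set E : Matrix V V ℝ := (1 / m) • ∑ g : K, P g with hE
  have hEE : E * E = E := by
    have e1 : (∑ g : K, P g) * (∑ g : K, P g) = m • ∑ g : K, P g := by
      rw [Finset.sum_mul]
      have : ∀ g : K, P g * ∑ h : K, P h = ∑ h : K, P h := by
        intro g
        rw [Finset.mul_sum]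
        simp only [← hP]
        exact Fintype.sum_equiv (Equiv.mulLeft g) _ _ (fun x => rfl)
      simp only [this, Finset.sum_const, Finset.card_univ, hm]
      rw [← Nat.cast_smul_eq_nsmul ℝ]
    rw [hE, Matrix.smul_mul, Matrix.mul_smul, smul_smul, e1, smul_smul]
    congr 1
    field_simp
  have hPM : ∀ g, P g * M = M * P g := fun g => hcom _ (hPA g) (hPJ g) (hJP g)
  have hEM : E * M = M * E := by
    have e0 : (∑ g : K, P g) * M = M * ∑ g : K, P g := by
      rw [Finset.sum_mul, Finset.mul_sum]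
      exact Finset.sum_congr rfl (fun g _ => hPM g)
    rw [hE, Matrix.smul_mul, e0]
    exact (Matrix.mul_smul M (1 / m) _).symm
  have hN : (M * E) * (M * E) = M * E := by
    calc (M * E) * (M * E) = M * (E * M) * E := by simp only [Matrix.mul_assoc]
      _ = M * (M * E) * E := by rw [hEM]
      _ = (M * M) * (E * E) := by simp only [Matrix.mul_assoc]
      _ = M * E := by rw [hMM, hEE]
  obtain ⟨n, hn⟩ := trace_idempotent _ hN
  refine ⟨n, ?_⟩
  rw [← hn, hE, Matrix.mul_smul, Matrix.trace_smul, Finset.mul_sum, Matrix.trace_sum, smul_eq_mul]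
  rw [Finset.sum_congr rfl (fun g _ => htr (P g) (hJP g)), ← Finset.mul_sum]
  set S := ∑ g : K, ((A * P g).trace - ((lam - mu - s) / 2) * (P g).trace - (k - (lam - mu - s) / 2))
  field_simp

end Cfsg.Agent.H90.R3.Trace
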